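import Cfsg.Agent.Lib.OddChar.PartF

/-! # No group of odd order is partitioned by Frobenius kernels of pairwise coprime orders. -/

set_option autoImplicit false

namespace Cfsg.Agent.Lib.OddChar

open Cfsg Cfsg.Agent.Lib.Char
open scoped ComplexConjugate

section Numeric

variable {ι : Type*} [Fintype ι] [DecidableEq ι]

theorem numeric_final (j : ι) (N : ℝ) (h t g x y : ι → ℝ) (e f2 : ℝ) (hN : 0 < N) (hjpos : 0 < h j)
    (hmin : ∀ k, h j ≤ h k) (hgdef : ∀ k, g k = t k / h k) (ht0 : ∀ k, 0 ≤ t k)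
    (hsum : ∑ k, g k = 1 - 1 / N) (hhj : h j = 1 + t j * e) (htj : 2 ≤ t j) (he : 2 ≤ e)
    (hrow : f2 / N + ∑ k ∈ Finset.univ.filter (· ≠ j), g k * x k ≤ e / h j)
    (hcol : ∑ k ∈ Finset.univ.filter (· ≠ j), t k * y k ≤ e - 1)
    (hy0 : ∀ k, 0 ≤ y k) (hpar : ∀ k, k ≠ j → 1 ≤ x k + y k) : f2 ≤ 1 := by
  by_contra hf
  push Not at hf
  have hg0 : ∀ k, 0 ≤ g k := by
    intro k
    rw [hgdef]
    exact div_nonneg (ht0 k) (hjpos.le.trans (hmin k))
  have hsplit : ∑ k ∈ Finset.univ.filter (· ≠ j), g k = 1 - 1 / N - g j := by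
    rw [Finset.filter_ne', ← hsum, ← Finset.add_sum_erase _ _ (Finset.mem_univ j)]
    ring
  have hB : ∑ k ∈ Finset.univ.filter (· ≠ j), g k * y k ≤ (∑ k ∈ Finset.univ.filter (· ≠ j), t k * y k) / h j := by
    rw [Finset.sum_div]
    refine Finset.sum_le_sum fun k _ => ?_
    rw [hgdef, div_mul_eq_mul_div]
    exact div_le_div_of_nonneg_left (mul_nonneg (ht0 k) (hy0 k)) hjpos (hmin k)
  have hS : ∑ k ∈ Finset.univ.filter (· ≠ j), g k ≤
      ∑ k ∈ Finset.univ.filter (· ≠ j), g k * x k + ∑ k ∈ Finset.univ.filter (· ≠ j), g k * y k := by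
    rw [← Finset.sum_add_distrib]
    refine Finset.sum_le_sum fun k hk => ?_
    have := mul_le_mul_of_nonneg_left (hpar k (Finset.mem_filter.mp hk).2) (hg0 k)
    linarith
  have hC : (∑ k ∈ Finset.univ.filter (· ≠ j), t k * y k) / h j ≤ (e - 1) / h j :=
    div_le_div_of_nonneg_right hcol hjpos.le
  have hmain : 1 - 1 / N - t j / h j ≤ e / h j - f2 / N + (e - 1) / h j := by
    rw [hsplit, hgdef j] at hS
    linarith
  have h1 : (1 - 1 / N - t j / h j) * (h j * N) ≤ (e / h j - f2 / N + (e - 1) / h j) * (h j * N) :=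
    mul_le_mul_of_nonneg_right hmain (by positivity)
  have e1 : (1 - 1 / N - t j / h j) * (h j * N) = h j * N - h j - t j * N := by
    field_simp
  have e2 : (e / h j - f2 / N + (e - 1) / h j) * (h j * N) = e * N - f2 * h j + (e - 1) * N := by
    field_simp
  rw [e1, e2] at h1
  have h2 : (t j - 2) * (e - 1) * N ≤ (1 - f2) * h j := by
    have : (t j - 2) * (e - 1) * N = (h j - t j - 2 * e + 1) * N := by
      rw [hhj]
      ring
    rw [this]
    nlinarith
  have h3 : 0 ≤ (t j - 2) * (e - 1) * N := by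
    apply mul_nonneg (mul_nonneg (by linarith) (by linarith)) hN.le
  have h4 : (1 - f2) * h j < 0 := mul_neg_of_neg_of_pos (by linarith) hjpos
  linarith

theorem numeric_final2 (j : ι) (N : ℝ) (h t g x : ι → ℝ) (e f2 : ℝ) (hN : 0 < N) (hjpos : 0 < h j)
    (hgdef : ∀ k, g k = t k / h k) (hg0 : ∀ k, 0 ≤ g k)
    (hsum : ∑ k, g k = 1 - 1 / N) (hhj : h j = 1 + t j * e) (htj : 2 ≤ t j) (he : 2 ≤ e)
    (hrow : f2 / N + ∑ k ∈ Finset.univ.filter (· ≠ j), g k * x k ≤ e / h j)
    (hf : 1 ≤ f2) (hx : ∀ k, k ≠ j → 1 ≤ x k) : False := by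
  have hsplit : ∑ k ∈ Finset.univ.filter (· ≠ j), g k = 1 - 1 / N - g j := by
    rw [Finset.filter_ne', ← hsum, ← Finset.add_sum_erase _ _ (Finset.mem_univ j)]
    ring
  have hS : ∑ k ∈ Finset.univ.filter (· ≠ j), g k ≤ ∑ k ∈ Finset.univ.filter (· ≠ j), g k * x k := by
    refine Finset.sum_le_sum fun k hk => ?_
    have := mul_le_mul_of_nonneg_left (hx k (Finset.mem_filter.mp hk).2) (hg0 k)
    linarith
  have hf2 : 1 / N ≤ f2 / N := div_le_div_of_nonneg_right hf hN.le
  have hmain : 1 - t j / h j ≤ e / h j := by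
    rw [hsplit, hgdef j] at hS
    linarith
  have h1 : (1 - t j / h j) * h j ≤ (e / h j) * h j := mul_le_mul_of_nonneg_right hmain hjpos.le
  have e1 : (1 - t j / h j) * h j = h j - t j := by
    field_simp
  have e2 : (e / h j) * h j = e := by
    field_simp
  rw [e1, e2, hhj] at h1
  nlinarith

end Numeric

section Main

variable {G : Type*} [Group G] [Fintype G]

theorem Piece.exists_t {H L : Subgroup G} [Fintype L] (P : Piece H L) (hodd : Odd (Nat.card G)) :
    ∃ t : ℕ, Nat.card H = 1 + t * P.e ∧ 2 ≤ t := by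
  haveI := P.geom.normal
  have h1 := index_dvd_card_sub_one_of_fpf P.geom.fpf
  have e1 : Nat.card (H.subgroupOf L) = Nat.card H :=
    Nat.card_congr (Subgroup.subgroupOfEquivOfLe P.geom.lt.le).toEquiv
  rw [e1] at h1
  obtain ⟨t, ht⟩ := h1
  have hh1 : 1 < Nat.card H := by
    haveI := (Subgroup.nontrivial_iff_ne_bot H).mpr P.geom.ne_bot
    exact Finite.one_lt_card
  have hL : Odd (Nat.card L) := Odd.of_dvd_nat hodd (Subgroup.card_subgroup_dvd_card L)
  have hH : Odd (Nat.card H) := Odd.of_dvd_nat hodd (Subgroup.card_subgroup_dvd_card H)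
  have he : Odd P.e := Odd.of_dvd_nat hL ⟨Nat.card (H.subgroupOf L), by
    show Nat.card L = (H.subgroupOf L).index * _
    rw [mul_comm, (H.subgroupOf L).card_mul_index]⟩
  have heq : Nat.card H = 1 + t * P.e := by
    have : t * P.e = Nat.card H - 1 := by
      rw [ht]
      exact mul_comm _ _
    omega
  refine ⟨t, heq, ?_⟩
  have ht0 : t ≠ 0 := by
    rintro rfl
    omega
  have hteven : Even t := by
    by_contra hc
    have hto : Odd t := Nat.not_even_iff_odd.mp hc
    have h2 : Odd (t * P.e) := hto.mul he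
    rw [heq] at hH
    have h3 : Even (1 + t * P.e) := by
      rw [add_comm]
      exact h2.add_odd odd_one
    exact (Nat.not_even_iff_odd.mpr hH) h3
  obtain ⟨r, rfl⟩ := hteven
  omega

theorem Piece.two_le_e {H L : Subgroup G} [Fintype L] (P : Piece H L) : 2 ≤ P.e := by
  have h0 : P.e ≠ 0 := Subgroup.index_ne_zero_of_finite
  have h1 : P.e ≠ 1 := by
    intro h
    have htop : H.subgroupOf L = ⊤ := Subgroup.index_eq_one.mp h
    obtain ⟨x, hx, hx'⟩ := SetLike.exists_of_lt P.geom.lt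
    apply hx'
    have : (⟨x, hx⟩ : L) ∈ H.subgroupOf L := by rw [htop]; trivial
    exact this
  omega

theorem Piece.exists_f {H L : Subgroup G} [Fintype L] (P : Piece H L) :
    ∃ f : ℤ, f ≠ 0 ∧ P.τ P.χ₀ 1 = f := by
  obtain ⟨a, ha0, ha⟩ := IsIrrCharacter.apply_one (P.irr _ P.mem)
  have h1 : P.τ P.χ₀ 1 = P.ε * a := by
    have h2 := congrFun (P.smul_smul_tau P.χ₀) 1
    rw [Pi.smul_apply, ha, smul_eq_mul] at h2
    exact h2.symm
  rcases P.hε with h | h
  · refine ⟨a, by omega, ?_⟩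
    rw [h1, h]
    simp
  · refine ⟨-a, by omega, ?_⟩
    rw [h1, h]
    simp

variable {ι : Type*} [Fintype ι] (H L : ι → Subgroup G) [∀ i, Fintype (L i)]

theorem partition_false (hodd : Odd (Nat.card G)) [Nonempty ι] (hg : ∀ i, FrobGeom (H i) (L i))
    (hcop : ∀ i j, i ≠ j → Nat.Coprime (Nat.card (H i)) (Nat.card (H j)))
    (hcover : ∀ g : G, g ≠ 1 → ∃ i, ∃ x : G, x * g * x⁻¹ ∈ H i) : False := by
  classical
  have P : ∀ i, Piece (H i) (L i) := fun i => Classical.choice ((hg i).exists_piece hodd)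
  -- disjointness of the Dade images
  have hdisj : ∀ k k', k ≠ k' → ∀ α ∈ Cfsg.zspan (Cfsg.inducedIrrAbove ((H k).subgroupOf (L k)) ⊥), α 1 = 0 →
      ∀ β ∈ Cfsg.zspan (Cfsg.inducedIrrAbove ((H k').subgroupOf (L k')) ⊥), β 1 = 0 →
        classInner (indFun (L k) α) (indFun (L k') β) = 0 := by
    intro k k' hkk α hα hα1 β hβ hβ1
    haveI := (hg k).normal
    haveI := (hg k').normal
    rw [classInner_indFun_right (L k') β _ (isClassFunction_indFun (L k) α)]
    have h1 : ∀ x : L k', indFun (L k) α x * conj (β x) = 0 := by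
      intro x
      by_cases hx : (x : G) ∈ H k' ∧ x ≠ 1
      · have h2 : indFun (L k) α x = 0 := by
          apply indFun_eq_zero_of_no_conj (H := H k)
          · intro y hy
            exact frob_vanish _ hα (fun h => hy (Subgroup.mem_subgroupOf.mp h))
          · exact no_conj_of_coprime (hcop k k' hkk) hx.1 (fun h => hx.2 (Subtype.ext h))
        rw [h2, zero_mul]
      · have h2 : β x = 0 := by
          by_cases hxH : (x : G) ∈ H k'
          · have hx1 : x = 1 := by
              by_contra h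
              exact hx ⟨hxH, h⟩
            rw [hx1, hβ1]
          · exact frob_vanish _ hβ (fun h => hxH (Subgroup.mem_subgroupOf.mp h))
        rw [h2, map_zero, mul_zero]
    simp [classInner, h1]
  have hcross : ∀ k k', k ≠ k' → ∀ χ ∈ Cfsg.inducedIrrAbove ((H k).subgroupOf (L k)) ⊥,
      ∀ χ' ∈ Cfsg.inducedIrrAbove ((H k').subgroupOf (L k')) ⊥, classInner ((P k).τ χ) ((P k').τ χ') = 0 :=
    fun k k' hkk χ hχ χ' hχ' => (P k).cross (P k') (hdisj k k' hkk) hχ hχ'
  -- the constant values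
  have hvex : ∀ j k, ∃ v m : ℤ, j ≠ k → (∀ x ∈ H k, x ≠ 1 → (P j).τ (P j).χ₀ x = v) ∧
      (P j).τ (P j).χ₀ 1 = v + m * (Nat.card (H k) : ℂ) := by
    intro j k
    by_cases hjk : j = k
    · exact ⟨0, 0, fun h => absurd hjk h⟩
    · obtain ⟨v, m, h1, h2⟩ := (P j).const_other (P k) (hg k).ne_bot
        (fun χ' hχ' => hcross j k hjk _ (P j).mem _ hχ')
      exact ⟨v, m, fun _ => ⟨h1, h2⟩⟩
  choose v m hvm using hvex
  have hwex := fun i => (P i).const_self_int
  choose w hw using hwex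
  have hfex := fun i => (P i).exists_f
  choose f hf0 hf using hfex
  have htex := fun i => (P i).exists_t hodd
  choose t ht ht2 using htex
  obtain ⟨j, hj⟩ := Finite.exists_min (fun k => Nat.card (H k))
  -- realness of `R`
  have hRre : ∀ i y, ((P i).R y).im = 0 := by
    intro i y
    by_cases hy : y = 1
    · subst hy
      rw [(P i).R_one, hf i]
      simp
    · obtain ⟨i₀, x, hx⟩ := hcover y hy
      have hy' : x * y * x⁻¹ ≠ 1 := by
        intro h
        apply hy
        have : y = x⁻¹ * (x * y * x⁻¹) * x := by group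
        rw [this, h]
        group
      have hcl := IsGeneralizedCharacter.isClassFunction (P i).R_isGen y x
      rw [← hcl]
      by_cases hii : i₀ = i
      · subst hii
        have hmemL := (hg i₀).lt.le hx
        have hne : (⟨_, hmemL⟩ : L i₀) ≠ 1 := fun h => hy' (congrArg Subtype.val h)
        have h1 := (P i₀).R_of_mem (x := ⟨_, hmemL⟩) hx hne
        have h2 := hw i₀ ⟨_, hmemL⟩ hx hne
        simp only at h1 h2
        rw [h1, h2]
        simp
      · rw [(P i).R_of_no_conj (no_conj_of_coprime (hcop i i₀ (Ne.symm hii)) hx hy'),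
          ((hvm i i₀) (Ne.symm hii)).1 _ hx hy']
        simp
  -- parity
  have hpar : ∀ k, k ≠ j → v j k ≠ 0 ∨ v k j ≠ 0 := by
    intro k hk
    obtain ⟨a, b, c, ha, hb, hc, hev⟩ := parity_inner hodd (P j).R_isGen (P k).R_isGen (hRre j) (hRre k)
    have ha1 : a = 1 := by
      rw [(P j).R_inner_one] at ha
      exact_mod_cast ha.symm
    have hb1 : b = 1 := by
      rw [(P k).R_inner_one] at hb
      exact_mod_cast hb.symm
    have h1 := (P j).R_inner (P k) (hcop j k (Ne.symm hk)) (hcross j k (Ne.symm hk) _ (P j).mem _ (P k).mem)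
      (v j k) (v k j) ((hvm j k) (Ne.symm hk)).1 ((hvm k j) hk).1
    rw [hc] at h1
    have hc1 : c = v j k + v k j := by exact_mod_cast h1
    rw [ha1, hb1, hc1] at hev
    by_contra hcon
    push Not at hcon
    rw [hcon.1, hcon.2] at hev
    revert hev
    decide
  -- numbers
  have hN : (0 : ℝ) < Nat.card G := by exact_mod_cast Nat.card_pos
  have hhpos : ∀ k, (0 : ℝ) < Nat.card (H k) := fun k => by exact_mod_cast Nat.card_pos
  have hepos : ∀ k, (0 : ℝ) < (P k).e := fun k => by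
    have := (P k).two_le_e
    exact_mod_cast (by omega : 0 < (P k).e)
  let g : ι → ℝ := fun k => ((Nat.card (H k) : ℝ) - 1) / (Nat.card (L k) : ℝ)
  have hhk : ∀ k, (Nat.card (H k) : ℝ) = 1 + t k * (P k).e := fun k => by exact_mod_cast ht k
  have hLk : ∀ k, (Nat.card (L k) : ℝ) = (Nat.card (H k) : ℝ) * (P k).e := fun k => by
    have := (P k).card_L_eq
    exact_mod_cast this
  have hgt : ∀ k, g k = (t k : ℝ) / (Nat.card (H k) : ℝ) := by
    intro k
    show ((Nat.card (H k) : ℝ) - 1) / (Nat.card (L k) : ℝ) = _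
    have h1 := hepos k
    have h2 := hhpos k
    rw [hLk]
    have h3 : (Nat.card (H k) : ℝ) - 1 = t k * (P k).e := by
      rw [hhk k]
      ring
    rw [h3]
    field_simp
  have hgc : ∀ k, (((g k : ℝ)) : ℂ) = ((Nat.card (H k) : ℂ) - 1) / (Nat.card (L k) : ℂ) := by
    intro k
    show ((((Nat.card (H k) : ℝ) - 1) / (Nat.card (L k) : ℝ) : ℝ) : ℂ) = _
    push_cast
    rfl
  -- sum of the densities
  have hsum : ∑ k, g k = 1 - 1 / (Nat.card G : ℝ) := by
    have h1 := partition_inner H L hg hcop hcover (fun _ => 1) (fun _ _ => rfl)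
    rw [classInner_irr_self (isIrrCharacter_one (G := G))] at h1
    have h2 : ∀ k, classInner (fun _ : L k => (1 : ℂ)) (kerInd (H k) (L k)) = (g k : ℂ) := by
      intro k
      rw [inner_kerInd_of_const (hg k) _ 1 (fun _ _ _ => rfl), one_mul, hgc]
    simp only [h2] at h1
    have h3 : (((∑ k, g k : ℝ)) : ℂ) = ((1 - 1 / (Nat.card G : ℝ) : ℝ) : ℂ) := by
      push_cast
      linear_combination -h1
    exact_mod_cast h3
  -- the column inequality
  have hcol : ∑ k ∈ Finset.univ.filter (· ≠ j), (t k : ℝ) * ((v k j : ℝ)) ^ 2 ≤ ((P j).e : ℝ) - 1 := by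
    have h1 := bessel_family H L hcop P hcross j (fun k => v k j) (fun k hk x hx hx1 => ((hvm k j) hk).1 x hx hx1)
    have h2 : ∀ k, ((Nat.card (H k) : ℝ) - 1) / ((P k).e : ℝ) = t k := by
      intro k
      have h3 := hepos k
      rw [hhk k]
      field_simp
      ring
    simp only [h2] at h1
    have h3 : ((Nat.card (H j) : ℝ) - 1) / (Nat.card (L j) : ℝ) = g j := rfl
    rw [h3, hgt j] at h1
    have hhj := hhpos j
    rw [div_mul_eq_mul_div, div_le_one hhj, hhk j] at h1
    -- integrality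
    let Y : ℤ := ∑ k ∈ Finset.univ.filter (· ≠ j), (t k : ℤ) * (v k j) ^ 2
    have hY : (Y : ℝ) = ∑ k ∈ Finset.univ.filter (· ≠ j), (t k : ℝ) * ((v k j : ℝ)) ^ 2 := by
      simp [Y]
    rw [← hY] at h1 ⊢
    have h4 : (t j : ℤ) * (1 + Y) ≤ 1 + t j * ((P j).e : ℤ) := by exact_mod_cast h1
    have h5 : (2 : ℤ) ≤ t j := by exact_mod_cast ht2 j
    have h6 : Y ≤ ((P j).e : ℤ) - 1 := by
      by_contra hc
      push Not at hc
      have h7 : (P j).e ≤ Y := by omega
      nlinarith
    have h8 : (Y : ℝ) ≤ (((P j).e : ℤ) - 1 : ℤ) := by exact_mod_cast h6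
    simpa using h8
  -- the row inequality
  have hrow : ((f j : ℝ)) ^ 2 / (Nat.card G : ℝ) + ∑ k ∈ Finset.univ.filter (· ≠ j), g k * ((v j k : ℝ)) ^ 2 ≤
      ((P j).e : ℝ) / (Nat.card (H j) : ℝ) := by
    set u : G → ℂ := (P j).τ (P j).χ₀ with hu
    have hucl : IsClassFunction G u := (P j).tau_isClass
    have hφcl : IsClassFunction G (fun y => u y * conj (u y)) := by
      intro y x
      show u (x * y * x⁻¹) * conj (u (x * y * x⁻¹)) = _
      rw [hucl y x]
    have h1 := partition_inner H L hg hcop hcover (fun y => u y * conj (u y)) hφcl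
    have hnorm : classInner (fun y => u y * conj (u y)) (fun _ => 1) = 1 := by
      have h2 := (P j).iso.2.2.1 _ ((P j).memz (P j).mem) _ ((P j).memz (P j).mem)
      rw [classInner_irr_self ((P j).irrL (P j).mem)] at h2
      have h3 : classInner (fun y => u y * conj (u y)) (fun _ => 1) = classInner u u := by
        unfold classInner
        simp only [map_one, mul_one]
      rw [h3]
      exact h2
    rw [hnorm] at h1
    have h2 : ∀ k ∈ Finset.univ.filter (· ≠ j),
        classInner (fun x : L k => u x * conj (u x)) (kerInd (H k) (L k)) = ((g k * ((v j k : ℝ)) ^ 2 : ℝ) : ℂ) := by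
      intro k hk
      have hk' : k ≠ j := (Finset.mem_filter.mp hk).2
      rw [inner_kerInd_of_const (hg k) _ ((v j k : ℂ) ^ 2) (fun x hx hx1 => ?_), ← hgc]
      · push_cast
        ring
      · have hx1' : (x : G) ≠ 1 := fun h => hx1 (Subtype.ext h)
        have h3 : u x = v j k := ((hvm j k) (Ne.symm hk')).1 _ hx hx1'
        simp only [h3, map_intCast]
        ring
    have h3 := (P j).row_self (w j) (hw j)
    rw [← Finset.add_sum_erase _ _ (Finset.mem_univ j), ← Finset.filter_ne', Finset.sum_congr rfl h2, h3] at h1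
    have h4 : u 1 * conj (u 1) = (((f j : ℝ)) ^ 2 : ℝ) := by
      rw [hu, hf j]
      simp only [map_intCast]
      push_cast
      ring
    simp only [h4] at h1
    -- in the reals
    have h5 : (0 : ℝ) = ((f j : ℝ)) ^ 2 / (Nat.card G : ℝ) + (∑ k ∈ Finset.univ.filter (· ≠ j), g k * ((v j k : ℝ)) ^ 2) +
        (((w j : ℝ)) ^ 2 * ((Nat.card (H j) : ℝ) - 1) - ((P j).e : ℝ) ^ 2 - 2 * (w j : ℝ) * (P j).e) / (Nat.card (L j) : ℝ) := by
      have h6 : ((0 : ℝ) : ℂ) = ((((f j : ℝ)) ^ 2 / (Nat.card G : ℝ) + (∑ k ∈ Finset.univ.filter (· ≠ j), g k * ((v j k : ℝ)) ^ 2) +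
          (((w j : ℝ)) ^ 2 * ((Nat.card (H j) : ℝ) - 1) - ((P j).e : ℝ) ^ 2 - 2 * (w j : ℝ) * (P j).e) / (Nat.card (L j) : ℝ) : ℝ) : ℂ) := by
        push_cast at h1 ⊢
        linear_combination h1
      exact_mod_cast h6
    have hej := hepos j
    have hhj := hhpos j
    have h7 : (((w j : ℝ)) ^ 2 * ((Nat.card (H j) : ℝ) - 1) - ((P j).e : ℝ) ^ 2 - 2 * (w j : ℝ) * (P j).e) / (Nat.card (L j) : ℝ) =
        (((w j : ℝ)) ^ 2 * t j - ((P j).e : ℝ) - 2 * (w j : ℝ)) / (Nat.card (H j) : ℝ) := by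
      rw [hLk j]
      have h8 : (Nat.card (H j) : ℝ) - 1 = t j * (P j).e := by
        rw [hhk j]
        ring
      rw [h8]
      field_simp
    rw [h7] at h5
    have h9 : 0 ≤ ((w j : ℝ)) ^ 2 * t j - 2 * (w j : ℝ) := by
      have h10 : (2 : ℝ) ≤ t j := by exact_mod_cast ht2 j
      have h11 : (w j : ℝ) ≤ ((w j : ℝ)) ^ 2 := by
        have h12 : w j ≤ (w j) ^ 2 := by
          rcases le_or_gt (w j) 0 with h | h
          · nlinarith
          · nlinarith
        exact_mod_cast h12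
      nlinarith [sq_nonneg (w j : ℝ)]
    have h13 : (((w j : ℝ)) ^ 2 * t j - ((P j).e : ℝ) - 2 * (w j : ℝ)) / (Nat.card (H j) : ℝ) =
        (((w j : ℝ)) ^ 2 * t j - 2 * (w j : ℝ)) / (Nat.card (H j) : ℝ) - ((P j).e : ℝ) / (Nat.card (H j) : ℝ) := by
      ring
    rw [h13] at h5
    have h14 : 0 ≤ (((w j : ℝ)) ^ 2 * t j - 2 * (w j : ℝ)) / (Nat.card (H j) : ℝ) := div_nonneg h9 hhj.le
    linarith
  have hg0 : ∀ k, 0 ≤ g k := fun k => by
    rw [hgt]
    positivity
  have htj : (2 : ℝ) ≤ t j := by exact_mod_cast ht2 j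
  have hej : (2 : ℝ) ≤ (P j).e := by exact_mod_cast (P j).two_le_e
  have hle1 : ((f j : ℝ)) ^ 2 ≤ 1 := by
    refine numeric_final j (Nat.card G) (fun k => Nat.card (H k)) (fun k => t k) g (fun k => ((v j k : ℝ)) ^ 2)
      (fun k => ((v k j : ℝ)) ^ 2) (P j).e _ hN (hhpos j) (fun k => by exact_mod_cast hj k) hgt (fun k => by positivity)
      hsum (hhk j) htj hej hrow hcol (fun k => by positivity) (fun k hk => ?_)
    rcases hpar k hk with h | h
    · have h1 : 1 ≤ (v j k) ^ 2 := by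
        have := Int.one_le_abs h
        nlinarith [sq_abs (v j k), abs_nonneg (v j k)]
      have h2 : (1 : ℝ) ≤ ((v j k : ℝ)) ^ 2 := by exact_mod_cast h1
      have h3 := sq_nonneg (v k j : ℝ)
      show (1 : ℝ) ≤ ((v j k : ℝ)) ^ 2 + ((v k j : ℝ)) ^ 2
      linarith
    · have h1 : 1 ≤ (v k j) ^ 2 := by
        have := Int.one_le_abs h
        nlinarith [sq_abs (v k j), abs_nonneg (v k j)]
      have h2 : (1 : ℝ) ≤ ((v k j : ℝ)) ^ 2 := by exact_mod_cast h1
      have h3 := sq_nonneg (v j k : ℝ)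
      show (1 : ℝ) ≤ ((v j k : ℝ)) ^ 2 + ((v k j : ℝ)) ^ 2
      linarith
  have hf1 : (f j) ^ 2 = 1 := by
    have h1 : (f j) ^ 2 ≤ 1 := by exact_mod_cast hle1
    have h2 : 1 ≤ (f j) ^ 2 := by
      have := Int.one_le_abs (hf0 j)
      nlinarith [sq_abs (f j), abs_nonneg (f j)]
    omega
  refine numeric_final2 j (Nat.card G) (fun k => Nat.card (H k)) (fun k => t k) g (fun k => ((v j k : ℝ)) ^ 2)
    (P j).e ((f j : ℝ) ^ 2) hN (hhpos j) hgt hg0 hsum (hhk j) htj hej hrow (by exact_mod_cast hf1.ge) (fun k hk => ?_)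
  -- `v j k ≠ 0` since the degree is `± 1`
  have hk' : j ≠ k := Ne.symm hk
  have hne : v j k ≠ 0 := by
    intro h0
    have h1 := ((hvm j k) hk').2
    rw [hf j, h0] at h1
    have h2 : f j = m j k * Nat.card (H k) := by
      have : ((f j : ℤ) : ℂ) = ((m j k * Nat.card (H k) : ℤ) : ℂ) := by
        push_cast at h1 ⊢
        rw [h1]
        ring
      exact_mod_cast this
    have hh2 : 1 < Nat.card (H k) := by
      haveI := (Subgroup.nontrivial_iff_ne_bot (H k)).mpr (hg k).ne_bot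
      exact Finite.one_lt_card
    have hd : (Nat.card (H k) : ℤ) ∣ 1 := by
      have h3 : (Nat.card (H k) : ℤ) ∣ (f j) ^ 2 := by
        rw [h2]
        exact Dvd.dvd.pow (Dvd.intro_left _ rfl) (by norm_num)
      rwa [hf1] at h3
    have h4 : (Nat.card (H k) : ℤ) ≤ 1 := Int.le_of_dvd one_pos hd
    have h5 : (1 : ℤ) < Nat.card (H k) := by exact_mod_cast hh2
    omega
  have h1 : 1 ≤ (v j k) ^ 2 := by
    have := Int.one_le_abs hne
    nlinarith [sq_abs (v j k), abs_nonneg (v j k)]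
  exact_mod_cast h1

end Main

end Cfsg.Agent.Lib.OddChar
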