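import Cfsg.Agent.Lib.OddChar.NilpAux

/-! # The subgroups `{x ∈ K | x ^ m ∈ H}` for `K / H` abelian. -/

set_option autoImplicit false

namespace Cfsg.Agent.Lib.OddChar

variable {L : Type*} [Group L]

/-- The subgroup of the elements of `K` with `m`-th power in `H`, when `K / H` is abelian. -/
def powSub (K H : Subgroup L) [H.Normal] (hcomm : ∀ a ∈ K, ∀ b ∈ K, a * b * a⁻¹ * b⁻¹ ∈ H) (m : ℕ) : Subgroup L where
  carrier := {x | x ∈ K ∧ x ^ m ∈ H}
  one_mem' := ⟨K.one_mem, by simp [H.one_mem]⟩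
  inv_mem' := by
    rintro x ⟨h1, h2⟩
    refine ⟨K.inv_mem h1, ?_⟩
    rw [inv_pow]
    exact H.inv_mem h2
  mul_mem' := by
    rintro x y ⟨h1, h2⟩ ⟨h3, h4⟩
    refine ⟨K.mul_mem h1 h3, ?_⟩
    have hc : Commute (x : L ⧸ H) (y : L ⧸ H) := by
      show (x : L ⧸ H) * y = y * x
      rw [← QuotientGroup.mk_mul, ← QuotientGroup.mk_mul, QuotientGroup.eq]
      have h5 := hcomm _ (K.inv_mem h3) _ (K.inv_mem h1)
      have e : (x * y)⁻¹ * (y * x) = y⁻¹ * x⁻¹ * y⁻¹⁻¹ * x⁻¹⁻¹ := by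
        group
      rw [e]
      exact h5
    apply (QuotientGroup.eq_one_iff _).mp
    rw [QuotientGroup.mk_pow, QuotientGroup.mk_mul, hc.mul_pow, ← QuotientGroup.mk_pow, ← QuotientGroup.mk_pow,
      (QuotientGroup.eq_one_iff _).mpr h2, (QuotientGroup.eq_one_iff _).mpr h4, one_mul]

section

variable {K H : Subgroup L} [H.Normal] {hcomm : ∀ a ∈ K, ∀ b ∈ K, a * b * a⁻¹ * b⁻¹ ∈ H} {m : ℕ}

theorem mem_powSub {x : L} : x ∈ powSub K H hcomm m ↔ x ∈ K ∧ x ^ m ∈ H := Iff.rfl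

theorem powSub_le : powSub K H hcomm m ≤ K := fun _ hx => hx.1

theorem le_powSub (h : H ≤ K) : H ≤ powSub K H hcomm m := fun _ hx => ⟨h hx, H.pow_mem hx m⟩

theorem powSub_normal [K.Normal] : (powSub K H hcomm m).Normal := by
  constructor
  rintro x ⟨h1, h2⟩ g
  refine ⟨(inferInstance : K.Normal).conj_mem _ h1 g, ?_⟩
  rw [conj_pow]
  exact (inferInstance : H.Normal).conj_mem _ h2 g

end

theorem mem_of_pow_mem_of_coprime (H : Subgroup L) [H.Normal] {x : L} {a b : ℕ} (ha : x ^ a ∈ H) (hb : x ^ b ∈ H)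
    (hab : Nat.Coprime a b) : x ∈ H := by
  have h1 : (x : L ⧸ H) ^ a = 1 := by
    rw [← QuotientGroup.mk_pow]
    exact (QuotientGroup.eq_one_iff _).mpr ha
  have h2 : (x : L ⧸ H) ^ b = 1 := by
    rw [← QuotientGroup.mk_pow]
    exact (QuotientGroup.eq_one_iff _).mpr hb
  have h3 : orderOf (x : L ⧸ H) ∣ Nat.gcd a b :=
    Nat.dvd_gcd (orderOf_dvd_of_pow_eq_one h1) (orderOf_dvd_of_pow_eq_one h2)
  rw [hab, Nat.dvd_one, orderOf_eq_one_iff] at h3
  exact (QuotientGroup.eq_one_iff _).mp h3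

variable [Finite L]

theorem pow_relIndex_mem {K H : Subgroup L} [H.Normal] {x : L} (hx : x ∈ K) : x ^ H.relIndex K ∈ H := by
  have h1 := Subgroup.pow_index_mem (H.subgroupOf K) (⟨x, hx⟩ : K)
  exact Subgroup.mem_subgroupOf.mp h1

/-- Cauchy's theorem for the quotient `K / H`. -/
theorem exists_cauchy_rel {K H : Subgroup L} [H.Normal] {p : ℕ} (hp : p.Prime) (hd : p ∣ H.relIndex K) :
    ∃ k ∈ K, k ∉ H ∧ k ^ p ∈ H ∧ ∀ m : ℕ, k ^ m ∈ H → p ∣ m := by
  classical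
  haveI : Fact p.Prime := ⟨hp⟩
  let H' : Subgroup K := H.subgroupOf K
  haveI : H'.Normal := inferInstance
  have hcard : Nat.card (K ⧸ H') = H.relIndex K := rfl
  obtain ⟨x, hx⟩ := exists_prime_orderOf_dvd_card' (G := K ⧸ H') p (by rw [hcard]; exact hd)
  induction x using QuotientGroup.induction_on with
  | H k =>
  have hiff : ∀ m : ℕ, ((k : K ⧸ H') ^ m = 1 ↔ (k : L) ^ m ∈ H) := by
    intro m
    rw [← QuotientGroup.mk_pow, QuotientGroup.eq_one_iff, Subgroup.mem_subgroupOf]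
    simp
  refine ⟨k, k.2, ?_, ?_, ?_⟩
  · intro h
    have h1 : (k : K ⧸ H') ^ 1 = 1 := (hiff 1).mpr (by simpa using h)
    rw [pow_one] at h1
    rw [h1, orderOf_one] at hx
    exact hp.one_lt.ne hx
  · rw [← hiff, ← hx]
    exact pow_orderOf_eq_one _
  · intro m hm
    rw [← hx]
    exact orderOf_dvd_of_pow_eq_one ((hiff m).mpr hm)

section Facts

variable {K H : Subgroup L} [H.Normal] (hcomm : ∀ a ∈ K, ∀ b ∈ K, a * b * a⁻¹ * b⁻¹ ∈ H) {p : ℕ}
  (hp : p.Prime)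

/-- `x ^ P ∈ T`, where `P` is the `p`-part of `[K : H]` and `T = {x ∈ K | x ^ m ∈ H}` with `m` the `p`'-part. -/
theorem pow_ordProj_mem_powSub {x : L} (hx : x ∈ K) :
    x ^ (ordProj[p] (H.relIndex K)) ∈ powSub K H hcomm (ordCompl[p] (H.relIndex K)) := by
  refine ⟨K.pow_mem hx _, ?_⟩
  rw [← pow_mul, Nat.ordProj_mul_ordCompl_eq_self]
  exact pow_relIndex_mem hx

include hp in
/-- `p` does not divide `[T : H]`. -/
theorem not_dvd_relIndex_powSub {m : ℕ} (hm : Nat.Coprime m p) :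
    ¬ p ∣ H.relIndex (powSub K H hcomm m) := by
  intro hd
  obtain ⟨t, ht, htH, htp, -⟩ := exists_cauchy_rel hp hd
  exact htH (mem_of_pow_mem_of_coprime H ht.2 htp hm)

include hp in
/-- `[K : T]` is a power of `p`. -/
theorem relIndex_powSub_eq_pow [K.Normal] :
    ∃ r : ℕ, (powSub K H hcomm (ordCompl[p] (H.relIndex K))).relIndex K = p ^ r := by
  classical
  haveI : Fact p.Prime := ⟨hp⟩
  haveI hT : (powSub K H hcomm (ordCompl[p] (H.relIndex K))).Normal := powSub_normal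
  let T' : Subgroup K := (powSub K H hcomm (ordCompl[p] (H.relIndex K))).subgroupOf K
  haveI : T'.Normal := inferInstance
  have hP : IsPGroup p (K ⧸ T') := by
    intro g
    induction g using QuotientGroup.induction_on with
    | H k =>
    have h1 := pow_ordProj_mem_powSub (p := p) hcomm k.2
    refine ⟨(H.relIndex K).factorization p, ?_⟩
    rw [← QuotientGroup.mk_pow, QuotientGroup.eq_one_iff, Subgroup.mem_subgroupOf]
    simpa using h1
  obtain ⟨r, hr⟩ := IsPGroup.iff_card.mp hP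
  exact ⟨r, hr⟩

end Facts

/-- Arithmetic: two distinct factors congruent to `1` modulo `e`. -/
theorem two_factors_large {a b e : ℕ} (ha : 1 < a) (hb : 1 < b) (hab : a ≠ b) (h1 : e ∣ a - 1) (h2 : e ∣ b - 1)
    (he : 0 < e) : (e + 1) * (2 * e + 1) ≤ a * b := by
  have ha' : e + 1 ≤ a := by
    have := Nat.le_of_dvd (by omega) h1
    omega
  have hb' : e + 1 ≤ b := by
    have := Nat.le_of_dvd (by omega) h2
    omega
  rcases Nat.lt_or_gt_of_ne hab with h | h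
  · have h3 : e ∣ (b - 1) - (a - 1) := Nat.dvd_sub h2 h1
    have h4 := Nat.le_of_dvd (by omega) h3
    have h5 : 2 * e + 1 ≤ b := by omega
    exact Nat.mul_le_mul ha' h5
  · have h3 : e ∣ (a - 1) - (b - 1) := Nat.dvd_sub h1 h2
    have h4 := Nat.le_of_dvd (by omega) h3
    have h5 : 2 * e + 1 ≤ a := by omega
    calc (e + 1) * (2 * e + 1) = (2 * e + 1) * (e + 1) := by ring
      _ ≤ a * b := Nat.mul_le_mul h5 hb'

/-- Arithmetic for the special step. -/
theorem special_arith {a b e : ℕ} (ha : e + 1 ≤ a) (hb : e + 1 ≤ b) (he : 0 < e) :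
    4 * e ^ 2 * a < (a * b - 1) ^ 2 := by
  have h1 : (e + 1) * a ≤ a * b := by
    rw [mul_comm]
    exact Nat.mul_le_mul_left _ hb
  have hpos : 0 < a := by omega
  obtain ⟨w, hw⟩ : ∃ w, a * b = w + 1 := ⟨a * b - 1, by
    have : 1 ≤ a * b := Nat.mul_pos hpos (by omega)
    omega⟩
  have h2 : a * b - 1 = w := by omega
  rw [h2]
  have h3 : (e + 1) * a ≤ w + 1 := by rw [← hw]; exact h1
  obtain ⟨c, rfl⟩ : ∃ c, a = e + 1 + c := ⟨a - (e + 1), by omega⟩
  have h7 : (e + 1) * (e + 1 + c) = e ^ 2 + 2 * e + e * c + c + 1 := by ring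
  have h5 : e ^ 2 + 2 * e + e * c + c ≤ w := by omega
  have h6 : (e ^ 2 + 2 * e + e * c + c) ^ 2 ≤ w ^ 2 := Nat.pow_le_pow_left h5 2
  refine lt_of_lt_of_le ?_ h6
  have h8 : (e ^ 2 + 2 * e + e * c + c) ^ 2 = 4 * e ^ 2 * (e + 1 + c) +
      (e ^ 4 + (2 * e ^ 3 + 2 * e ^ 2 + 4 * e) * c + (e + 1) ^ 2 * c ^ 2) := by ring
  rw [h8]
  have h9 : 0 < e ^ 4 := by positivity
  omega

end Cfsg.Agent.Lib.OddChar
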