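import Cfsg.Agent.S0659
import Cfsg.Agent.Lib.Basic.Frobenius2
import Cfsg.Agent.Lib.Transfer.Frobenius
import Cfsg.Agent.Lib.Fusion.GTMaps
import Cfsg.Agent.Lib.OddChar.PowSub
import Cfsg.Agent.Lib.Coprime.Conj

/-! # Thompson's theorem on fixed-point-free automorphisms of prime order. -/

set_option autoImplicit false

namespace Cfsg.Agent.Lib.OddChar

open Cfsg

universe u

/-- The norm argument for a Frobenius group acting on an abelian group of coprime order. -/
theorem frob_norm_abstract {V P : Type*} [CommGroup V] [Finite V] [Group P] [Finite P]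
    (α : P →* MulAut V) (ψ : V →* V) (θ : P →* P) {r : ℕ} (hr : r.Prime)
    (hψr : ∀ v, ψ^[r] v = v) (hψ : ∀ v, ψ v = v → v = 1)
    (hθr : ∀ x, θ^[r] x = x) (hθ : ∀ x, θ x = x → x = 1)
    (hcompat : ∀ x v, ψ (α x v) = α (θ x) (ψ v))
    (hcop : (Nat.card P).Coprime (Nat.card V)) (z : P) (v : V) : α z v = v := by
  classical
  haveI : Fintype P := Fintype.ofFinite _
  -- the trace vanishes
  have htrace : ∀ w : V, ∏ i ∈ Finset.range r, ψ^[i] w = 1 := by
    intro w
    apply hψ
    rw [map_prod]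
    have h1 : ∀ i, ψ (ψ^[i] w) = ψ^[i + 1] w := fun i => (Function.iterate_succ_apply' _ _ _).symm
    simp only [h1]
    have h2 := Finset.prod_range_succ (fun i => ψ^[i] w) r
    have h3 := Finset.prod_range_succ' (fun i => ψ^[i] w) r
    rw [h2] at h3
    have h4 : ψ^[r] w = ψ^[0] w := by rw [hψr]; rfl
    rw [h4, mul_left_inj] at h3
    exact h3.symm
  -- powers of `θ` are fixed point free
  have hθi : ∀ i, 0 < i → i < r → ∀ x, θ^[i] x = x → x = 1 := by
    intro i hi hir x hx
    have h1 : Function.IsPeriodicPt θ i x := hx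
    have h2 : Function.IsPeriodicPt θ r x := hθr x
    have h3 := h1.gcd h2
    have h4 : Nat.gcd i r = 1 := (Nat.coprime_of_lt_prime (by omega) hir hr).symm
    rw [h4] at h3
    exact hθ x h3
  have hcomp : ∀ i x v, ψ^[i] (α x v) = α (θ^[i] x) (ψ^[i] v) := by
    intro i
    induction i with
    | zero => intro x v; rfl
    | succ i ih =>
      intro x v
      rw [Function.iterate_succ_apply', Function.iterate_succ_apply', Function.iterate_succ_apply', ih, hcompat]
  have hinv : ∀ i (y : P), θ^[i] y⁻¹ = (θ^[i] y)⁻¹ := fun i y => iterate_map_inv θ i y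
  -- the bijection
  have hbij : ∀ i, 0 < i → i < r → Function.Bijective (fun y : P => y * (θ^[i] y)⁻¹) := by
    intro i hi hir
    apply Finite.injective_iff_bijective.mp
    intro y y' h
    have h1 : y * (θ^[i] y)⁻¹ = y' * (θ^[i] y')⁻¹ := h
    have h4 : y'⁻¹ * y = (θ^[i] y')⁻¹ * θ^[i] y := by
      calc y'⁻¹ * y = y'⁻¹ * (y * (θ^[i] y)⁻¹) * θ^[i] y := by group
        _ = y'⁻¹ * (y' * (θ^[i] y')⁻¹) * θ^[i] y := by rw [h1]
        _ = (θ^[i] y')⁻¹ * θ^[i] y := by group
    have h2 : θ^[i] (y'⁻¹ * y) = y'⁻¹ * y := by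
      rw [iterate_map_mul, hinv]
      exact h4.symm
    have h3 := hθi i hi hir _ h2
    rw [inv_mul_eq_one] at h3
    exact h3.symm
  -- the terms
  have hterm : ∀ i, 0 < i → i < r → ∀ v : V,
      ∏ x : P, α x (ψ^[i] v) = ∏ y : P, α y (ψ^[i] (α y⁻¹ v)) := by
    intro i hi hir v
    have h1 := (hbij i hi hir).prod_comp (fun x : P => α x (ψ^[i] v))
    rw [← h1]
    refine Finset.prod_congr rfl fun y _ => ?_
    rw [hcomp, hinv, map_mul, MulAut.mul_apply]
  -- the norm
  have hnorm : ∀ v : V, ∏ x : P, α x v = v ^ Nat.card P := by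
    intro v
    have h0 : ∏ x : P, ∏ i ∈ Finset.range r, α x (ψ^[i] v) = 1 := by
      apply Finset.prod_eq_one
      intro x _
      rw [← map_prod, htrace, map_one]
    rw [Finset.prod_comm] at h0
    obtain ⟨r', rfl⟩ : ∃ r', r = r' + 1 := ⟨r - 1, by have := hr.pos; omega⟩
    rw [Finset.prod_range_succ'] at h0
    simp only [Function.iterate_zero, id_eq] at h0
    have h1 : ∏ i ∈ Finset.range r', ∏ x : P, α x (ψ^[i + 1] v) = (v⁻¹) ^ Nat.card P := by
      have h2 : ∀ i ∈ Finset.range r', ∏ x : P, α x (ψ^[i + 1] v) = ∏ y : P, α y (ψ^[i + 1] (α y⁻¹ v)) :=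
        fun i hi => hterm (i + 1) (by omega) (by have := Finset.mem_range.mp hi; omega) v
      rw [Finset.prod_congr rfl h2, Finset.prod_comm]
      have h3 : ∀ y : P, ∏ i ∈ Finset.range r', α y (ψ^[i + 1] (α y⁻¹ v)) = v⁻¹ := by
        intro y
        rw [← map_prod]
        have h4 := htrace (α y⁻¹ v)
        rw [Finset.prod_range_succ'] at h4
        simp only [Function.iterate_zero, id_eq] at h4
        have h5 : ∏ i ∈ Finset.range r', ψ^[i + 1] (α y⁻¹ v) = (α y⁻¹ v)⁻¹ := eq_inv_of_mul_eq_one_left h4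
        rw [h5, map_inv, ← MulAut.mul_apply, ← map_mul]
        simp
      rw [Finset.prod_congr rfl fun y _ => h3 y, Finset.prod_const, Finset.card_univ, Nat.card_eq_fintype_card]
    rw [h1] at h0
    have h6 : ∏ x : P, α x v = ((v⁻¹) ^ Nat.card P)⁻¹ := eq_inv_of_mul_eq_one_right h0
    rw [h6, inv_pow, inv_inv]
  -- the norm is fixed
  have hfix : α z (∏ x : P, α x v) = ∏ x : P, α x v := by
    rw [map_prod]
    have h1 : ∀ x : P, α z (α x v) = α (z * x) v := by
      intro x
      rw [map_mul, MulAut.mul_apply]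
    simp only [h1]
    exact Equiv.prod_comp (Equiv.mulLeft z) (fun x : P => α x v)
  rw [hnorm, map_pow] at hfix
  have h2 : ((α z v) * v⁻¹) ^ Nat.card P = 1 := by
    rw [mul_pow, hfix, inv_pow, mul_inv_cancel]
  have h3 : ((α z v) * v⁻¹) ^ Nat.card V = 1 := pow_card_eq_one'
  have h4 : orderOf ((α z v) * v⁻¹) ∣ 1 := by
    rw [← hcop.gcd_eq_one]
    exact Nat.dvd_gcd (orderOf_dvd_of_pow_eq_one h2) (orderOf_dvd_of_pow_eq_one h3)
  have h5 := orderOf_eq_one_iff.mp (Nat.dvd_one.mp h4)
  exact mul_inv_eq_one.mp h5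

section Concrete

variable {G : Type u} [Group G] [Finite G]

theorem iterate_fpf_mem (φ : G ≃* G) {H : Subgroup G} (hH : ∀ x ∈ H, φ x ∈ H) (k : ℕ) {x : G} (hx : x ∈ H) :
    φ^[k] x ∈ H := by
  induction k with
  | zero => exact hx
  | succ k ih =>
    rw [Function.iterate_succ_apply']
    exact hH _ ih

/-- An invariant subgroup of coprime order centralises an invariant abelian normal subgroup. -/
theorem comm_of_fpf_invariant (φ : G ≃* G) (hφ : MonoidHom.FixedPointFree (φ : G →* G)) {r : ℕ} (hr : r.Prime)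
    (hφr : ∀ x, φ^[r] x = x) (V P : Subgroup G) [hVn : V.Normal] (hVc : ∀ a ∈ V, ∀ b ∈ V, a * b = b * a)
    (hVφ : ∀ v ∈ V, φ v ∈ V) (hPφ : ∀ x ∈ P, φ x ∈ P) (hcop : (Nat.card P).Coprime (Nat.card V))
    {x v : G} (hx : x ∈ P) (hv : v ∈ V) : x * v * x⁻¹ = v := by
  letI : CommGroup V := { (inferInstance : Group V) with
    mul_comm := fun a b => Subtype.ext (hVc a a.2 b b.2) }
  let α : P →* MulAut V := (MulAut.conjNormal (H := V)).comp P.subtype
  let ψ : V →* V := ((φ : G →* G).comp V.subtype).codRestrict V (fun y => hVφ y y.2)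
  let θ : P →* P := ((φ : G →* G).comp P.subtype).codRestrict P (fun y => hPφ y y.2)
  have hψk : ∀ (k : ℕ) (w : V), ((ψ^[k] w : V) : G) = φ^[k] w := by
    intro k w
    induction k with
    | zero => rfl
    | succ k ih =>
      rw [Function.iterate_succ_apply', Function.iterate_succ_apply', ← ih]
      rfl
  have hθk : ∀ (k : ℕ) (w : P), ((θ^[k] w : P) : G) = φ^[k] w := by
    intro k w
    induction k with
    | zero => rfl
    | succ k ih =>
      rw [Function.iterate_succ_apply', Function.iterate_succ_apply', ← ih]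
      rfl
  have key := frob_norm_abstract α ψ θ hr
    (fun w => Subtype.ext (by rw [hψk, hφr]))
    (fun w hw => Subtype.ext (hφ _ (congrArg Subtype.val hw)))
    (fun w => Subtype.ext (by rw [hθk, hφr]))
    (fun w hw => Subtype.ext (hφ _ (congrArg Subtype.val hw)))
    (fun y w => Subtype.ext (by
      show φ ((y : G) * w * (y : G)⁻¹) = φ y * φ w * (φ y)⁻¹
      simp only [map_mul, map_inv]))
    hcop ⟨x, hx⟩ ⟨v, hv⟩
  have := congrArg Subtype.val key
  exact this

/-- A nilpotent group has a normal `p`-complement. -/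
theorem hnpc_of_nilpotent {X : Type*} [Group X] [Finite X] (hnil : Group.IsNilpotent X) (p : ℕ) [Fact p.Prime] :
    HasNormalPComplement p X := by
  classical
  apply Cfsg.Agent.Lib.Transfer.hasNormalPComplement_of_stable
  have hsyl := (Group.isNilpotent_of_finite_tfae (G := X)).out 0 3
  have hnorm := hsyl.mp hnil
  intro D hD g _ hg
  obtain ⟨P, hDP⟩ := hD.exists_le_sylow
  haveI hPn : (P : Subgroup X).Normal := hnorm p inferInstance P
  let C : Subgroup X := Subgroup.centralizer ((P : Subgroup X) : Set X)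
  haveI hCn : C.Normal := inferInstance
  have hidx : ∀ q : ℕ, q.Prime → q ∣ C.index → q = p := by
    intro q hq hqd
    by_contra hne
    haveI : Fact q.Prime := ⟨hq⟩
    obtain ⟨Q⟩ : Nonempty (Sylow q X) := inferInstance
    haveI hQn : (Q : Subgroup X).Normal := hnorm q inferInstance Q
    have hdisj : Disjoint (Q : Subgroup X) (P : Subgroup X) := by
      exact IsPGroup.disjoint_of_ne q p hne _ _ Q.isPGroup' P.isPGroup'
    have hle : (Q : Subgroup X) ≤ C := by
      intro a ha
      rw [Subgroup.mem_centralizer_iff]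
      intro b hb
      exact (Subgroup.commute_of_normal_of_disjoint _ _ hQn hPn hdisj a b ha hb).eq.symm
    have h1 := Subgroup.index_dvd_of_le hle
    exact Q.not_dvd_index (hqd.trans h1)
  have hgC : g ∈ C := by
    have h1 : g ^ C.index ∈ C := Subgroup.pow_index_mem C g
    have h2 : g ^ orderOf g ∈ C := by
      rw [pow_orderOf_eq_one]
      exact C.one_mem
    refine mem_of_pow_mem_of_coprime C h1 h2 ?_
    rw [Nat.coprime_iff_gcd_eq_one]
    by_contra hne
    obtain ⟨q, hq, hqd⟩ := Nat.exists_prime_and_dvd hne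
    have h3 := hidx q hq (hqd.trans (Nat.gcd_dvd_left _ _))
    have h4 : q ∣ orderOf g := hqd.trans (Nat.gcd_dvd_right _ _)
    rw [h3] at h4
    exact (Nat.Prime.coprime_iff_not_dvd (Fact.out)).mp hg.symm h4
  rw [Subgroup.mem_centralizer_iff]
  intro a ha
  exact (Subgroup.mem_centralizer_iff.mp hgC a (hDP ha)).symm ▸ rfl

/-- The restriction of an automorphism to an invariant subgroup. -/
noncomputable def fpfRestrict (φ : G ≃* G) (H : Subgroup G) (hH : ∀ x ∈ H, φ x ∈ H) : H ≃* H :=
  MulEquiv.ofBijective (((φ : G →* G).comp H.subtype).codRestrict H (fun y => hH y y.2))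
    (Finite.injective_iff_bijective.mp (fun a b h => Subtype.ext (φ.injective (congrArg Subtype.val h))))

theorem fpfRestrict_coe (φ : G ≃* G) (H : Subgroup G) (hH : ∀ x ∈ H, φ x ∈ H) (x : H) :
    ((fpfRestrict φ H hH x : H) : G) = φ x := rfl

theorem fpfRestrict_iterate (φ : G ≃* G) (H : Subgroup G) (hH : ∀ x ∈ H, φ x ∈ H) (k : ℕ) (x : H) :
    (((fpfRestrict φ H hH)^[k] x : H) : G) = φ^[k] x := by
  induction k with
  | zero => rfl
  | succ k ih =>
    rw [Function.iterate_succ_apply', Function.iterate_succ_apply', ← ih]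
    rfl

theorem map_eq_of_invariant (φ : G ≃* G) (N : Subgroup G) (hN : ∀ n ∈ N, φ n ∈ N) :
    N.map (φ : G →* G) = N := by
  apply Subgroup.eq_of_le_of_card_ge
  · rintro _ ⟨x, hx, rfl⟩
    exact hN x hx
  · rw [Subgroup.card_map_of_injective φ.injective]

/-- The automorphism induced on a quotient. -/
noncomputable def fpfQuot (φ : G ≃* G) (N : Subgroup G) [N.Normal] (hN : ∀ n ∈ N, φ n ∈ N) : (G ⧸ N) ≃* (G ⧸ N) :=
  QuotientGroup.congr N N φ (map_eq_of_invariant φ N hN)

theorem fpfQuot_mk (φ : G ≃* G) (N : Subgroup G) [N.Normal] (hN : ∀ n ∈ N, φ n ∈ N) (x : G) :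
    fpfQuot φ N hN (x : G ⧸ N) = (φ x : G ⧸ N) := rfl

theorem fpfQuot_iterate (φ : G ≃* G) (N : Subgroup G) [N.Normal] (hN : ∀ n ∈ N, φ n ∈ N) (k : ℕ) (x : G) :
    (fpfQuot φ N hN)^[k] (x : G ⧸ N) = (φ^[k] x : G ⧸ N) := by
  induction k with
  | zero => rfl
  | succ k ih =>
    rw [Function.iterate_succ_apply', Function.iterate_succ_apply', ih]
    rfl

end Concrete

/-- **Thompson's theorem**, in a form suitable for induction. -/
theorem thompson_fpf_core {r : ℕ} (hr : r.Prime) (n : ℕ) : ∀ (G : Type u) [Group G] [Finite G], Nat.card G = n →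
    ∀ φ : G ≃* G, MonoidHom.FixedPointFree (φ : G →* G) → (∀ x, φ^[r] x = x) → Group.IsNilpotent G := by
  induction n using Nat.strong_induction_on with
  | _ n ih =>
  intro G _ _ hn φ hφ hφr
  classical
  have hsub : ∀ H : Subgroup G, H ≠ ⊤ → (∀ x ∈ H, φ x ∈ H) → Group.IsNilpotent H := by
    intro H hne hH
    refine ih (Nat.card H) ?_ H rfl (fpfRestrict φ H hH) ?_ ?_
    · rw [← hn]
      have h1 := Subgroup.card_mul_index H
      have h2 : H.index ≠ 1 := fun h => hne (Subgroup.index_eq_one.mp h)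
      have h3 : H.index ≠ 0 := Subgroup.index_ne_zero_of_finite
      have h4 : 0 < Nat.card H := Nat.card_pos
      have h5 : 2 ≤ H.index := by omega
      rw [← h1]
      nlinarith
    · intro x hx
      exact Subtype.ext (hφ _ (congrArg Subtype.val hx))
    · intro x
      apply Subtype.ext
      rw [fpfRestrict_iterate, hφr]
  have hquot : ∀ (N : Subgroup G) [N.Normal], N ≠ ⊥ → (∀ x ∈ N, φ x ∈ N) → Group.IsNilpotent (G ⧸ N) := by
    intro N _ hne hN
    refine ih (Nat.card (G ⧸ N)) ?_ (G ⧸ N) rfl (fpfQuot φ N hN) ?_ ?_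
    · rw [← hn]
      have h1 := Subgroup.card_eq_card_quotient_mul_card_subgroup N
      have h2 : 1 < Nat.card N := by
        obtain ⟨k, hk, hk1⟩ := (Subgroup.bot_or_exists_ne_one N).resolve_left hne
        haveI : Nontrivial N := ⟨⟨⟨k, hk⟩, 1, fun h => hk1 (congrArg Subtype.val h)⟩⟩
        exact Finite.one_lt_card
      have h3 : 0 < Nat.card (G ⧸ N) := Nat.card_pos
      rw [h1]
      nlinarith
    · intro q hq
      induction q using QuotientGroup.induction_on with
      | H x =>
      have h1 : ((φ x : G) : G ⧸ N) = (x : G ⧸ N) := hq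
      have h2 : (φ x)⁻¹ * x ∈ N := QuotientGroup.eq.mp h1
      have h3 := Cfsg.Agent.Lib.Basic.fpf_mem_of_inv_mul_mem φ hφ N hN x h2
      exact (QuotientGroup.eq_one_iff x).mpr h3
    · intro q
      induction q using QuotientGroup.induction_on with
      | H x =>
      rw [fpfQuot_iterate, hφr]
  have hcentral : (∃ z : G, z ≠ 1 ∧ ∀ g : G, g * z = z * g) → Group.IsNilpotent G := by
    rintro ⟨z, hz1, hz⟩
    have hne : Subgroup.center G ≠ ⊥ := by
      intro h
      have h1 : z ∈ Subgroup.center G := Subgroup.mem_center_iff.mpr hz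
      rw [h, Subgroup.mem_bot] at h1
      exact hz1 h1
    refine Group.of_quotient_center_nilpotent (hquot _ hne ?_)
    intro x hx
    rw [Subgroup.mem_center_iff] at hx ⊢
    intro g
    obtain ⟨g', rfl⟩ := φ.surjective g
    rw [← map_mul, ← map_mul, hx]
  -- the case of an abelian normal `q`-subgroup
  have hV : ∀ (V : Subgroup G) [V.Normal] (q : ℕ) [Fact q.Prime], V ≠ ⊥ → (∀ a ∈ V, ∀ b ∈ V, a * b = b * a) →
      (∀ v ∈ V, φ v ∈ V) → IsPGroup q V → Group.IsNilpotent G := by
    intro V hVn q _ hV1 hVc hVφ hVq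
    apply hcentral
    have hqp : q.Prime := Fact.out
    obtain ⟨Q⟩ : Nonempty (Sylow q G) := inferInstance
    letI : MulAction (Q : Subgroup G) V :=
      { smul := fun g v => ⟨(g : G) * v * (g : G)⁻¹, hVn.conj_mem _ v.2 _⟩
        one_smul := fun v => Subtype.ext (by show (1 : G) * v * (1 : G)⁻¹ = v; group)
        mul_smul := fun a b v => Subtype.ext (by
          show ((a : G) * b) * v * ((a : G) * b)⁻¹ = a * (b * v * (b : G)⁻¹) * (a : G)⁻¹
          group) }
    obtain ⟨m, hm⟩ := IsPGroup.iff_card.mp hVq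
    have hm0 : m ≠ 0 := by
      rintro rfl
      rw [pow_zero, Subgroup.card_eq_one] at hm
      exact hV1 hm
    have hcard : q ∣ Nat.card V := by
      rw [hm]
      exact dvd_pow_self q hm0
    have h1 : (1 : V) ∈ MulAction.fixedPoints (Q : Subgroup G) V := by
      intro g
      apply Subtype.ext
      show (g : G) * 1 * (g : G)⁻¹ = 1
      group
    obtain ⟨b, hb, hne⟩ := Q.isPGroup'.exists_fixed_point_of_prime_dvd_card_of_fixed_point V hcard h1
    refine ⟨b, fun h => hne (Subtype.ext h).symm, ?_⟩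
    let C : Subgroup G := Subgroup.centralizer ({(b : G)} : Set G)
    have hCmem : ∀ g : G, g ∈ C ↔ g * b = b * g := by
      intro g
      rw [Subgroup.mem_centralizer_iff]
      simp
      exact eq_comm
    have hQC : (Q : Subgroup G) ≤ C := by
      intro x hx
      rw [hCmem]
      have h2 : (⟨x, hx⟩ : (Q : Subgroup G)) • b = b := hb ⟨x, hx⟩
      have h3 : x * b * x⁻¹ = b := congrArg Subtype.val h2
      rw [← h3]
      nth_rewrite 1 [h3]
      rw [h3]
      exact (mul_inv_eq_iff_eq_mul.mp h3)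
    have hidx : C.index = 1 := by
      by_contra hne'
      obtain ⟨ℓ, hℓ, hℓd⟩ := Nat.exists_prime_and_dvd hne'
      haveI : Fact ℓ.Prime := ⟨hℓ⟩
      by_cases hℓq : ℓ = q
      · subst hℓq
        exact Q.not_dvd_index (hℓd.trans (Subgroup.index_dvd_of_le hQC))
      · obtain ⟨P, hP⟩ := Cfsg.Agent.Lib.Basic.fpf_exists_invariant_sylow φ hφ ℓ
        have hPφ : ∀ x ∈ (P : Subgroup G), φ x ∈ (P : Subgroup G) := by
          intro x hx
          rw [← hP]
          exact ⟨x, hx, rfl⟩
        have hcop : (Nat.card (P : Subgroup G)).Coprime (Nat.card V) := by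
          obtain ⟨a, ha⟩ := IsPGroup.iff_card.mp P.isPGroup'
          rw [ha, hm]
          exact Nat.Coprime.pow _ _ ((Nat.coprime_primes hℓ hqp).mpr hℓq)
        have hPC : (P : Subgroup G) ≤ C := by
          intro x hx
          rw [hCmem]
          have h3 := comm_of_fpf_invariant φ hφ hr hφr V P hVc hVφ hPφ hcop hx b.2
          exact mul_inv_eq_iff_eq_mul.mp h3
        exact P.not_dvd_index (hℓd.trans (Subgroup.index_dvd_of_le hPC))
    have hCtop : C = ⊤ := Subgroup.index_eq_one.mp hidx
    intro g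
    rw [← hCmem, hCtop]
    trivial
  -- an abelian normal subgroup
  have hA : ∀ (A : Subgroup G) [A.Normal], A ≠ ⊥ → (∀ a ∈ A, ∀ b ∈ A, a * b = b * a) →
      (∀ v ∈ A, φ v ∈ A) → Group.IsNilpotent G := by
    intro A hAn hA1 hAc hAφ
    have hcard : Nat.card A ≠ 1 := fun h => hA1 (Subgroup.card_eq_one.mp h)
    let q := (Nat.card A).minFac
    have hq : q.Prime := Nat.minFac_prime hcard
    haveI : Fact q.Prime := ⟨hq⟩
    have hcomm : ∀ a ∈ A, ∀ b ∈ A, a * b * a⁻¹ * b⁻¹ ∈ (⊥ : Subgroup G) := by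
      intro a ha b hb
      rw [Subgroup.mem_bot, hAc a ha b hb]
      group
    let V : Subgroup G := powSub A ⊥ hcomm (q ^ Nat.card A)
    haveI hVn : V.Normal := powSub_normal
    have hVA : V ≤ A := powSub_le
    refine hV V q ?_ (fun a ha b hb => hAc a (hVA ha) b (hVA hb)) ?_ ?_
    · obtain ⟨x, hx⟩ := exists_prime_orderOf_dvd_card' (G := A) q (Nat.minFac_dvd _)
      intro h
      have hxV : (x : G) ∈ V := by
        refine ⟨x.2, ?_⟩
        have h1 : (x : G) ^ q = 1 := by
          have := pow_orderOf_eq_one x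
          rw [hx] at this
          simpa using congrArg Subtype.val this
        have h2 : 0 < Nat.card A := Nat.card_pos
        obtain ⟨c, hc⟩ : ∃ c, Nat.card A = c + 1 := ⟨Nat.card A - 1, by omega⟩
        rw [hc, pow_succ, mul_comm, pow_mul, h1, one_pow]
        exact Subgroup.one_mem _
      rw [h, Subgroup.mem_bot] at hxV
      have hx1 : x = 1 := Subtype.ext hxV
      rw [hx1, orderOf_one] at hx
      exact hq.one_lt.ne hx
    · intro v hv
      refine ⟨hAφ v hv.1, ?_⟩
      have h1 : v ^ (q ^ Nat.card A) = 1 := hv.2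
      rw [Subgroup.mem_bot, ← map_pow, h1, map_one]
    · intro g
      refine ⟨Nat.card A, ?_⟩
      apply Subtype.ext
      have h1 : (g : G) ^ (q ^ Nat.card A) = 1 := g.2.2
      simpa using h1
  by_cases hodd : ∃ p : ℕ, p.Prime ∧ p ≠ 2 ∧ p ∣ Nat.card G
  · obtain ⟨p, hp, hp2, hpd⟩ := hodd
    haveI : Fact p.Prime := ⟨hp⟩
    obtain ⟨P, hP⟩ := Cfsg.Agent.Lib.Basic.fpf_exists_invariant_sylow φ hφ p
    have hP1 : (P : Subgroup G) ≠ ⊥ := by
      intro h
      have h1 := P.card_eq_multiplicity
      rw [h, Subgroup.card_bot] at h1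
      have h2 : (Nat.card G).factorization p ≠ 0 :=
        (Nat.Prime.factorization_pos_of_dvd hp Nat.card_pos.ne' hpd).ne'
      have h3 : p ^ (Nat.card G).factorization p ≠ 1 := by
        intro h3
        exact (Nat.one_lt_pow h2 hp.one_lt).ne' h3
      exact h3 h1.symm
    let Z : Subgroup G := centerThompsonAOf (P : Subgroup G)
    have hZ1 : Z ≠ ⊥ := Cfsg.Agent.Lib.Fusion.GT.center_ne_bot P.isPGroup' hP1
    have hZmap : Z.map (φ : G →* G) = Z := by
      show (centerThompsonAOf (P : Subgroup G)).map (φ : G →* G) = centerThompsonAOf (P : Subgroup G)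
      rw [Cfsg.Agent.Lib.Fusion.GT.center_map φ.injective]
      congr 1
    have hZφ : ∀ x ∈ Z, φ x ∈ Z := by
      intro x hx
      rw [← hZmap]
      exact ⟨x, hx, rfl⟩
    have hZc : ∀ a ∈ Z, ∀ b ∈ Z, a * b = b * a := by
      rintro a ⟨ha, -⟩ b ⟨-, hb⟩
      exact (Subgroup.mem_centralizer_iff.mp hb a ha)
    by_cases hM : Subgroup.normalizer (Z : Set G) = ⊤
    · haveI : Z.Normal := Subgroup.normalizer_eq_top_iff.mp hM
      exact hA Z hZ1 hZc hZφ
    · have hMφ : ∀ x ∈ Subgroup.normalizer (Z : Set G), φ x ∈ Subgroup.normalizer (Z : Set G) := by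
        intro x hx
        apply Cfsg.Agent.Lib.Coprime.mem_normalizer_of_conj_le
        intro y hy
        rw [← hZmap] at hy
        obtain ⟨y₀, hy₀, rfl⟩ := hy
        have h1 := (Subgroup.mem_normalizer_iff.mp hx y₀).mp hy₀
        have h2 := hZφ _ h1
        simpa using h2
      have hMnil := hsub _ hM hMφ
      have hnpc := Cfsg.Agent.S0659.result hp2 P (hnpc_of_nilpotent hMnil p)
      obtain ⟨K, hKn, hKc, k, hk⟩ := Cfsg.Agent.Lib.Transfer.exists_hall_of_hasNormalPComplement hnpc
      have hKφ : ∀ x ∈ K, φ x ∈ K := by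
        intro x hx
        have h1 : (φ x) ^ Nat.card K = 1 := by
          rw [← map_pow]
          have h2 : x ^ Nat.card K = 1 := by
            have := pow_card_eq_one' (x := (⟨x, hx⟩ : K))
            exact congrArg Subtype.val this
          rw [h2, map_one]
        have h2 : (φ x) ^ K.index ∈ K := Subgroup.pow_index_mem K _
        refine mem_of_pow_mem_of_coprime K (by rw [h1]; exact K.one_mem) h2 ?_
        rw [hk]
        exact Nat.Coprime.pow_right _ hKc
      by_cases hK1 : K = ⊥
      · rw [hK1, Subgroup.index_bot] at hk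
        exact (IsPGroup.of_card hk).isNilpotent
      · have hKtop : K ≠ ⊤ := by
          rintro rfl
          rw [Subgroup.card_top] at hKc
          exact (Nat.Prime.coprime_iff_not_dvd hp).mp hKc.symm hpd
        have hKnil := hsub K hKtop hKφ
        let A : Subgroup G := K ⊓ Subgroup.centralizer (K : Set G)
        haveI hAn : A.Normal := inferInstance
        have hA1 : A ≠ ⊥ := by
          obtain ⟨k₀, hk₀, hk₀1⟩ := (Subgroup.bot_or_exists_ne_one K).resolve_left hK1
          haveI : Nontrivial K := ⟨⟨⟨k₀, hk₀⟩, 1, fun h => hk₀1 (congrArg Subtype.val h)⟩⟩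
          have h1 := Group.IsNilpotent.center_ne_bot (G := K)
          obtain ⟨z, hz, hz1⟩ := (Subgroup.bot_or_exists_ne_one _).resolve_left h1
          intro h
          have h2 : (z : G) ∈ A := by
            refine ⟨z.2, ?_⟩
            show (z : G) ∈ Subgroup.centralizer (K : Set G)
            rw [Subgroup.mem_centralizer_iff]
            intro y hy
            have := (Subgroup.mem_center_iff.mp hz) ⟨y, hy⟩
            exact congrArg Subtype.val this
          rw [h, Subgroup.mem_bot] at h2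
          exact hz1 (Subtype.ext h2)
        refine hA A hA1 ?_ ?_
        · rintro a ⟨ha, -⟩ b ⟨-, hb⟩
          exact (Subgroup.mem_centralizer_iff.mp hb a ha)
        · rintro x ⟨hx, hx'⟩
          refine ⟨hKφ x hx, ?_⟩
          show φ x ∈ Subgroup.centralizer (K : Set G)
          rw [Subgroup.mem_centralizer_iff]
          intro y hy
          have hmap := map_eq_of_invariant φ K hKφ
          rw [SetLike.mem_coe, ← hmap] at hy
          obtain ⟨y₀, hy₀, rfl⟩ := hy
          have h1 := Subgroup.mem_centralizer_iff.mp hx' y₀ hy₀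
          show φ y₀ * φ x = φ x * φ y₀
          rw [← map_mul, ← map_mul, h1]
  · push Not at hodd
    have h2 : Nat.card G = 2 ^ (Nat.card G).primeFactorsList.length :=
      Nat.eq_prime_pow_of_unique_prime_dvd Nat.card_pos.ne' (fun {d} hd hdv => by
        by_contra hne
        exact hodd d hd hne hdv)
    exact (IsPGroup.of_card h2).isNilpotent

/-- Thompson's theorem on fixed-point-free automorphisms of prime order. -/
theorem thompson_fpf {G : Type u} [Group G] [Finite G] (φ : G ≃* G) (hφ : MonoidHom.FixedPointFree (φ : G →* G))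
    {r : ℕ} (hr : r.Prime) (hφr : ∀ x, φ^[r] x = x) : Group.IsNilpotent G :=
  thompson_fpf_core hr _ G rfl φ hφ hφr

/-- A normal subgroup admitting a fixed-point-free element of prime order is nilpotent. -/
theorem nilpotent_of_fpf_element {G : Type u} [Group G] [Finite G] (K : Subgroup G) [K.Normal] {k : G} {r : ℕ}
    (hr : r.Prime) (hk : k ^ r = 1) (hfpf : ∀ h ∈ K, k * h = h * k → h = 1) : Group.IsNilpotent K := by
  let φ : K ≃* K := MulAut.conjNormal k
  have hφ : ∀ x : K, ((φ x : K) : G) = k * x * k⁻¹ := fun x => MulAut.conjNormal_apply k x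
  have hiter : ∀ (i : ℕ) (x : K), ((φ^[i] x : K) : G) = k ^ i * x * (k ^ i)⁻¹ := by
    intro i x
    induction i with
    | zero => simp
    | succ i ih =>
      rw [Function.iterate_succ_apply', hφ, ih, pow_succ']
      group
  refine thompson_fpf φ ?_ hr ?_
  · intro x hx
    have h1 : k * (x : G) * k⁻¹ = x := by
      rw [← hφ]
      exact congrArg Subtype.val hx
    apply Subtype.ext
    exact hfpf x x.2 (mul_inv_eq_iff_eq_mul.mp h1)
  · intro x
    apply Subtype.ext
    rw [hiter, hk]
    simp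

end Cfsg.Agent.Lib.OddChar
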