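import Cfsg.Agent.Lib.OddChar.Coh2
import Cfsg.Agent.Lib.Char.Kernel
import Cfsg.Agent.Lib.Char.IndNormal

/-! # Characters induced from irreducible characters of a normal subgroup with a prescribed kernel. -/

set_option autoImplicit false

namespace Cfsg.Agent.Lib.OddChar

open Cfsg Cfsg.Agent.Lib.Char
open scoped ComplexConjugate

section Deg

variable {G : Type*} [Group G] [Fintype G]

/-- The squares of the degrees of the irreducible characters trivial on a normal subgroup add up to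
its index. -/
theorem sum_irr_trivial_on (N : Subgroup G) [N.Normal] :
    open scoped Classical in
    ∑ θ ∈ (Finset.univ.filter fun θ : IrrCharacter G => ∀ n : N, (θ : G → ℂ) n = (θ : G → ℂ) 1),
      (θ : G → ℂ) 1 ^ 2 = (N.index : ℂ) := by
  classical
  haveI : Fintype N := Fintype.ofFinite _
  have h1 : ∑ n : N, ∑ θ : IrrCharacter G, (θ : G → ℂ) 1 * (θ : G → ℂ) n = (Nat.card G : ℂ) := by
    have h0 : ∀ n : N, ∑ θ : IrrCharacter G, (θ : G → ℂ) 1 * (θ : G → ℂ) n =
        if (n : G) = 1 then (Nat.card G : ℂ) else 0 := fun n => sum_irr_degree_mul_apply (n : G)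
    rw [Finset.sum_congr rfl (fun n _ => h0 n), Finset.sum_eq_single (1 : N)]
    · exact if_pos rfl
    · intro n _ hn
      rw [if_neg]
      intro h
      exact hn (Subtype.ext h)
    · intro h
      exact absurd (Finset.mem_univ _) h
  rw [Finset.sum_comm] at h1
  have h5 : (Nat.card G : ℂ) = (Nat.card N : ℂ) * (N.index : ℂ) := by
    exact_mod_cast (Subgroup.card_mul_index N).symm
  have h6 : (Nat.card N : ℂ) ≠ 0 := by exact_mod_cast Nat.card_pos.ne'
  apply mul_left_cancel₀ h6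
  rw [← h5, ← h1, Finset.sum_filter, Finset.mul_sum]
  refine Finset.sum_congr rfl fun θ _ => ?_
  have h3 := sum_coset_irr N θ.2 1
  simp only [mul_one] at h3
  rw [← Finset.mul_sum, h3]
  have hiff : N ≤ charKer (θ : G → ℂ) ↔ ∀ n : N, (θ : G → ℂ) n = (θ : G → ℂ) 1 := by
    constructor
    · intro h n
      exact (mem_charKer (IsIrrCharacter.isCharacter θ.2)).mp (h n.2)
    · intro h n hn
      exact (mem_charKer (IsIrrCharacter.isCharacter θ.2)).mpr (h ⟨n, hn⟩)
  by_cases h4 : ∀ n : N, (θ : G → ℂ) n = (θ : G → ℂ) 1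
  · rw [if_pos (hiff.mpr h4), if_pos h4]
    ring
  · rw [if_neg (fun h => h4 (hiff.mp h)), if_neg h4, mul_zero, mul_zero]

end Deg

/-- A nontrivial solvable quotient has a nontrivial linear character. -/
theorem exists_linear_trivial_on {K : Type*} [Group K] [Finite K] [Group.IsSolvable K] (N : Subgroup K)
    [N.Normal] (hN : N ≠ ⊤) : ∃ lam : K →* ℂˣ, lam ≠ 1 ∧ ∀ n ∈ N, lam n = 1 := by
  classical
  obtain ⟨k, hk⟩ : ∃ k, k ∉ N := by
    by_contra h
    push Not at h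
    exact hN (eq_top_iff.mpr fun x _ => h x)
  haveI : Nontrivial (K ⧸ N) := ⟨⟨(k : K ⧸ N), 1, fun h => hk ((QuotientGroup.eq_one_iff k).mp h)⟩⟩
  obtain ⟨x, -, hx⟩ := SetLike.exists_of_lt (Group.IsSolvable.commutator_lt_top_of_nontrivial (K ⧸ N))
  have hne : Abelianization.of x ≠ 1 := by
    intro h
    apply hx
    exact (QuotientGroup.eq_one_iff x).mp h
  obtain ⟨ξ, hξ⟩ := CommGroup.exists_apply_ne_one_of_hasEnoughRootsOfUnity (Abelianization (K ⧸ N)) ℂ hne
  let lam : K →* ℂˣ := ξ.comp (Abelianization.of.comp (QuotientGroup.mk' N))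
  refine ⟨lam, ?_, ?_⟩
  · intro h
    obtain ⟨k₀, rfl⟩ := QuotientGroup.mk_surjective x
    apply hξ
    have := congrArg (fun f : K →* ℂˣ => f k₀) h
    exact this
  · intro n hn
    have h1 : QuotientGroup.mk' N n = 1 := (QuotientGroup.eq_one_iff n).mpr hn
    show ξ (Abelianization.of (QuotientGroup.mk' N n)) = 1
    rw [h1, map_one, map_one]

section Above

variable {L : Type*} [Group L] [Fintype L] (K : Subgroup L) [hK : K.Normal]

theorem inducedIrrAbove_mono {A B : Subgroup L} (h : A ≤ B) :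
    Cfsg.inducedIrrAbove K B ⊆ Cfsg.inducedIrrAbove K A := by
  rintro φ ⟨θ, h1, h2, h3, rfl⟩
  exact ⟨θ, h1, h2, fun a ha => h3 a (h ha), rfl⟩

theorem inducedIrrAbove_isCharacter {A : Subgroup L} {φ : L → ℂ} (hφ : φ ∈ Cfsg.inducedIrrAbove K A) :
    IsCharacter L φ := by
  obtain ⟨θ, h1, -, -, rfl⟩ := hφ
  exact isCharacter_indFun K (IsIrrCharacter.isCharacter h1)

/-- `S(A)` is closed under complex conjugation. -/
theorem inducedIrrAbove_conj {A : Subgroup L} {φ : L → ℂ} (hφ : φ ∈ Cfsg.inducedIrrAbove K A) :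
    Cfsg.conjFun φ ∈ Cfsg.inducedIrrAbove K A := by
  haveI : Fintype K := Fintype.ofFinite _
  obtain ⟨θ, h1, h2, h3, rfl⟩ := hφ
  refine ⟨fun n => conj (θ n), IsIrrCharacter.conj h1, ?_, ?_, conj_indFun K θ⟩
  · intro h
    apply h2
    funext x
    have := congrFun h x
    rw [← Complex.conj_conj (θ x), this]
    simp
  · intro a ha
    simp only
    rw [h3 a ha]

variable [Fintype K]

open scoped Classical in
/-- The irreducible characters of `K` counted in `S(A)`. -/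
noncomputable def aboveFin (A : Subgroup L) : Finset (IrrCharacter K) :=
  Finset.univ.filter fun θ => (θ : K → ℂ) ≠ (fun _ => 1) ∧ ∀ a : K, (a : L) ∈ A → (θ : K → ℂ) a = (θ : K → ℂ) 1

omit hK in
theorem mem_aboveFin {A : Subgroup L} {θ : IrrCharacter K} : θ ∈ aboveFin K A ↔
    (θ : K → ℂ) ≠ (fun _ => 1) ∧ ∀ a : K, (a : L) ∈ A → (θ : K → ℂ) a = (θ : K → ℂ) 1 := by
  simp [aboveFin]

omit hK in
theorem indFun_mem_above {A : Subgroup L} {θ : IrrCharacter K} (h : θ ∈ aboveFin K A) :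
    indFun K (θ : K → ℂ) ∈ Cfsg.inducedIrrAbove K A :=
  ⟨θ, θ.2, ((mem_aboveFin K).mp h).1, ((mem_aboveFin K).mp h).2, rfl⟩

omit hK in
theorem inducedIrrAbove_finite (A : Subgroup L) : (Cfsg.inducedIrrAbove K A).Finite := by
  classical
  refine Set.Finite.subset (Set.finite_range (fun θ : IrrCharacter K => indFun K (θ : K → ℂ))) ?_
  rintro φ ⟨θ, h1, -, -, rfl⟩
  exact ⟨⟨θ, h1⟩, rfl⟩

/-- Induced characters from outside `S(A)` are orthogonal to `S(A)`. -/
theorem inner_above_notMem {A : Subgroup L} [A.Normal] {θ₀ θ : IrrCharacter K}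
    (h₀ : θ₀ ∈ aboveFin K A) (h : θ ∉ aboveFin K A) :
    Cfsg.classInner (indFun K (θ₀ : K → ℂ)) (indFun K (θ : K → ℂ)) = 0 := by
  classical
  rw [classInner_indFun_normal]
  have hne : ∀ x : L, (θ₀ : K → ℂ) ≠ Lib.Char.conjFun K x (θ : K → ℂ) := by
    intro x e
    apply h
    obtain ⟨h1, h2⟩ := (mem_aboveFin K).mp h₀
    rw [mem_aboveFin]
    constructor
    · intro h3
      apply h1
      rw [e, h3]
      rfl
    · intro a ha
      have h4 : ((⟨x * a * x⁻¹, hK.conj_mem _ a.2 x⟩ : K) : L) ∈ A :=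
        (inferInstance : A.Normal).conj_mem _ ha x
      have h5 := h2 _ h4
      rw [e] at h5
      have h6 : Lib.Char.conjFun K x (θ : K → ℂ) ⟨x * a * x⁻¹, hK.conj_mem _ a.2 x⟩ = (θ : K → ℂ) a := by
        simp only [conjFun_apply]
        refine congrArg _ (Subtype.ext ?_)
        show x⁻¹ * (x * (a : L) * x⁻¹) * x = a
        group
      have h7 : Lib.Char.conjFun K x (θ : K → ℂ) 1 = (θ : K → ℂ) 1 := by
        simp only [conjFun_apply]
        refine congrArg _ (Subtype.ext ?_)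
        show x⁻¹ * 1 * x = 1
        group
      rw [h6, h7] at h5
      exact h5
  have : ∀ x : L, Cfsg.classInner (θ₀ : K → ℂ) (Lib.Char.conjFun K x (θ : K → ℂ)) = 0 := fun x =>
    classInner_irr_of_ne θ₀.2 (isIrrCharacter_conjFun K x θ.2) (hne x)
  simp [this]

theorem sum_above_inner {A : Subgroup L} [A.Normal] {θ₀ : IrrCharacter K} (h₀ : θ₀ ∈ aboveFin K A) :
    ∑ θ ∈ aboveFin K A, (θ : K → ℂ) 1 *
      Cfsg.classInner (indFun K (θ : K → ℂ)) (indFun K (θ₀ : K → ℂ)) = indFun K (θ₀ : K → ℂ) 1 := by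
  classical
  have hχ : IsCharacter L (indFun K (θ₀ : K → ℂ)) := isCharacter_indFun K (IsIrrCharacter.isCharacter θ₀.2)
  have hres : IsClassFunction K (fun k : K => indFun K (θ₀ : K → ℂ) k) := by
    intro g h
    exact isClassFunction_indFun K _ (g : L) (h : L)
  have hexp := congrFun (classFunction_eq_sum _ hres) 1
  simp only [Finset.sum_apply, Pi.smul_apply, smul_eq_mul] at hexp
  have h1 : ∀ θ : IrrCharacter K, Cfsg.classInner (fun k : K => indFun K (θ₀ : K → ℂ) k) (θ : K → ℂ) =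
      Cfsg.classInner (indFun K (θ₀ : K → ℂ)) (indFun K (θ : K → ℂ)) := fun θ =>
    (classInner_indFun_right K _ _ (isClassFunction_indFun K _)).symm
  simp only [h1] at hexp
  have h2 : ∑ θ : IrrCharacter K, Cfsg.classInner (indFun K (θ₀ : K → ℂ)) (indFun K (θ : K → ℂ)) * (θ : K → ℂ) 1 =
      ∑ θ ∈ aboveFin K A, Cfsg.classInner (indFun K (θ₀ : K → ℂ)) (indFun K (θ : K → ℂ)) * (θ : K → ℂ) 1 := by
    symm
    refine Finset.sum_subset (Finset.subset_univ _) fun θ _ hθ => ?_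
    rw [inner_above_notMem K h₀ hθ, zero_mul]
  rw [h2] at hexp
  have hone : ((1 : K) : L) = 1 := rfl
  rw [hone] at hexp
  rw [hexp]
  refine Finset.sum_congr rfl fun θ _ => ?_
  obtain ⟨n, hn⟩ := IsCharacter.classInner_nat hχ (isCharacter_indFun K (IsIrrCharacter.isCharacter θ.2))
  rw [classInner_conj_symm, hn, map_natCast, mul_comm]

/-- The sum of the squares of the degrees of the irreducible characters in `S(A)`. -/
theorem sum_above_degree_sq (A : Subgroup L) [A.Normal] :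
    ∑ θ ∈ aboveFin K A, (θ : K → ℂ) 1 ^ 2 = (A.relIndex K : ℂ) - 1 := by
  classical
  have h := sum_irr_trivial_on (A.subgroupOf K)
  let θ₁ : IrrCharacter K := ⟨fun _ => 1, isIrrCharacter_one⟩
  have h1 : (Finset.univ.filter fun θ : IrrCharacter K => ∀ n : (A.subgroupOf K), (θ : K → ℂ) n = (θ : K → ℂ) 1) =
      insert θ₁ (aboveFin K A) := by
    ext θ
    simp only [Finset.mem_filter, Finset.mem_univ, true_and, Finset.mem_insert, mem_aboveFin]
    constructor
    · intro h2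
      by_cases h3 : (θ : K → ℂ) = fun _ => 1
      · exact Or.inl (Subtype.ext h3)
      · exact Or.inr ⟨h3, fun a ha => h2 ⟨a, Subgroup.mem_subgroupOf.mpr ha⟩⟩
    · rintro (rfl | ⟨-, h2⟩)
      · intro n
        rfl
      · intro n
        exact h2 n.1 (Subgroup.mem_subgroupOf.mp n.2)
  have h2 : θ₁ ∉ aboveFin K A := by
    intro h3
    exact ((mem_aboveFin K).mp h3).1 rfl
  have h3 : (A.relIndex K : ℂ) = ((A.subgroupOf K).index : ℂ) := rfl
  rw [h3, ← h]
  convert_to ∑ θ ∈ aboveFin K A, (θ : K → ℂ) 1 ^ 2 = (∑ θ ∈ insert θ₁ (aboveFin K A), (θ : K → ℂ) 1 ^ 2) - 1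
  · rw [h1]
  rw [Finset.sum_insert h2]
  simp [θ₁]

/-- The formula for `∑ φ(1)²/⟨φ,φ⟩` over `S(A)`. -/
theorem sum_induced_above (A : Subgroup L) [A.Normal] (T : Finset (L → ℂ))
    (hT : ∀ φ, φ ∈ T ↔ φ ∈ Cfsg.inducedIrrAbove K A)
    (horth : ∀ φ ∈ T, ∀ φ' ∈ T, φ ≠ φ' → Cfsg.classInner φ φ' = 0)
    (h0 : ∀ φ ∈ T, Cfsg.classInner φ φ ≠ 0) :
    ∑ φ ∈ T, φ 1 ^ 2 / Cfsg.classInner φ φ = (K.index : ℂ) * ((A.relIndex K : ℂ) - 1) := by
  classical
  let F₀ : L → ℂ := ∑ θ ∈ aboveFin K A, (θ : K → ℂ) 1 • indFun K (θ : K → ℂ)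
  let c : (L → ℂ) → ℂ := fun φ =>
    ∑ θ ∈ (aboveFin K A).filter (fun θ : IrrCharacter K => indFun K (θ : K → ℂ) = φ), (θ : K → ℂ) 1
  have hmaps : ∀ θ ∈ aboveFin K A, indFun K (θ : K → ℂ) ∈ T := fun θ h => (hT _).mpr (indFun_mem_above K h)
  have h1 : F₀ = ∑ φ ∈ T, c φ • φ := by
    show (∑ θ ∈ aboveFin K A, (θ : K → ℂ) 1 • indFun K (θ : K → ℂ)) = _
    rw [← Finset.sum_fiberwise_of_maps_to hmaps]
    refine Finset.sum_congr rfl fun φ _ => ?_
    simp only [c, Finset.sum_smul]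
    refine Finset.sum_congr rfl fun θ hθ => ?_
    rw [(Finset.mem_filter.mp hθ).2]
  have h2 : ∀ φ ∈ T, Cfsg.classInner F₀ φ = c φ * Cfsg.classInner φ φ := by
    intro φ hφ
    rw [h1, classInner_sum_left, Finset.sum_eq_single φ]
    · rw [classInner_smul_left]
    · intro φ' hφ' hne
      rw [classInner_smul_left, horth φ' hφ' φ hφ hne, mul_zero]
    · intro h
      exact absurd hφ h
  have h3 : ∀ φ ∈ T, Cfsg.classInner F₀ φ = φ 1 := by
    intro φ hφ
    obtain ⟨θ₀, hθ₀, hne, htriv, rfl⟩ := (hT φ).mp hφ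
    let θ₀' : IrrCharacter K := ⟨θ₀, hθ₀⟩
    have hmem : θ₀' ∈ aboveFin K A := (mem_aboveFin K).mpr ⟨hne, htriv⟩
    have := sum_above_inner K hmem
    simp only [F₀, classInner_sum_left, classInner_smul_left]
    exact this
  have h4 : ∀ φ ∈ T, c φ = φ 1 / Cfsg.classInner φ φ := by
    intro φ hφ
    rw [eq_div_iff (h0 φ hφ), ← h2 φ hφ, h3 φ hφ]
  have h5 : F₀ 1 = ∑ φ ∈ T, φ 1 ^ 2 / Cfsg.classInner φ φ := by
    rw [h1, Finset.sum_apply]
    refine Finset.sum_congr rfl fun φ hφ => ?_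
    rw [Pi.smul_apply, h4 φ hφ, smul_eq_mul]
    ring
  have h6 : F₀ 1 = (K.index : ℂ) * ((A.relIndex K : ℂ) - 1) := by
    simp only [F₀, Finset.sum_apply, Pi.smul_apply, smul_eq_mul, indFun_one]
    rw [← sum_above_degree_sq K A, Finset.mul_sum]
    refine Finset.sum_congr rfl fun θ _ => ?_
    ring
  rw [← h5, h6]

end Above

section Restrict

variable {L G : Type*} [Group L] [Fintype L] [Group G] [Fintype G]
  {S : Set (L → ℂ)} {τ : (L → ℂ) → (G → ℂ)} {R : (L → ℂ) → Finset (G → ℂ)}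

/-- A coherence system restricts to a nonempty subset closed under conjugation. -/
theorem IsCoherenceSystem.mono (hS : IsCoherenceSystem S τ R) {S' : Set (L → ℂ)} (h : S' ⊆ S)
    (hne : S'.Nonempty) (hc : ∀ χ ∈ S', Cfsg.conjFun χ ∈ S') : IsCoherenceSystem S' τ R where
  nonempty := hne
  isCharacter := fun χ hχ => hS.isCharacter χ (h hχ)
  conj_mem := hc
  conj_ne := fun χ hχ => hS.conj_ne χ (h hχ)
  isometry := isLinearIsometryOn_mono (zspanOn_mono h) hS.isometry
  map_one := fun α hα => hS.map_one α (zspanOn_mono h hα)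
  orthogonal := fun χ hχ φ hφ => hS.orthogonal χ (h hχ) φ (h hφ)
  orthonormal := fun χ hχ => hS.orthonormal χ (h hχ)
  virtual := fun χ hχ => hS.virtual χ (h hχ)
  sum_eq := fun χ hχ => hS.sum_eq χ (h hχ)
  disjoint := fun χ hχ φ hφ => hS.disjoint χ (h hχ) φ (h hφ)

/-- Restriction of coherence to a subset containing a nonzero combination. -/
theorem IsCoherent.mono {S₁ S₂ : Set (L → ℂ)} {A : Set L} (h : S₂ ⊆ S₁) (h1 : IsCoherent S₁ A τ)
    (hne : ∃ α ∈ Cfsg.zspanOn S₂ A, α ≠ 0) : IsCoherent S₂ A τ := by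
  obtain ⟨-, τ₁, hτ₁, hag⟩ := h1
  exact ⟨hne, τ₁, isLinearIsometryOn_mono (zspan_mono h) hτ₁, fun α hα => hag α (zspanOn_mono h hα)⟩

end Restrict

end Cfsg.Agent.Lib.OddChar
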