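import Cfsg.Agent.Lib.OddChar.Inner
import Cfsg.Agent.Lib.Char.Coset

/-! # Linear isometries on sublattices of class functions: API, Bessel's inequality, gluing. -/

set_option autoImplicit false

namespace Cfsg.Agent.Lib.OddChar

open Cfsg Cfsg.Agent.Lib.Char
open scoped ComplexConjugate

section Norm

variable {G : Type*} [Group G] [Fintype G]

theorem classInner_self_re_nonneg (f : G → ℂ) : 0 ≤ (classInner f f).re := by
  rw [classInner_self_eq_sum_normSq]
  simp only [Complex.ofReal_re]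
  positivity

theorem classInner_self_im (f : G → ℂ) : (classInner f f).im = 0 := by
  rw [classInner_self_eq_sum_normSq]
  exact Complex.ofReal_im _

theorem classInner_self_eq_re (f : G → ℂ) : classInner f f = ((classInner f f).re : ℂ) :=
  Complex.ext (by simp) (by simp [classInner_self_im])

theorem eq_zero_of_classInner_self {f : G → ℂ} (h : classInner f f = 0) : f = 0 := by
  rw [classInner_self_eq_sum_normSq] at h
  have h1 : (Nat.card G : ℝ)⁻¹ * ∑ g : G, ‖f g‖ ^ 2 = 0 := by exact_mod_cast h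
  have hpos : (0 : ℝ) < (Nat.card G : ℝ)⁻¹ := by
    have : 0 < Nat.card G := Nat.card_pos
    positivity
  have h2 := (mul_eq_zero.mp h1).resolve_left hpos.ne'
  funext g
  have h3 := (Finset.sum_eq_zero_iff_of_nonneg (fun k _ => by positivity)).mp h2 g (Finset.mem_univ _)
  simpa using h3

theorem classInner_self_ne_zero {f : G → ℂ} (h : f ≠ 0) : classInner f f ≠ 0 :=
  fun h' => h (eq_zero_of_classInner_self h')

/-- `⟨f, g⟩ = conj ⟨g, f⟩ = 0`. -/
theorem classInner_comm_zero {f g : G → ℂ} (h : classInner f g = 0) : classInner g f = 0 := by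
  rw [classInner_conj_symm, h, map_zero]

theorem classInner_conjFun_conjFun (f g : G → ℂ) :
    classInner (Cfsg.conjFun f) (Cfsg.conjFun g) = conj (classInner f g) := by
  simp [classInner, Cfsg.conjFun]

theorem conjFun_conjFun {X : Type*} (f : X → ℂ) : Cfsg.conjFun (Cfsg.conjFun f) = f := by
  funext x
  simp [Cfsg.conjFun]

/-- Subtracting the orthogonal projection. -/
theorem classInner_sub_proj {ι : Type*} [DecidableEq ι] (s : Finset ι) (e : ι → G → ℂ) (w : ι → ℝ)
    (hw : ∀ i ∈ s, 0 < w i)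
    (horth : ∀ i ∈ s, ∀ j ∈ s, classInner (e i) (e j) = if i = j then (w i : ℂ) else 0)
    (f : G → ℂ) :
    classInner (f - ∑ i ∈ s, (classInner f (e i) / (w i : ℂ)) • e i)
      (f - ∑ i ∈ s, (classInner f (e i) / (w i : ℂ)) • e i) =
      classInner f f - ((∑ i ∈ s, ‖classInner f (e i)‖ ^ 2 / w i : ℝ) : ℂ) := by
  have hw0 : ∀ i ∈ s, (w i : ℂ) ≠ 0 := fun i hi => by exact_mod_cast (hw i hi).ne'
  have h1 : ∀ j ∈ s, classInner (∑ i ∈ s, (classInner f (e i) / (w i : ℂ)) • e i) (e j) = classInner f (e j) := by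
    intro j hj
    rw [classInner_sum_left]
    simp only [classInner_smul_left]
    rw [Finset.sum_eq_single j]
    · rw [horth j hj j hj, if_pos rfl]
      field_simp [hw0 j hj]
    · intro i hi hij
      rw [horth i hi j hj, if_neg hij, mul_zero]
    · intro h
      exact absurd hj h
  have h2 : classInner f (∑ i ∈ s, (classInner f (e i) / (w i : ℂ)) • e i) =
      ((∑ i ∈ s, ‖classInner f (e i)‖ ^ 2 / w i : ℝ) : ℂ) := by
    rw [classInner_sum_right]
    simp only [classInner_smul_right]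
    push_cast
    refine Finset.sum_congr rfl fun i hi => ?_
    have h3 : conj (classInner f (e i) / (w i : ℂ)) = conj (classInner f (e i)) / (w i : ℂ) := by
      simp
    rw [h3, div_mul_eq_mul_div, mul_comm, Complex.mul_conj']
  have h3 : classInner (∑ i ∈ s, (classInner f (e i) / (w i : ℂ)) • e i)
      (∑ i ∈ s, (classInner f (e i) / (w i : ℂ)) • e i) =
      ((∑ i ∈ s, ‖classInner f (e i)‖ ^ 2 / w i : ℝ) : ℂ) := by
    rw [classInner_sum_right]
    simp only [classInner_smul_right, h1]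
    rw [← h2, classInner_sum_right]
    simp only [classInner_smul_right]
    refine Finset.sum_congr rfl fun i hi => ?_
    rw [h1 i hi]
  have h4 : classInner (∑ i ∈ s, (classInner f (e i) / (w i : ℂ)) • e i) f =
      ((∑ i ∈ s, ‖classInner f (e i)‖ ^ 2 / w i : ℝ) : ℂ) := by
    rw [classInner_conj_symm, h2]
    simp
  rw [classInner_sub_left, classInner_sub_right, classInner_sub_right, h2, h3, h4]
  ring

/-- **Bessel's inequality.** -/
theorem bessel {ι : Type*} [DecidableEq ι] (s : Finset ι) (e : ι → G → ℂ) (w : ι → ℝ)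
    (hw : ∀ i ∈ s, 0 < w i)
    (horth : ∀ i ∈ s, ∀ j ∈ s, classInner (e i) (e j) = if i = j then (w i : ℂ) else 0)
    (f : G → ℂ) : ∑ i ∈ s, ‖classInner f (e i)‖ ^ 2 / w i ≤ (classInner f f).re := by
  have h := classInner_self_re_nonneg (f - ∑ i ∈ s, (classInner f (e i) / (w i : ℂ)) • e i)
  rw [classInner_sub_proj s e w hw horth f] at h
  simp only [Complex.sub_re, Complex.ofReal_re] at h
  linarith

/-- Equality in Bessel's inequality. -/
theorem bessel_eq {ι : Type*} [DecidableEq ι] (s : Finset ι) (e : ι → G → ℂ) (w : ι → ℝ)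
    (hw : ∀ i ∈ s, 0 < w i)
    (horth : ∀ i ∈ s, ∀ j ∈ s, classInner (e i) (e j) = if i = j then (w i : ℂ) else 0)
    (f : G → ℂ) (heq : (classInner f f).re ≤ ∑ i ∈ s, ‖classInner f (e i)‖ ^ 2 / w i) :
    f = ∑ i ∈ s, (classInner f (e i) / (w i : ℂ)) • e i := by
  have h1 := bessel s e w hw horth f
  have h2 : (classInner f f).re = ∑ i ∈ s, ‖classInner f (e i)‖ ^ 2 / w i := le_antisymm heq h1
  have h3 := classInner_sub_proj s e w hw horth f
  rw [classInner_self_eq_re f, h2, sub_self] at h3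
  exact sub_eq_zero.mp (eq_zero_of_classInner_self h3)

end Norm

section Iso

variable {L : Type*} [Group L] [Fintype L] {G : Type*} [Group G] [Fintype G]

/-- A sublattice is a `ℤ`-submodule; `E` carries the coercion. -/
theorem isLinearIsometryOn_mono {E F : Set (L → ℂ)} {τ : (L → ℂ) → (G → ℂ)} (h : E ⊆ F)
    (hτ : IsLinearIsometryOn F τ) : IsLinearIsometryOn E τ :=
  ⟨fun a ha b hb => hτ.1 a (h ha) b (h hb), fun a ha n => hτ.2.1 a (h ha) n,
    fun a ha b hb => hτ.2.2.1 a (h ha) b (h hb), fun a ha => hτ.2.2.2 a (h ha)⟩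

namespace IsoLat

variable {E : Submodule ℤ (L → ℂ)} {τ : (L → ℂ) → (G → ℂ)}

theorem map_zero (hτ : IsLinearIsometryOn (E : Set (L → ℂ)) τ) : τ 0 = 0 := by
  have := hτ.2.1 0 E.zero_mem 0
  simpa using this

theorem map_neg (hτ : IsLinearIsometryOn (E : Set (L → ℂ)) τ) {a : L → ℂ} (ha : a ∈ E) : τ (-a) = -τ a := by
  have := hτ.2.1 a ha (-1)
  simpa using this

theorem map_sub (hτ : IsLinearIsometryOn (E : Set (L → ℂ)) τ) {a b : L → ℂ} (ha : a ∈ E) (hb : b ∈ E) :
    τ (a - b) = τ a - τ b := by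
  rw [sub_eq_add_neg, hτ.1 a ha (-b) (E.neg_mem hb), map_neg hτ hb, sub_eq_add_neg]

theorem map_zsmul (hτ : IsLinearIsometryOn (E : Set (L → ℂ)) τ) {a : L → ℂ} (ha : a ∈ E) (n : ℤ) :
    τ (n • a) = n • τ a := hτ.2.1 a ha n

theorem map_add (hτ : IsLinearIsometryOn (E : Set (L → ℂ)) τ) {a b : L → ℂ} (ha : a ∈ E) (hb : b ∈ E) :
    τ (a + b) = τ a + τ b := hτ.1 a ha b hb

theorem inner (hτ : IsLinearIsometryOn (E : Set (L → ℂ)) τ) {a b : L → ℂ} (ha : a ∈ E) (hb : b ∈ E) :
    classInner (τ a) (τ b) = classInner a b := hτ.2.2.1 a ha b hb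

theorem virtual (hτ : IsLinearIsometryOn (E : Set (L → ℂ)) τ) {a : L → ℂ} (ha : a ∈ E) :
    IsGeneralizedCharacter G (τ a) := hτ.2.2.2 a ha

end IsoLat

/-- `zspanOn` as a submodule. -/
def zspanOnSub (S : Set (L → ℂ)) (A : Set L) : Submodule ℤ (L → ℂ) where
  carrier := zspanOn S A
  add_mem' := by
    intro a b ha hb
    refine ⟨Submodule.add_mem _ ha.1 hb.1, fun x hx => ?_⟩
    simp [ha.2 x hx, hb.2 x hx]
  zero_mem' := ⟨Submodule.zero_mem _, fun _ _ => rfl⟩
  smul_mem' := by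
    intro n a ha
    refine ⟨Submodule.smul_mem _ n ha.1, fun x hx => ?_⟩
    simp [ha.2 x hx]

/-- `zspan` as a submodule. -/
def zspanSub (S : Set (L → ℂ)) : Submodule ℤ (L → ℂ) := Submodule.span ℤ S

theorem mem_zspanSub {S : Set (L → ℂ)} {a : L → ℂ} : a ∈ zspanSub S ↔ a ∈ zspan S := Iff.rfl

theorem mem_zspanOnSub {S : Set (L → ℂ)} {A : Set L} {a : L → ℂ} :
    a ∈ zspanOnSub S A ↔ a ∈ zspanOn S A := Iff.rfl

theorem zspan_mono {S T : Set (L → ℂ)} (h : S ⊆ T) : zspan S ⊆ zspan T :=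
  Submodule.span_mono h

theorem zspanOn_mono {S T : Set (L → ℂ)} {A : Set L} (h : S ⊆ T) : zspanOn S A ⊆ zspanOn T A :=
  fun _ ha => ⟨zspan_mono h ha.1, ha.2⟩

/-- **Gluing of two isometries** compatible with the inner products. -/
theorem exists_isometry_sup (E F : Submodule ℤ (L → ℂ)) (σ τ : (L → ℂ) → (G → ℂ))
    (hσ : IsLinearIsometryOn (E : Set (L → ℂ)) σ) (hτ : IsLinearIsometryOn (F : Set (L → ℂ)) τ)
    (hcross : ∀ a ∈ E, ∀ b ∈ F, classInner (σ a) (τ b) = classInner a b) :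
    ∃ ρ : (L → ℂ) → (G → ℂ), IsLinearIsometryOn ((E ⊔ F : Submodule ℤ (L → ℂ)) : Set (L → ℂ)) ρ ∧
      (∀ a ∈ E, ρ a = σ a) ∧ (∀ b ∈ F, ρ b = τ b) := by
  classical
  have hcross' : ∀ a ∈ E, ∀ b ∈ F, classInner (τ b) (σ a) = classInner b a := by
    intro a ha b hb
    rw [classInner_conj_symm, hcross a ha b hb, ← classInner_conj_symm]
  -- well definedness
  have hagree : ∀ c ∈ E, c ∈ F → σ c = τ c := by
    intro c hE hF
    have h1 : classInner (σ c - τ c) (σ c - τ c) = 0 := by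
      rw [classInner_sub_left, classInner_sub_right, classInner_sub_right, IsoLat.inner hσ hE hE,
        hcross c hE c hF, hcross' c hE c hF, IsoLat.inner hτ hF hF]
      ring
    exact sub_eq_zero.mp (eq_zero_of_classInner_self h1)
  have hwd : ∀ a ∈ E, ∀ b ∈ F, ∀ a' ∈ E, ∀ b' ∈ F, a + b = a' + b' → σ a + τ b = σ a' + τ b' := by
    intro a ha b hb a' ha' b' hb' he
    have h1 : a - a' = b' - b := by
      have : a - a' + (b - b') = 0 := by
        rw [← sub_eq_zero] at he
        rw [← he]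
        abel
      rw [← sub_eq_zero, ← this]
      abel
    have h2 := hagree (a - a') (E.sub_mem ha ha') (h1 ▸ F.sub_mem hb' hb)
    rw [IsoLat.map_sub hσ ha ha', h1, IsoLat.map_sub hτ hb' hb] at h2
    have h3 : σ a + τ b = σ a' + τ b' + (σ a - σ a' - (τ b' - τ b)) := by abel
    rw [h3, h2, sub_self, add_zero]
  -- the definition by choice
  have hdec : ∀ x : L → ℂ, ∃ a b : L → ℂ, (x ∈ E ⊔ F → a ∈ E ∧ b ∈ F ∧ a + b = x) := by
    intro x
    by_cases hx : x ∈ E ⊔ F
    · obtain ⟨a, ha, b, hb, e⟩ := Submodule.mem_sup.mp hx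
      exact ⟨a, b, fun _ => ⟨ha, hb, e⟩⟩
    · exact ⟨0, 0, fun h => absurd h hx⟩
  choose A B hAB using hdec
  let ρ : (L → ℂ) → (G → ℂ) := fun x => σ (A x) + τ (B x)
  have hρ : ∀ a ∈ E, ∀ b ∈ F, ρ (a + b) = σ a + τ b := by
    intro a ha b hb
    obtain ⟨h1, h2, h3⟩ := hAB (a + b) (Submodule.add_mem_sup ha hb)
    exact hwd _ h1 _ h2 _ ha _ hb h3
  refine ⟨ρ, ⟨?_, ?_, ?_, ?_⟩, ?_, ?_⟩
  · intro x hx y hy
    obtain ⟨a, ha, b, hb, rfl⟩ := Submodule.mem_sup.mp hx
    obtain ⟨a', ha', b', hb', rfl⟩ := Submodule.mem_sup.mp hy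
    have e : a + b + (a' + b') = (a + a') + (b + b') := by abel
    rw [e, hρ _ (E.add_mem ha ha') _ (F.add_mem hb hb'), hρ a ha b hb, hρ a' ha' b' hb',
      IsoLat.map_add hσ ha ha', IsoLat.map_add hτ hb hb']
    abel
  · intro x hx n
    obtain ⟨a, ha, b, hb, rfl⟩ := Submodule.mem_sup.mp hx
    rw [smul_add, hρ _ (E.smul_mem n ha) _ (F.smul_mem n hb), hρ a ha b hb,
      IsoLat.map_zsmul hσ ha, IsoLat.map_zsmul hτ hb, smul_add]
  · intro x hx y hy
    obtain ⟨a, ha, b, hb, rfl⟩ := Submodule.mem_sup.mp hx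
    obtain ⟨a', ha', b', hb', rfl⟩ := Submodule.mem_sup.mp hy
    rw [hρ a ha b hb, hρ a' ha' b' hb', classInner_add_left, classInner_add_right, classInner_add_right,
      classInner_add_left, classInner_add_right, classInner_add_right, IsoLat.inner hσ ha ha',
      IsoLat.inner hτ hb hb', hcross a ha b' hb', hcross' a' ha' b hb]
  · intro x hx
    obtain ⟨a, ha, b, hb, rfl⟩ := Submodule.mem_sup.mp hx
    rw [hρ a ha b hb]
    exact IsGeneralizedCharacter.add (IsoLat.virtual hσ ha) (IsoLat.virtual hτ hb)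
  · intro a ha
    have := hρ a ha 0 F.zero_mem
    rw [add_zero, IsoLat.map_zero hτ, add_zero] at this
    exact this
  · intro b hb
    have := hρ 0 E.zero_mem b hb
    rw [zero_add, IsoLat.map_zero hσ, zero_add] at this
    exact this

/-- The isometry of `ℤ χ` sending `χ` to `y`. -/
theorem exists_isometry_zsmul (χ : L → ℂ) (y : G → ℂ) (hy : IsGeneralizedCharacter G y)
    (hn : classInner y y = classInner χ χ) :
    ∃ τ : (L → ℂ) → (G → ℂ), IsLinearIsometryOn ((Submodule.span ℤ {χ} : Submodule ℤ (L → ℂ)) : Set (L → ℂ)) τ ∧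
      ∀ n : ℤ, τ (n • χ) = n • y := by
  classical
  have hspan : ∀ x, x ∈ Submodule.span ℤ {χ} ↔ ∃ n : ℤ, n • χ = x := fun x => Submodule.mem_span_singleton
  have hwd : ∀ n m : ℤ, n • χ = m • χ → n • y = m • y := by
    intro n m e
    have h1 : (n - m) • χ = 0 := by rw [sub_smul, e, sub_self]
    have h2 : classInner ((n - m) • y) ((n - m) • y) = 0 := by
      rw [classInner_zsmul_left, classInner_zsmul_right, hn, ← classInner_zsmul_right,
        ← classInner_zsmul_left, h1, classInner_zero_left]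
    have h3 := eq_zero_of_classInner_self h2
    rw [sub_smul] at h3
    exact sub_eq_zero.mp h3
  have hdec : ∀ x : L → ℂ, ∃ n : ℤ, (x ∈ Submodule.span ℤ {χ} → n • χ = x) := by
    intro x
    by_cases hx : x ∈ Submodule.span ℤ {χ}
    · obtain ⟨n, hn⟩ := (hspan x).mp hx
      exact ⟨n, fun _ => hn⟩
    · exact ⟨0, fun h => absurd h hx⟩
  choose c hc using hdec
  let τ : (L → ℂ) → (G → ℂ) := fun x => c x • y
  have hτ : ∀ n : ℤ, τ (n • χ) = n • y := by
    intro n
    exact hwd _ _ (hc (n • χ) ((hspan _).mpr ⟨n, rfl⟩))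
  refine ⟨τ, ⟨?_, ?_, ?_, ?_⟩, hτ⟩
  · intro a ha b hb
    obtain ⟨n, rfl⟩ := (hspan a).mp ha
    obtain ⟨m, rfl⟩ := (hspan b).mp hb
    rw [← add_smul, hτ, hτ, hτ, add_smul]
  · intro a ha k
    obtain ⟨n, rfl⟩ := (hspan a).mp ha
    rw [smul_smul, hτ, hτ, smul_smul]
  · intro a ha b hb
    obtain ⟨n, rfl⟩ := (hspan a).mp ha
    obtain ⟨m, rfl⟩ := (hspan b).mp hb
    rw [hτ, hτ, classInner_zsmul_left, classInner_zsmul_right, classInner_zsmul_left,
      classInner_zsmul_right, hn]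
  · intro a ha
    obtain ⟨n, rfl⟩ := (hspan a).mp ha
    rw [hτ]
    obtain ⟨p, q, hp, hq, rfl⟩ := hy
    have key : ∀ k : ℕ, IsGeneralizedCharacter G ((k : ℤ) • (p - q)) := by
      intro k
      induction k with
      | zero =>
        simpa using IsGeneralizedCharacter.sub (⟨p, q, hp, hq, rfl⟩ : IsGeneralizedCharacter G (p - q))
          (⟨p, q, hp, hq, rfl⟩ : IsGeneralizedCharacter G (p - q))
      | succ k ih =>
        have := IsGeneralizedCharacter.add ih (⟨p, q, hp, hq, rfl⟩ : IsGeneralizedCharacter G (p - q))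
        convert this using 1
        push_cast
        rw [add_smul, one_smul]
    obtain ⟨k, rfl | rfl⟩ := n.eq_nat_or_neg
    · exact key k
    · rw [neg_smul]
      exact IsGeneralizedCharacter.neg (key k)

/-- The span of `χ` and `E` is the `ℤ`-span when `E` is a span. -/
theorem zspanSub_insert (χ : L → ℂ) (S : Set (L → ℂ)) :
    zspanSub (insert χ S) = Submodule.span ℤ {χ} ⊔ zspanSub S :=
  Submodule.span_insert χ S

theorem classInner_left_eq_zero_of_span {S : Set (L → ℂ)} {χ : L → ℂ}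
    (h : ∀ s ∈ S, classInner s χ = 0) {a : L → ℂ} (ha : a ∈ zspan S) : classInner a χ = 0 := by
  refine Submodule.span_induction (p := fun a _ => classInner a χ = 0) h ?_ ?_ ?_ ha
  · exact classInner_zero_left _
  · rintro a b _ _ h1 h2
    rw [classInner_add_left, h1, h2, add_zero]
  · rintro n a _ h1
    rw [classInner_zsmul_left, h1, mul_zero]

/-- An element of the span vanishing at `1` is in `zspanOn`. -/
theorem mem_zspanOn_of {S : Set (L → ℂ)} {a : L → ℂ} (h : a ∈ zspan S) (h1 : a 1 = 0) :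
    a ∈ zspanOn S {1}ᶜ := by
  refine ⟨h, fun x hx => ?_⟩
  have : x = 1 := by simpa using hx
  rw [this, h1]

/-- `⟨y, σ a⟩` on a span is determined on generators. -/
theorem classInner_span_induction {S : Set (L → ℂ)} {σ : (L → ℂ) → (G → ℂ)}
    (hσ : IsLinearIsometryOn (zspan S) σ) (y : G → ℂ) (f : (L → ℂ) →+ ℂ)
    (hf : ∀ n : ℤ, ∀ a, f (n • a) = (n : ℂ) * f a)
    (hgen : ∀ s ∈ S, classInner y (σ s) = f s) {a : L → ℂ} (ha : a ∈ zspan S) :
    classInner y (σ a) = f a := by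
  have hσ' : IsLinearIsometryOn ((zspanSub S : Submodule ℤ (L → ℂ)) : Set (L → ℂ)) σ := hσ
  have hP : a ∈ zspanSub S ∧ classInner y (σ a) = f a := by
    refine Submodule.span_induction (p := fun a _ => a ∈ zspanSub S ∧ classInner y (σ a) = f a)
      ?_ ?_ ?_ ?_ ha
    · intro s hs
      exact ⟨Submodule.subset_span hs, hgen s hs⟩
    · refine ⟨Submodule.zero_mem _, ?_⟩
      rw [IsoLat.map_zero hσ', classInner_zero_right]
      simp
    · rintro a b _ _ ⟨h1, h2⟩ ⟨h3, h4⟩
      refine ⟨Submodule.add_mem _ h1 h3, ?_⟩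
      rw [IsoLat.map_add hσ' h1 h3, classInner_add_right, h2, h4, map_add]
    · rintro n a _ ⟨h1, h2⟩
      refine ⟨Submodule.smul_mem _ n h1, ?_⟩
      rw [IsoLat.map_zsmul hσ' h1, classInner_zsmul_right, h2, hf]
  exact hP.2

end Iso

end Cfsg.Agent.Lib.OddChar
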