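import Cfsg.Agent.S1515
import Cfsg.Agent.Lib.OddChar.Iso
import Cfsg.Agent.Lib.Char.CliffordBij

/-! # Coherence systems: basic API. -/

set_option autoImplicit false

namespace Cfsg.Agent.Lib.OddChar

open Cfsg Cfsg.Agent.Lib.Char
open scoped ComplexConjugate

section Bessel

variable {G : Type*} [Group G] [Fintype G]

/-- Bessel's inequality for two mutually orthogonal orthonormal sets. -/
theorem bessel_two (A B : Finset (G → ℂ))
    (hA₁ : ∀ α ∈ A, Cfsg.classInner α α = 1) (hA₂ : ∀ α ∈ A, ∀ β ∈ A, α ≠ β → Cfsg.classInner α β = 0)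
    (hB₁ : ∀ α ∈ B, Cfsg.classInner α α = 1) (hB₂ : ∀ α ∈ B, ∀ β ∈ B, α ≠ β → Cfsg.classInner α β = 0)
    (hAB : ∀ α ∈ A, ∀ β ∈ B, Cfsg.classInner α β = 0) (f : G → ℂ) :
    ∑ α ∈ A, ‖Cfsg.classInner f α‖ ^ 2 + ∑ β ∈ B, ‖Cfsg.classInner f β‖ ^ 2 ≤ (Cfsg.classInner f f).re := by
  classical
  have h := bessel (A.disjSum B) (Sum.elim id id) (fun _ => (1 : ℝ)) (by simp) ?_ f
  · rw [Finset.sum_disjSum] at h
    simpa using h
  · rintro (a | a) ha (b | b) hb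
    · simp only [Finset.inl_mem_disjSum] at ha hb
      by_cases e : a = b
      · subst e
        simpa using hA₁ a ha
      · simp [e, hA₂ a ha b hb e]
    · simp only [Finset.inl_mem_disjSum, Finset.inr_mem_disjSum] at ha hb
      simp [hAB a ha b hb]
    · simp only [Finset.inl_mem_disjSum, Finset.inr_mem_disjSum] at ha hb
      simp [classInner_comm_zero (hAB b hb a ha)]
    · simp only [Finset.inr_mem_disjSum] at ha hb
      by_cases e : a = b
      · subst e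
        simpa using hB₁ a ha
      · simp [e, hB₂ a ha b hb e]

theorem bessel_two_eq (A B : Finset (G → ℂ))
    (hA₁ : ∀ α ∈ A, Cfsg.classInner α α = 1) (hA₂ : ∀ α ∈ A, ∀ β ∈ A, α ≠ β → Cfsg.classInner α β = 0)
    (hB₁ : ∀ α ∈ B, Cfsg.classInner α α = 1) (hB₂ : ∀ α ∈ B, ∀ β ∈ B, α ≠ β → Cfsg.classInner α β = 0)
    (hAB : ∀ α ∈ A, ∀ β ∈ B, Cfsg.classInner α β = 0) (f : G → ℂ)
    (heq : (Cfsg.classInner f f).re ≤ ∑ α ∈ A, ‖Cfsg.classInner f α‖ ^ 2 + ∑ β ∈ B, ‖Cfsg.classInner f β‖ ^ 2) :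
    f = ∑ α ∈ A, Cfsg.classInner f α • α + ∑ β ∈ B, Cfsg.classInner f β • β := by
  classical
  have h := bessel_eq (A.disjSum B) (Sum.elim id id) (fun _ => (1 : ℝ)) (by simp) ?_ f ?_
  · rw [Finset.sum_disjSum] at h
    simpa using h
  · rintro (a | a) ha (b | b) hb
    · simp only [Finset.inl_mem_disjSum] at ha hb
      by_cases e : a = b
      · subst e
        simpa using hA₁ a ha
      · simp [e, hA₂ a ha b hb e]
    · simp only [Finset.inl_mem_disjSum, Finset.inr_mem_disjSum] at ha hb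
      simp [hAB a ha b hb]
    · simp only [Finset.inl_mem_disjSum, Finset.inr_mem_disjSum] at ha hb
      simp [classInner_comm_zero (hAB b hb a ha)]
    · simp only [Finset.inr_mem_disjSum] at ha hb
      by_cases e : a = b
      · subst e
        simpa using hB₁ a ha
      · simp [e, hB₂ a ha b hb e]
  · rw [Finset.sum_disjSum]
    simpa using heq

end Bessel

section CohSys

variable {L G : Type*} [Group L] [Fintype L] [Group G] [Fintype G]
  {S : Set (L → ℂ)} {τ : (L → ℂ) → (G → ℂ)} {R : (L → ℂ) → Finset (G → ℂ)}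

theorem coh_conj_one (hS : IsCoherenceSystem S τ R) {χ : L → ℂ} (hχ : χ ∈ S) :
    Cfsg.conjFun χ 1 = χ 1 :=
  IsCharacter.conj_apply_one (hS.isCharacter χ hχ)

theorem coh_isom (hS : IsCoherenceSystem S τ R) :
    IsLinearIsometryOn ((zspanOnSub S {1}ᶜ : Submodule ℤ (L → ℂ)) : Set (L → ℂ)) τ := hS.isometry

theorem coh_sub_mem {S : Set (L → ℂ)} {χ φ : L → ℂ} (hχ : χ ∈ S) (hφ : φ ∈ S) (h : χ 1 = φ 1) :
    χ - φ ∈ zspanOnSub S {1}ᶜ :=
  mem_zspanOn_of (sub_mem_zspan (mem_zspan_of_mem hχ) (mem_zspan_of_mem hφ)) (by simp [h])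

theorem coh_sub_conj_mem (hS : IsCoherenceSystem S τ R) {χ : L → ℂ} (hχ : χ ∈ S) :
    χ - Cfsg.conjFun χ ∈ zspanOnSub S {1}ᶜ :=
  coh_sub_mem hχ (hS.conj_mem χ hχ) (coh_conj_one hS hχ).symm

theorem coh_ortho_self (hS : IsCoherenceSystem S τ R) {χ α : _} (hχ : χ ∈ S) (hα : α ∈ R χ) :
    Cfsg.classInner α α = 1 := by
  rw [hS.orthonormal χ hχ α hα α hα, if_pos rfl]

theorem coh_ortho_ne (hS : IsCoherenceSystem S τ R) {χ : L → ℂ} {α β : G → ℂ} (hχ : χ ∈ S) (hα : α ∈ R χ)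
    (hβ : β ∈ R χ) (h : α ≠ β) : Cfsg.classInner α β = 0 := by
  rw [hS.orthonormal χ hχ α hα β hβ, if_neg h]

/-- The set `R χ` computes inner products with `τ (χ − conj χ)`. -/
theorem coh_inner_T (hS : IsCoherenceSystem S τ R) {χ : L → ℂ} (hχ : χ ∈ S) (f : G → ℂ) :
    Cfsg.classInner f (τ (χ - Cfsg.conjFun χ)) = ∑ α ∈ R χ, Cfsg.classInner f α := by
  rw [hS.sum_eq χ hχ, classInner_sum_right]

theorem coh_inner_conj_self (hS : IsCoherenceSystem S τ R) {χ : L → ℂ} (hχ : χ ∈ S) :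
    Cfsg.classInner χ (Cfsg.conjFun χ) = 0 :=
  hS.orthogonal χ hχ _ (hS.conj_mem χ hχ) (hS.conj_ne χ hχ).symm

theorem coh_inner_self_conj (χ : L → ℂ) :
    Cfsg.classInner (Cfsg.conjFun χ) (Cfsg.conjFun χ) = Cfsg.classInner χ χ := by
  rw [classInner_conjFun_conjFun, ← classInner_conj_symm]

/-- The cardinality of `R χ`. -/
theorem coh_card (hS : IsCoherenceSystem S τ R) {χ : L → ℂ} (hχ : χ ∈ S) :
    ((R χ).card : ℂ) = 2 * Cfsg.classInner χ χ := by
  classical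
  have h1 := IsoLat.inner (coh_isom hS) (coh_sub_conj_mem hS hχ) (coh_sub_conj_mem hS hχ)
  rw [coh_inner_T hS hχ] at h1
  have h2 : ∀ β ∈ R χ, Cfsg.classInner (τ (χ - Cfsg.conjFun χ)) β = 1 := by
    intro β hβ
    rw [hS.sum_eq χ hχ, classInner_sum_left, Finset.sum_eq_single β]
    · exact coh_ortho_self hS hχ hβ
    · intro γ hγ hne
      exact coh_ortho_ne hS hχ hγ hβ hne
    · intro h
      exact absurd hβ h
  rw [Finset.sum_congr rfl h2] at h1
  simp only [Finset.sum_const, nsmul_eq_mul, mul_one] at h1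
  rw [h1, classInner_sub_left, classInner_sub_right, classInner_sub_right, coh_inner_conj_self hS hχ,
    classInner_comm_zero (coh_inner_conj_self hS hχ), coh_inner_self_conj]
  ring

theorem coh_sum_inner (hS : IsCoherenceSystem S τ R) {χ : L → ℂ} (hχ : χ ∈ S) {a : L → ℂ}
    (ha : a ∈ zspanOnSub S {1}ᶜ) :
    ∑ α ∈ R χ, Cfsg.classInner (τ a) α = Cfsg.classInner a (χ - Cfsg.conjFun χ) := by
  rw [← coh_inner_T hS hχ, IsoLat.inner (coh_isom hS) ha (coh_sub_conj_mem hS hχ)]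

/-- Main structural consequence of S1515 for two characters of the same degree. -/
theorem coh_pair (hS : IsCoherenceSystem S τ R) {χ φ : L → ℂ} (hχ : χ ∈ S) (hφ : φ ∈ S)
    (h1 : φ ≠ χ) (h2 : φ ≠ Cfsg.conjFun χ) (hdeg : χ 1 = φ 1) :
    (∀ α ∈ R χ, Cfsg.classInner (τ (χ - φ)) α = 0 ∨ Cfsg.classInner (τ (χ - φ)) α = 1) ∧
    (∑ α ∈ R χ, ‖Cfsg.classInner (τ (χ - φ)) α‖ ^ 2 = (Cfsg.classInner χ χ).re) ∧
    τ (χ - φ) = ∑ α ∈ R χ, Cfsg.classInner (τ (χ - φ)) α • α +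
      ∑ β ∈ R φ, Cfsg.classInner (τ (χ - φ)) β • β := by
  classical
  have hE := coh_isom hS
  have hmem : χ - φ ∈ zspanOnSub S {1}ᶜ := coh_sub_mem hχ hφ hdeg
  have hmem' : φ - χ ∈ zspanOnSub S {1}ᶜ := coh_sub_mem hφ hχ hdeg.symm
  have hχφ : Cfsg.classInner χ φ = 0 := hS.orthogonal χ hχ φ hφ h1.symm
  have hφχ : Cfsg.classInner φ χ = 0 := classInner_comm_zero hχφ
  have hφc : Cfsg.classInner φ (Cfsg.conjFun χ) = 0 :=
    hS.orthogonal φ hφ _ (hS.conj_mem χ hχ) h2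
  have hcφ : Cfsg.classInner (Cfsg.conjFun χ) φ = 0 := classInner_comm_zero hφc
  have h2' : χ ≠ Cfsg.conjFun φ := by
    intro e
    apply h2
    rw [e, conjFun_conjFun]
  have hχc : Cfsg.classInner χ (Cfsg.conjFun φ) = 0 :=
    hS.orthogonal χ hχ _ (hS.conj_mem φ hφ) h2'
  have hcχ : Cfsg.classInner (Cfsg.conjFun φ) χ = 0 := classInner_comm_zero hχc
  -- S1515, first role
  have hspan₁ : Cfsg.zspan {χ - φ, χ - Cfsg.conjFun χ} ⊆
      ((zspanOnSub S {1}ᶜ : Submodule ℤ (L → ℂ)) : Set (L → ℂ)) := by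
    refine Submodule.span_le.mpr ?_
    rintro x (rfl | rfl)
    · exact hmem
    · exact coh_sub_conj_mem hS hχ
  have hspan₂ : Cfsg.zspan {φ - χ, φ - Cfsg.conjFun φ} ⊆
      ((zspanOnSub S {1}ᶜ : Submodule ℤ (L → ℂ)) : Set (L → ℂ)) := by
    refine Submodule.span_le.mpr ?_
    rintro x (rfl | rfl)
    · exact hmem'
    · exact coh_sub_conj_mem hS hφ
  obtain ⟨a1, a2⟩ := Cfsg.Agent.S1515.result S τ R hS χ hχ φ (mem_zspan_of_mem hφ) hχφ hcφ τ
    (isLinearIsometryOn_mono hspan₁ hE) (fun _ => rfl)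
  obtain ⟨b1, -⟩ := Cfsg.Agent.S1515.result S τ R hS φ hφ χ (mem_zspan_of_mem hχ) hφχ hcχ τ
    (isLinearIsometryOn_mono hspan₂ hE) (fun _ => rfl)
  have hneg : τ (φ - χ) = -τ (χ - φ) := by
    rw [← neg_sub, IsoLat.map_neg hE hmem]
  have b1' : (Cfsg.classInner φ φ).re ≤ ∑ β ∈ R φ, ‖Cfsg.classInner (τ (χ - φ)) β‖ ^ 2 := by
    rw [hneg] at b1
    simpa only [classInner_neg_left, norm_neg] using b1
  have hyy : (Cfsg.classInner (τ (χ - φ)) (τ (χ - φ))).re =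
      (Cfsg.classInner χ χ).re + (Cfsg.classInner φ φ).re := by
    rw [IsoLat.inner hE hmem hmem, classInner_sub_left, classInner_sub_right, classInner_sub_right,
      hχφ, hφχ]
    simp
  have hbes := bessel_two (R χ) (R φ) (fun α hα => coh_ortho_self hS hχ hα)
    (fun α hα β hβ h => coh_ortho_ne hS hχ hα hβ h) (fun α hα => coh_ortho_self hS hφ hα)
    (fun α hα β hβ h => coh_ortho_ne hS hφ hα hβ h)
    (hS.disjoint φ hφ χ hχ hχφ hχc) (τ (χ - φ))
  rw [hyy] at hbes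
  have heq1 : ∑ α ∈ R χ, ‖Cfsg.classInner (τ (χ - φ)) α‖ ^ 2 = (Cfsg.classInner χ χ).re := by
    linarith
  obtain ⟨-, hcases⟩ := a2 (by rw [hyy]; linarith)
  refine ⟨hcases, heq1, ?_⟩
  exact bessel_two_eq (R χ) (R φ) (fun α hα => coh_ortho_self hS hχ hα)
    (fun α hα β hβ h => coh_ortho_ne hS hχ hα hβ h) (fun α hα => coh_ortho_self hS hφ hα)
    (fun α hα β hβ h => coh_ortho_ne hS hφ hα hβ h)
    (hS.disjoint φ hφ χ hχ hχφ hχc) (τ (χ - φ)) (by rw [hyy]; linarith)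

end CohSys

end Cfsg.Agent.Lib.OddChar
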