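import Cfsg.Agent.Lib.OddChar.Coh

/-! # Coherence systems: the extension of a coherent isometry is supported on the `R φ`. -/

set_option autoImplicit false

namespace Cfsg.Agent.Lib.OddChar

open Cfsg Cfsg.Agent.Lib.Char
open scoped ComplexConjugate

section CohSys

variable {L G : Type*} [Group L] [Fintype L] [Group G] [Fintype G]
  {S : Set (L → ℂ)} {τ : (L → ℂ) → (G → ℂ)} {R : (L → ℂ) → Finset (G → ℂ)}

theorem coh_ext_decomp (hS : IsCoherenceSystem S τ R) {S₁ : Set (L → ℂ)} (hS₁ : S₁ ⊆ S)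
    (hc : ∀ φ ∈ S₁, Cfsg.conjFun φ ∈ S₁) {τ₁ : (L → ℂ) → (G → ℂ)}
    (hτ₁ : IsLinearIsometryOn (zspan S₁) τ₁) (hagree : ∀ α ∈ zspanOn S₁ {1}ᶜ, τ₁ α = τ α)
    {φ : L → ℂ} (hφ : φ ∈ S₁) :
    τ₁ φ = ∑ β ∈ R φ, Cfsg.classInner (τ₁ φ) β • β := by
  classical
  have hφS := hS₁ hφ
  have hτ₁' : IsLinearIsometryOn ((zspanSub S₁ : Submodule ℤ (L → ℂ)) : Set (L → ℂ)) τ₁ := hτ₁
  have hmem : φ ∈ zspanSub S₁ := Submodule.subset_span hφ
  have hmemc : Cfsg.conjFun φ ∈ zspanSub S₁ := Submodule.subset_span (hc φ hφ)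
  have hsubset : Cfsg.zspan {φ - 0, φ - Cfsg.conjFun φ} ⊆ zspan S₁ := by
    refine Submodule.span_le.mpr ?_
    rintro x (rfl | rfl)
    · rw [sub_zero]
      exact hmem
    · exact Submodule.sub_mem _ hmem hmemc
  have hag : ∀ n : ℤ, τ₁ (n • (φ - Cfsg.conjFun φ)) = τ (n • (φ - Cfsg.conjFun φ)) := by
    intro n
    refine hagree _ (mem_zspanOn_of (Submodule.smul_mem _ _ (Submodule.sub_mem _ hmem hmemc)) ?_)
    have := coh_conj_one hS hφS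
    simp [this]
  obtain ⟨a1, -⟩ := Cfsg.Agent.S1515.result S τ R hS φ hφS 0 (Submodule.zero_mem _)
    (classInner_zero_right _) (classInner_zero_right _) τ₁ (isLinearIsometryOn_mono hsubset hτ₁) hag
  rw [sub_zero] at a1
  have h := bessel_two_eq (R φ) ∅ (fun α hα => coh_ortho_self hS hφS hα)
    (fun α hα β hβ h => coh_ortho_ne hS hφS hα hβ h) (by simp) (by simp) (by simp) (τ₁ φ) (by
      rw [IsoLat.inner hτ₁' hmem hmem]
      simpa using a1)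
  simpa using h

theorem coh_ext_orth (hS : IsCoherenceSystem S τ R) {S₁ : Set (L → ℂ)} (hS₁ : S₁ ⊆ S)
    (hc : ∀ φ ∈ S₁, Cfsg.conjFun φ ∈ S₁) {τ₁ : (L → ℂ) → (G → ℂ)}
    (hτ₁ : IsLinearIsometryOn (zspan S₁) τ₁) (hagree : ∀ α ∈ zspanOn S₁ {1}ᶜ, τ₁ α = τ α)
    {φ : L → ℂ} (hφ : φ ∈ S₁) {f : G → ℂ} (hf : ∀ β ∈ R φ, Cfsg.classInner β f = 0) :
    Cfsg.classInner (τ₁ φ) f = 0 := by
  rw [coh_ext_decomp hS hS₁ hc hτ₁ hagree hφ, classInner_sum_left]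
  refine Finset.sum_eq_zero fun β hβ => ?_
  rw [classInner_smul_left, hf β hβ, mul_zero]

theorem coh_ne_zero (hS : IsCoherenceSystem S τ R) {χ : L → ℂ} (hχ : χ ∈ S) : χ ≠ 0 := by
  rintro rfl
  apply hS.conj_ne 0 hχ
  funext x
  simp [Cfsg.conjFun]

theorem coh_deg_ne_zero (hS : IsCoherenceSystem S τ R) {χ : L → ℂ} (hχ : χ ∈ S) : χ 1 ≠ 0 := fun h0 =>
  coh_ne_zero hS hχ (eq_zero_of_apply_one_eq_zero (hS.isCharacter χ hχ) h0)

end CohSys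

end Cfsg.Agent.Lib.OddChar
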