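import Cfsg.Agent.Lib.Char.Coherent
import Cfsg.Prelude.Def_OddOrderChar

/-! # Bilinearity of `classInner`, integrality, virtual characters of small norm. -/

set_option autoImplicit false

namespace Cfsg.Agent.Lib.OddChar

open Cfsg Cfsg.Agent.Lib.Char
open scoped ComplexConjugate

variable {G : Type*} [Group G] [Fintype G]

theorem classInner_zsmul_left (n : ℤ) (f g : G → ℂ) :
    classInner (n • f) g = (n : ℂ) * classInner f g := by
  have : n • f = (n : ℂ) • f := by
    funext x
    simp
  rw [this, classInner_smul_left]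

theorem classInner_zsmul_right (n : ℤ) (f g : G → ℂ) :
    classInner f (n • g) = (n : ℂ) * classInner f g := by
  have : n • g = (n : ℂ) • g := by
    funext x
    simp
  rw [this, classInner_smul_right]
  simp

theorem IsIrrCharacter.isGeneralizedCharacter {χ : G → ℂ} (hχ : IsIrrCharacter G χ) :
    IsGeneralizedCharacter G χ :=
  ⟨χ, 0, IsIrrCharacter.isCharacter hχ, ⟨0, ⟨1, by
    funext g
    simp [Representation.character]⟩⟩, by simp⟩

theorem IsGeneralizedCharacter.neg {χ : G → ℂ} (hχ : IsGeneralizedCharacter G χ) :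
    IsGeneralizedCharacter G (-χ) := by
  obtain ⟨a, b, ha, hb, rfl⟩ := hχ
  exact ⟨b, a, hb, ha, by simp⟩

theorem IsGeneralizedCharacter.add {χ ψ : G → ℂ} (hχ : IsGeneralizedCharacter G χ)
    (hψ : IsGeneralizedCharacter G ψ) : IsGeneralizedCharacter G (χ + ψ) := by
  obtain ⟨a, b, ha, hb, rfl⟩ := hχ
  obtain ⟨c, d, hc, hd, rfl⟩ := hψ
  refine ⟨a + c, b + d, IsCharacter.add ha hc, IsCharacter.add hb hd, ?_⟩
  abel

theorem IsGeneralizedCharacter.sub {χ ψ : G → ℂ} (hχ : IsGeneralizedCharacter G χ)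
    (hψ : IsGeneralizedCharacter G ψ) : IsGeneralizedCharacter G (χ - ψ) := by
  rw [sub_eq_add_neg]
  exact IsGeneralizedCharacter.add hχ (IsGeneralizedCharacter.neg hψ)

/-- An irreducible character up to sign. -/
def IsPMIrr (G : Type*) [Group G] (χ : G → ℂ) : Prop := IsIrrCharacter G χ ∨ IsIrrCharacter G (-χ)

theorem IsPMIrr.classInner_self {χ : G → ℂ} (h : IsPMIrr G χ) : classInner χ χ = 1 := by
  rcases h with h | h
  · exact classInner_irr_self h
  · have := classInner_irr_self h
    rwa [classInner_neg_left, classInner_neg_right, neg_neg] at this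

theorem IsPMIrr.apply_one_ne_zero {χ : G → ℂ} (h : IsPMIrr G χ) : χ 1 ≠ 0 := by
  rcases h with h | h
  · exact IsIrrCharacter.apply_one_ne_zero h
  · have := IsIrrCharacter.apply_one_ne_zero h
    simpa using this

theorem IsPMIrr.isGeneralizedCharacter {χ : G → ℂ} (h : IsPMIrr G χ) : IsGeneralizedCharacter G χ := by
  rcases h with h | h
  · exact IsIrrCharacter.isGeneralizedCharacter h
  · have := IsGeneralizedCharacter.neg (IsIrrCharacter.isGeneralizedCharacter h)
    simpa using this

/-- Two irreducible characters up to sign are proportional or orthogonal. -/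
theorem IsPMIrr.classInner_cases {α γ : G → ℂ} (hα : IsPMIrr G α) (hγ : IsPMIrr G γ) :
    classInner α γ = 0 ∨ (α = γ ∧ classInner α γ = 1) ∨ (α = -γ ∧ classInner α γ = -1) := by
  classical
  have hγs := IsPMIrr.classInner_self hγ
  by_cases h1 : α = γ
  · right; left
    exact ⟨h1, by rw [h1]; exact hγs⟩
  by_cases h2 : α = -γ
  · right; right
    exact ⟨h2, by rw [h2, classInner_neg_left, hγs]⟩
  left
  rcases hα with hα | hα <;> rcases hγ with hγ | hγ
  · exact classInner_irr_of_ne hα hγ h1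
  · have := classInner_irr_of_ne hα hγ h2
    rw [classInner_neg_right] at this
    simpa using this
  · have h3 : -α ≠ γ := fun h => h2 (by rw [← h]; simp)
    have := classInner_irr_of_ne hα hγ h3
    rw [classInner_neg_left] at this
    simpa using this
  · have h3 : -α ≠ -γ := fun h => h1 (neg_injective h)
    have := classInner_irr_of_ne hα hγ h3
    rwa [classInner_neg_left, classInner_neg_right, neg_neg] at this

/-- A virtual character of norm one is an irreducible character up to sign. -/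
theorem isPMIrr_of_norm_one {θ : G → ℂ} (hθ : IsGeneralizedCharacter G θ) (h1 : classInner θ θ = 1) :
    IsPMIrr G θ := by
  classical
  obtain ⟨c, hc, hs⟩ := IsGeneralizedCharacter.exists_int_coeffs hθ
  have hθcl := IsGeneralizedCharacter.isClassFunction hθ
  have hsum : ∑ ψ : IrrCharacter G, c ψ ^ 2 = 1 := by
    have h3 := classInner_eq_sum_coeffs θ θ hθcl hθcl
    rw [h1] at h3
    simp only [hc, map_intCast] at h3
    have h4 : ((∑ ψ : IrrCharacter G, c ψ ^ 2 : ℤ) : ℂ) = ((1 : ℤ) : ℂ) := by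
      push_cast
      rw [h3]
      refine Finset.sum_congr rfl fun ψ _ => ?_
      ring
    exact_mod_cast h4
  have hne : ∃ a, c a ≠ 0 := by
    by_contra hcon
    push Not at hcon
    simp [hcon] at hsum
  obtain ⟨a, ha⟩ := hne
  have hposa : 1 ≤ c a ^ 2 := by
    have := sq_pos_of_ne_zero ha
    omega
  have hsplit := Finset.add_sum_erase Finset.univ (fun ψ : IrrCharacter G => c ψ ^ 2) (Finset.mem_univ a)
  rw [hsum] at hsplit
  have hrestnn : 0 ≤ ∑ ψ ∈ Finset.univ.erase a, c ψ ^ 2 := Finset.sum_nonneg fun ψ _ => sq_nonneg _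
  have hrest : ∑ ψ ∈ Finset.univ.erase a, c ψ ^ 2 = 0 := by omega
  have hothers : ∀ ψ ∈ Finset.univ.erase a, c ψ = 0 := by
    have := (Finset.sum_eq_zero_iff_of_nonneg (fun ψ _ => sq_nonneg (c ψ))).mp hrest
    intro ψ hψ
    exact pow_eq_zero_iff (two_ne_zero) |>.mp (this ψ hψ)
  have hca : c a ^ 2 = 1 := by omega
  have hca' : c a = 1 ∨ c a = -1 := by
    have h1 : (c a - 1) * (c a + 1) = 0 := by nlinarith
    rcases mul_eq_zero.mp h1 with h | h
    · left; omega
    · right; omega
  have hexp : θ = (c a : ℂ) • (a : G → ℂ) := by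
    rw [hs, ← Finset.add_sum_erase Finset.univ _ (Finset.mem_univ a), Finset.sum_eq_zero, add_zero]
    intro ψ hψ
    rw [hothers ψ hψ]
    simp
  rcases hca' with h | h
  · left
    rw [hexp, h]
    simpa using a.2
  · right
    rw [hexp, h]
    simpa using a.2

/-- A virtual character of norm two is the sum of two orthonormal irreducible characters up to sign. -/
theorem exists_pm_of_norm_two {θ : G → ℂ} (hθ : IsGeneralizedCharacter G θ) (h2 : classInner θ θ = 2) :
    ∃ α β : G → ℂ, IsPMIrr G α ∧ IsPMIrr G β ∧ classInner α β = 0 ∧ α ≠ β ∧ θ = α + β := by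
  classical
  obtain ⟨c, hc, hs⟩ := IsGeneralizedCharacter.exists_int_coeffs hθ
  have hθcl := IsGeneralizedCharacter.isClassFunction hθ
  have hsum : ∑ ψ : IrrCharacter G, c ψ ^ 2 = 2 := by
    have h3 := classInner_eq_sum_coeffs θ θ hθcl hθcl
    rw [h2] at h3
    simp only [hc, map_intCast] at h3
    have h4 : ((∑ ψ : IrrCharacter G, c ψ ^ 2 : ℤ) : ℂ) = ((2 : ℤ) : ℂ) := by
      push_cast
      rw [h3]
      refine Finset.sum_congr rfl fun ψ _ => ?_
      ring
    exact_mod_cast h4
  have hne : ∃ a, c a ≠ 0 := by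
    by_contra hcon
    push Not at hcon
    simp [hcon] at hsum
  obtain ⟨a, ha⟩ := hne
  have hposa : 1 ≤ c a ^ 2 := by
    have := sq_pos_of_ne_zero ha
    omega
  have hsplit := Finset.add_sum_erase Finset.univ (fun ψ : IrrCharacter G => c ψ ^ 2) (Finset.mem_univ a)
  rw [hsum] at hsplit
  have hrestnn : 0 ≤ ∑ ψ ∈ Finset.univ.erase a, c ψ ^ 2 := Finset.sum_nonneg fun ψ _ => sq_nonneg _
  have hne2 : ∃ b, b ≠ a ∧ c b ≠ 0 := by
    by_contra hcon
    push Not at hcon
    have h0 : ∑ ψ ∈ Finset.univ.erase a, c ψ ^ 2 = 0 :=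
      Finset.sum_eq_zero fun ψ hψ => by rw [hcon ψ (Finset.ne_of_mem_erase hψ)]; simp
    rw [h0, add_zero] at hsplit
    have h5 : c a ^ 2 = 2 := hsplit
    have h6 : |c a| < 2 := by
      apply abs_lt_of_sq_lt_sq <;> omega
    have h7 : c a = 1 ∨ c a = -1 ∨ c a = 0 := by
      have := abs_lt.mp h6
      omega
    rcases h7 with h | h | h <;> rw [h] at h5 <;> norm_num at h5
  obtain ⟨b, hba, hb⟩ := hne2
  have hposb : 1 ≤ c b ^ 2 := by
    have := sq_pos_of_ne_zero hb
    omega
  have hsplit2 := Finset.add_sum_erase (Finset.univ.erase a) (fun ψ : IrrCharacter G => c ψ ^ 2)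
    (Finset.mem_erase.mpr ⟨hba, Finset.mem_univ b⟩)
  have hrest2nn : 0 ≤ ∑ ψ ∈ (Finset.univ.erase a).erase b, c ψ ^ 2 :=
    Finset.sum_nonneg fun ψ _ => sq_nonneg _
  have hrest2 : ∑ ψ ∈ (Finset.univ.erase a).erase b, c ψ ^ 2 = 0 := by omega
  have hothers : ∀ ψ ∈ (Finset.univ.erase a).erase b, c ψ = 0 := by
    have := (Finset.sum_eq_zero_iff_of_nonneg (fun ψ _ => sq_nonneg (c ψ))).mp hrest2
    intro ψ hψ
    exact pow_eq_zero_iff (two_ne_zero) |>.mp (this ψ hψ)
  have hca : c a ^ 2 = 1 := by omega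
  have hcb : c b ^ 2 = 1 := by omega
  have hsq1 : ∀ x : ℤ, x ^ 2 = 1 → x = 1 ∨ x = -1 := by
    intro x hx
    have h1 : (x - 1) * (x + 1) = 0 := by nlinarith
    rcases mul_eq_zero.mp h1 with h | h
    · left; omega
    · right; omega
  have hexp : θ = (c a : ℂ) • (a : G → ℂ) + (c b : ℂ) • (b : G → ℂ) := by
    rw [hs, ← Finset.add_sum_erase Finset.univ _ (Finset.mem_univ a),
      ← Finset.add_sum_erase (Finset.univ.erase a) _ (Finset.mem_erase.mpr ⟨hba, Finset.mem_univ b⟩),
      Finset.sum_eq_zero (s := (Finset.univ.erase a).erase b), add_zero]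
    intro ψ hψ
    rw [hothers ψ hψ]
    simp
  have hab : (a : G → ℂ) ≠ b := fun h => hba (Subtype.ext h.symm)
  have hpma : IsPMIrr G ((c a : ℂ) • (a : G → ℂ)) := by
    rcases hsq1 _ hca with h | h
    · left
      rw [h]
      simpa using a.2
    · right
      rw [h]
      simpa using a.2
  have hpmb : IsPMIrr G ((c b : ℂ) • (b : G → ℂ)) := by
    rcases hsq1 _ hcb with h | h
    · left
      rw [h]
      simpa using b.2
    · right
      rw [h]
      simpa using b.2
  have horth : classInner ((c a : ℂ) • (a : G → ℂ)) ((c b : ℂ) • (b : G → ℂ)) = 0 := by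
    rw [classInner_smul_left, classInner_smul_right, classInner_irr_of_ne a.2 b.2 hab]
    simp
  refine ⟨_, _, hpma, hpmb, horth, ?_, hexp⟩
  intro heq
  rw [heq, IsPMIrr.classInner_self hpmb] at horth
  exact one_ne_zero horth

end Cfsg.Agent.Lib.OddChar
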