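import Cfsg.Agent.S1514
import Cfsg.Agent.Lib.OddChar.Above
import Cfsg.Agent.Lib.Char.TI
import Cfsg.Agent.Lib.Char.FrobChar
import Cfsg.Agent.Lib.Char.FrobKer
import Cfsg.Agent.Lib.Char.IndNormal

/-! # Frobenius kernels that are trivial-intersection subgroups: the coherence system of induction. -/

set_option autoImplicit false

namespace Cfsg.Agent.Lib.OddChar

open Cfsg Cfsg.Agent.Lib.Char
open scoped ComplexConjugate

section Free

variable {G : Type*} [Group G] [Finite G]

/-- Sums of functions invariant under a free conjugation action. -/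
theorem free_sum {M : Type*} [AddCommMonoid M] [DecidableEq G]
    (A : Subgroup G) (F : G → M) (X : Finset G) (hinv : ∀ u ∈ A, ∀ g ∈ X, u * g * u⁻¹ ∈ X)
    (hfree : ∀ u ∈ A, ∀ g ∈ X, u * g * u⁻¹ = g → u = 1)
    (hF : ∀ u ∈ A, ∀ g ∈ X, F (u * g * u⁻¹) = F g) :
    ∃ Y ⊆ X, ∑ g ∈ X, F g = Nat.card A • ∑ g ∈ Y, F g := by
  classical
  haveI : Fintype A := Fintype.ofFinite _
  induction' hn : X.card using Nat.strong_induction_on with n ih generalizing X
  rcases X.eq_empty_or_nonempty with rfl | ⟨g, hg⟩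
  · exact ⟨∅, subset_rfl, by simp⟩
  let O : Finset G := Finset.univ.image (fun u : A => (u : G) * g * (u : G)⁻¹)
  have hOX : O ⊆ X := by
    intro y hy
    obtain ⟨u, -, rfl⟩ := Finset.mem_image.mp hy
    exact hinv u u.2 g hg
  have hgO : g ∈ O := Finset.mem_image.mpr ⟨1, Finset.mem_univ _, by simp⟩
  have hlt : (X \ O).card < n := by
    rw [← hn]
    exact Finset.card_lt_card (Finset.sdiff_ssubset hOX ⟨g, hgO⟩)
  obtain ⟨Y, hY, hcs⟩ := ih _ hlt (X \ O) (by
      intro u hu y hy
      obtain ⟨hyX, hyO⟩ := Finset.mem_sdiff.mp hy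
      refine Finset.mem_sdiff.mpr ⟨hinv u hu y hyX, fun h => hyO ?_⟩
      obtain ⟨v, -, hv⟩ := Finset.mem_image.mp h
      refine Finset.mem_image.mpr ⟨⟨u, hu⟩⁻¹ * v, Finset.mem_univ _, ?_⟩
      have : (v : G) * g * (v : G)⁻¹ = u * y * u⁻¹ := hv
      simp only [Subgroup.coe_mul, Subgroup.coe_inv, mul_inv_rev, inv_inv]
      calc (u : G)⁻¹ * (v : G) * g * ((v : G)⁻¹ * u) = u⁻¹ * ((v : G) * g * (v : G)⁻¹) * u := by group
        _ = y := by rw [this]; group)
    (fun u hu y hy h => hfree u hu y (Finset.mem_sdiff.mp hy).1 h)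
    (fun u hu y hy => hF u hu y (Finset.mem_sdiff.mp hy).1) rfl
  have hgY : g ∉ Y := fun h => (Finset.mem_sdiff.mp (hY h)).2 hgO
  refine ⟨insert g Y, Finset.insert_subset hg (hY.trans Finset.sdiff_subset), ?_⟩
  rw [← Finset.sum_sdiff hOX, hcs, Finset.sum_insert hgY, smul_add, add_comm]
  congr 1
  rw [Finset.sum_image]
  · have h0 : ∑ u : A, F ((u : G) * g * (u : G)⁻¹) = ∑ _u : A, F g :=
      Finset.sum_congr rfl fun u _ => hF u u.2 g hg
    rw [h0]
    simp [Finset.sum_const, Finset.card_univ, Nat.card_eq_fintype_card]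
  · intro u _ v _ huv
    have huv' : (u : G) * g * (u : G)⁻¹ = v * g * (v : G)⁻¹ := huv
    have : ((v : G)⁻¹ * u) = 1 := by
      apply hfree _ (A.mul_mem (A.inv_mem v.2) u.2) g hg
      calc (v : G)⁻¹ * u * g * ((v : G)⁻¹ * u)⁻¹ = (v : G)⁻¹ * ((u : G) * g * (u : G)⁻¹) * v := by group
        _ = g := by rw [huv']; group
    apply Subtype.ext
    rw [inv_mul_eq_one] at this
    exact this.symm

theorem card_dvd_of_free [DecidableEq G] (A : Subgroup G) (X : Finset G)
    (hinv : ∀ u ∈ A, ∀ g ∈ X, u * g * u⁻¹ ∈ X)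
    (hfree : ∀ u ∈ A, ∀ g ∈ X, u * g * u⁻¹ = g → u = 1) :
    Nat.card A ∣ X.card := by
  obtain ⟨Y, -, h⟩ := free_sum A (fun _ => (1 : ℕ)) X hinv hfree (fun _ _ _ _ => rfl)
  simp only [Finset.sum_const, smul_eq_mul, mul_one] at h
  exact ⟨Y.card, h⟩

end Free

section Kernel

variable {L : Type*} [Group L] [Finite L] (K : Subgroup L) [hK : K.Normal]

/-- If all stabilizers lie in `K`, the index of `K` divides the size of the set. -/
theorem index_dvd_card_of_stabilizer_le {X : Type*} [MulAction L X] [Finite X]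
    (h : ∀ x : X, MulAction.stabilizer L x ≤ K) : K.index ∣ Nat.card X := by
  classical
  haveI : Fintype (MulAction.orbitRel.Quotient L X) := Fintype.ofFinite _
  rw [Nat.card_congr (MulAction.selfEquivSigmaOrbitsQuotientStabilizer L X), Nat.card_sigma]
  refine Finset.dvd_sum fun ω _ => ?_
  exact Subgroup.index_dvd_of_le (h _)

variable {K}

/-- The index of a Frobenius kernel divides its order minus one. -/
theorem index_dvd_card_sub_one_of_fpf
    (hfpf : ∀ x : L, x ∉ K → ∀ k ∈ K, x * k = k * x → k = 1) : K.index ∣ Nat.card K - 1 := by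
  classical
  let X := {k : L // k ∈ K ∧ k ≠ 1}
  letI : MulAction L X :=
    { smul := fun g x => ⟨g * x.1 * g⁻¹, hK.conj_mem _ x.2.1 g, fun h => x.2.2 (by
        have : g⁻¹ * (g * x.1 * g⁻¹) * g = x.1 := by group
        rw [← this, h]; group)⟩
      one_smul := fun x => Subtype.ext (by show 1 * x.1 * 1⁻¹ = x.1; group)
      mul_smul := fun a b x => Subtype.ext (by
        show (a * b) * x.1 * (a * b)⁻¹ = a * (b * x.1 * b⁻¹) * a⁻¹
        group) }
  have h1 : K.index ∣ Nat.card X := by
    apply index_dvd_card_of_stabilizer_le K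
    intro x g hg
    have hg' : g • x = x := hg
    have hg'' : g * x.1 * g⁻¹ = x.1 := congrArg Subtype.val hg'
    by_contra hgK
    apply x.2.2
    apply hfpf g hgK x.1 x.2.1
    calc g * x.1 = (g * x.1 * g⁻¹) * g := by group
      _ = x.1 * g := by rw [hg'']
  have h2 : Nat.card X = Nat.card K - 1 := by
    haveI : Fintype L := Fintype.ofFinite _
    haveI : Fintype K := Fintype.ofFinite _
    have e1 : Nat.card K = (Finset.univ.filter (· ∈ K) : Finset L).card := by
      rw [Nat.card_eq_fintype_card, Fintype.card_subtype]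
    have e2 : Nat.card X = ((Finset.univ.filter (· ∈ K) : Finset L).erase 1).card := by
      rw [Nat.card_eq_fintype_card, Fintype.card_subtype]
      congr 1
      ext x
      simp only [Finset.mem_filter, Finset.mem_univ, true_and, Finset.mem_erase]
      tauto
    rw [e1, e2, Finset.card_erase_of_mem (by simp [K.one_mem])]
  rwa [h2] at h1

theorem coprime_index_of_fpf (hfpf : ∀ x : L, x ∉ K → ∀ k ∈ K, x * k = k * x → k = 1) :
    Nat.Coprime (Nat.card K) K.index := by
  have h := index_dvd_card_sub_one_of_fpf hfpf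
  have hpos : 0 < Nat.card K := Nat.card_pos
  apply Nat.Coprime.coprime_dvd_right h
  have : Nat.card K = (Nat.card K - 1) + 1 := by omega
  rw [Nat.coprime_comm]
  nth_rewrite 2 [this]
  simp

/-- Powers of an element outside a Frobenius kernel lie outside the kernel or are trivial. -/
theorem pow_notMem_of_fpf (hfpf : ∀ x : L, x ∉ K → ∀ k ∈ K, x * k = k * x → k = 1) {x : L}
    (hx : x ∉ K) {y : L} (hy : y ∈ K) (hxy : x * y = y * x) : y = 1 := hfpf x hx y hy hxy

/-- The order of an element outside a Frobenius kernel divides the index of the kernel. -/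
theorem orderOf_dvd_index_of_fpf (hfpf : ∀ x : L, x ∉ K → ∀ k ∈ K, x * k = k * x → k = 1) {x : L}
    (hx : x ∉ K) : orderOf x ∣ K.index := by
  apply orderOf_dvd_of_pow_eq_one
  have h1 : x ^ K.index ∈ K := Subgroup.pow_index_mem K x
  exact hfpf x hx _ h1 (by
    rw [← pow_succ', ← pow_succ])

/-- A Frobenius group stays Frobenius over every normal subgroup of the kernel. -/
theorem frob_quotient (hfpf : ∀ x : L, x ∉ K → ∀ k ∈ K, x * k = k * x → k = 1)
    (K' : Subgroup L) [hK' : K'.Normal] (hK'K : K' ≤ K) :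
    ∀ k ∈ K, k ∉ K' → ∀ x : L, x * k * x⁻¹ * k⁻¹ ∈ K' → x ∈ K := by
  classical
  intro k hk hk' x hxk
  by_contra hx
  haveI : Fintype L := Fintype.ofFinite _
  -- the coset
  let X : Finset L := Finset.univ.filter (fun y => y * k⁻¹ ∈ K')
  have hXcard : X.card = Nat.card K' := by
    have e1 : Nat.card K' = (Finset.univ.filter (· ∈ K') : Finset L).card := by
      haveI : Fintype K' := Fintype.ofFinite _
      rw [Nat.card_eq_fintype_card, Fintype.card_subtype]
    rw [e1]
    refine Finset.card_bij (fun y _ => y * k⁻¹) ?_ ?_ ?_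
    · intro y hy
      simpa [X] using hy
    · intro y _ z _ h
      exact mul_right_cancel h
    · intro y hy
      refine ⟨y * k, ?_, by group⟩
      simpa [X] using hy
  have hXK : ∀ y ∈ X, y ∈ K := by
    intro y hy
    have h1 : y * k⁻¹ ∈ K := hK'K (Finset.mem_filter.mp hy).2
    have := K.mul_mem h1 hk
    simpa using this
  have hXne : ∀ y ∈ X, y ≠ 1 := by
    rintro y hy rfl
    have h1 : 1 * k⁻¹ ∈ K' := (Finset.mem_filter.mp hy).2
    apply hk'
    have h2 := K'.inv_mem h1
    simpa using h2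
  have hxfree : ∀ u ∈ Subgroup.zpowers x, ∀ y ∈ X, u * y * u⁻¹ = y → u = 1 := by
    intro u hu y hy h
    have hcomm : u * y = y * u := by
      calc u * y = (u * y * u⁻¹) * u := by group
        _ = y * u := by rw [h]
    by_contra hu1
    have huK : u ∈ K := by
      by_contra huK
      exact hXne y hy (hfpf u huK y (hXK y hy) hcomm)
    apply hu1
    apply hfpf x hx u huK
    obtain ⟨m, rfl⟩ := Subgroup.mem_zpowers_iff.mp hu
    rw [← zpow_one_add, ← zpow_add_one]
    rw [add_comm]
  have hxinv : ∀ y ∈ X, x * y * x⁻¹ ∈ X := by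
    intro y hy
    have hy' : y * k⁻¹ ∈ K' := (Finset.mem_filter.mp hy).2
    refine Finset.mem_filter.mpr ⟨Finset.mem_univ _, ?_⟩
    have h1 : x * (y * k⁻¹) * x⁻¹ ∈ K' := hK'.conj_mem _ hy' x
    have h2 : x * y * x⁻¹ * k⁻¹ = (x * (y * k⁻¹) * x⁻¹) * (x * k * x⁻¹ * k⁻¹) := by group
    rw [h2]
    exact K'.mul_mem h1 hxk
  have hzinv : ∀ u ∈ Subgroup.zpowers x, ∀ y ∈ X, u * y * u⁻¹ ∈ X := by
    -- a permutation of a finite set
    intro u hu y hy
    obtain ⟨m, rfl⟩ := Subgroup.mem_zpowers_iff.mp hu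
    clear hu
    have hperm : Set.MapsTo (fun y => x * y * x⁻¹) (X : Set L) (X : Set L) := fun y hy => hxinv y hy
    have hinj : Function.Injective (fun y => x * y * x⁻¹) := by
      intro a b h
      simpa using h
    have hsurj : ∀ y ∈ X, x⁻¹ * y * x ∈ X := by
      have h1 : Set.SurjOn (fun y => x * y * x⁻¹) (X : Set L) (X : Set L) :=
        Finset.surjOn_of_injOn_of_card_le (fun y => x * y * x⁻¹) hperm hinj.injOn le_rfl
      intro y hy
      obtain ⟨z, hz, hzy⟩ := h1 hy
      have : x⁻¹ * y * x = z := by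
        rw [← hzy]
        group
      rw [this]
      exact hz
    induction m using Int.induction_on generalizing y with
    | zero => simpa using hy
    | succ i ih =>
      have h1 := hxinv _ (ih y hy)
      have e : x ^ ((i : ℤ) + 1) * y * (x ^ ((i : ℤ) + 1))⁻¹ = x * (x ^ (i : ℤ) * y * (x ^ (i : ℤ))⁻¹) * x⁻¹ := by
        rw [add_comm, zpow_add, zpow_one]
        group
      rw [e]
      exact h1
    | pred i ih =>
      have h1 := hsurj _ (ih y hy)
      have e : x ^ (-(i : ℤ) - 1) * y * (x ^ (-(i : ℤ) - 1))⁻¹ = x⁻¹ * (x ^ (-(i : ℤ)) * y * (x ^ (-(i : ℤ)))⁻¹) * x := by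
        have e' : -(i : ℤ) - 1 = -1 + -(i : ℤ) := by ring
        rw [e', zpow_add, zpow_neg_one]
        group
      rw [e]
      exact h1
  have h1 := card_dvd_of_free (Subgroup.zpowers x) X hzinv hxfree
  rw [Nat.card_zpowers, hXcard] at h1
  have h2 : orderOf x ∣ Nat.card K := h1.trans (Subgroup.card_dvd_of_le hK'K)
  have h3 := orderOf_dvd_index_of_fpf hfpf hx
  have h4 := Nat.dvd_gcd h2 h3
  rw [coprime_index_of_fpf hfpf] at h4
  have h5 : x = 1 := orderOf_eq_one_iff.mp (Nat.dvd_one.mp h4)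
  exact hx (h5 ▸ K.one_mem)

end Kernel

section FrobS

variable {L : Type*} [Group L] [Fintype L] (K : Subgroup L) [hK : K.Normal]

theorem frob_irr (hfpf : ∀ x : L, x ∉ K → ∀ k ∈ K, x * k = k * x → k = 1) {φ : L → ℂ}
    (hφ : φ ∈ Cfsg.inducedIrrAbove K ⊥) : IsIrrCharacter L φ := by
  obtain ⟨θ, hθ, hθ1, -, rfl⟩ := hφ
  haveI : Fintype K := Fintype.ofFinite _
  have hT : inertia K θ ≤ K := by
    intro g hg
    by_contra hgK
    exact hθ1 (eq_one_of_conjFun_eq_of_fpf K (hfpf g hgK) hθ ((mem_inertia K).mp hg))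
  exact isIrrCharacter_indFun_of_inertia K hθ hT

theorem frob_vanish {φ : L → ℂ} (hφ : φ ∈ Cfsg.zspan (Cfsg.inducedIrrAbove K ⊥)) {x : L} (hx : x ∉ K) :
    φ x = 0 := by
  have hφ' : φ ∈ (Submodule.span ℤ (Cfsg.inducedIrrAbove K ⊥) : Submodule ℤ (L → ℂ)) := hφ
  induction hφ' using Submodule.span_induction with
  | mem y hy =>
    obtain ⟨θ, -, -, -, rfl⟩ := hy
    exact indFun_eq_zero_of_notMem K θ hx
  | zero => rfl
  | add a b _ _ ha hb =>
    simp [ha (by assumption), hb (by assumption)]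
  | smul n a _ ha =>
    simp [ha (by assumption)]

theorem zspan_isClassFunction {S : Set (L → ℂ)} (hS : ∀ φ ∈ S, IsClassFunction L φ) {φ : L → ℂ}
    (hφ : φ ∈ Cfsg.zspan S) : IsClassFunction L φ := by
  have hφ' : φ ∈ (Submodule.span ℤ S : Submodule ℤ (L → ℂ)) := hφ
  induction hφ' using Submodule.span_induction with
  | mem y hy => exact hS y hy
  | zero => intro g h; rfl
  | add a b _ _ ha hb =>
    intro g h
    have h1 := ha (by assumption) g h
    have h2 := hb (by assumption) g h
    simp only [Pi.add_apply, h1, h2]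
  | smul n a _ ha =>
    intro g h
    have h1 := ha (by assumption) g h
    simp only [Pi.smul_apply, h1]

theorem isGeneralizedCharacter_of_isCharacter {X : Type*} [Group X] {χ : X → ℂ}
    (hχ : IsCharacter X χ) : IsGeneralizedCharacter X χ := by
  exact ⟨χ, 0, hχ, isCharacter_zero, by simp⟩

theorem IsGeneralizedCharacter.zsmul' {X : Type*} [Group X] [Fintype X] {χ : X → ℂ}
    (hχ : IsGeneralizedCharacter X χ) (n : ℤ) : IsGeneralizedCharacter X (n • χ) := by
  induction n using Int.induction_on with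
  | zero =>
    rw [zero_smul]
    exact isGeneralizedCharacter_of_isCharacter isCharacter_zero
  | succ i ih =>
    rw [add_smul, one_smul]
    exact IsGeneralizedCharacter.add ih hχ
  | pred i ih =>
    rw [sub_smul, one_smul]
    exact IsGeneralizedCharacter.sub ih hχ

theorem IsGeneralizedCharacter.sum'' {X : Type*} [Group X] [Fintype X] {ι : Type*} (s : Finset ι) {f : ι → X → ℂ}
    (hf : ∀ i ∈ s, IsGeneralizedCharacter X (f i)) : IsGeneralizedCharacter X (∑ i ∈ s, f i) := by
  classical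
  induction s using Finset.induction_on with
  | empty =>
    rw [Finset.sum_empty]
    exact isGeneralizedCharacter_of_isCharacter isCharacter_zero
  | insert a s ha ih =>
    rw [Finset.sum_insert ha]
    exact IsGeneralizedCharacter.add (hf a (Finset.mem_insert_self _ _))
      (ih fun i hi => hf i (Finset.mem_insert_of_mem hi))

end FrobS

section TI

variable {G : Type*} [Group G] [Fintype G] {N : Subgroup G} [Fintype N] {K : Subgroup N} [hK : K.Normal]

theorem indFun_virtual_of_zspan {S : Set (N → ℂ)} (hS : ∀ φ ∈ S, IsCharacter N φ) {φ : N → ℂ}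
    (hφ : φ ∈ Cfsg.zspan S) : IsGeneralizedCharacter G (indFun N φ) := by
  have hφ' : φ ∈ (Submodule.span ℤ S : Submodule ℤ (N → ℂ)) := hφ
  induction hφ' using Submodule.span_induction with
  | mem y hy => exact isGeneralizedCharacter_of_isCharacter (isCharacter_indFun N (hS y hy))
  | zero =>
    rw [indFun_zero]
    exact isGeneralizedCharacter_of_isCharacter isCharacter_zero
  | add a b _ _ ha hb =>
    rw [indFun_add]
    exact IsGeneralizedCharacter.add (ha (by assumption)) (hb (by assumption))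
  | smul n a _ ha =>
    have h1 : n • a = (n : ℂ) • a := by
      funext x
      simp
    have hgen := ha (by assumption)
    have h2 : indFun N (n • a) = n • indFun N a := by
      rw [h1, indFun_smul]
      funext x
      simp
    rw [h2]
    exact IsGeneralizedCharacter.zsmul' hgen n

/-- Induction is an isometry on the combinations of `S(⊥)` vanishing at `1`. -/
theorem frob_isometry (T : Set G) (hT : ∀ x : N, (x : G) ∈ T ↔ x ∈ K)
    (hTI : ∀ g : G, g ∉ N → ∀ t ∈ T, g * t * g⁻¹ ∈ T → t = 1) :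
    IsLinearIsometryOn (Cfsg.zspanOn (Cfsg.inducedIrrAbove K ⊥) {1}ᶜ) (fun α => indFun N α) := by
  have hcl : ∀ φ ∈ Cfsg.inducedIrrAbove K ⊥, IsClassFunction N φ := fun φ hφ =>
    IsCharacter.isClassFunction (inducedIrrAbove_isCharacter K hφ)
  refine ⟨fun α _ β _ => indFun_add N α β, ?_, ?_, ?_⟩
  · intro α _ n
    have h1 : n • α = (n : ℂ) • α := by
      funext x
      simp
    show indFun N (n • α) = n • indFun N α
    rw [h1, indFun_smul]
    funext x
    simp
  · intro α hα β hβ
    haveI : Fintype K := Fintype.ofFinite _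
    refine classInner_indFun_of_TI N T hTI α β (zspan_isClassFunction hcl hβ.1) ?_ ?_ (hα.2 1 (by simp))
    · intro x hx
      exact frob_vanish K hα.1 (fun h => hx ((hT x).mpr h))
    · intro x hx
      exact frob_vanish K hβ.1 (fun h => hx ((hT x).mpr h))
  · intro α hα
    exact indFun_virtual_of_zspan (fun φ hφ => inducedIrrAbove_isCharacter K hφ) hα.1

theorem frob_map_one {α : N → ℂ} (hα : α ∈ Cfsg.zspanOn (Cfsg.inducedIrrAbove K ⊥) {1}ᶜ) :
    indFun N α 1 = 0 := by
  rw [indFun_one, hα.2 1 (by simp), mul_zero]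

theorem frob_nonempty (hK1 : K ≠ ⊥) : (Cfsg.inducedIrrAbove K ⊥).Nonempty := by
  classical
  haveI : Fintype K := Fintype.ofFinite _
  have h1 := sum_above_degree_sq K (⊥ : Subgroup N)
  rw [Subgroup.relIndex_bot_left] at h1
  have h2 : 1 < Nat.card K := by
    obtain ⟨k, hk, hk1⟩ := (Subgroup.bot_or_exists_ne_one K).resolve_left hK1
    haveI : Nontrivial K := ⟨⟨⟨k, hk⟩, 1, fun h => hk1 (congrArg Subtype.val h)⟩⟩
    exact Finite.one_lt_card
  have h3 : (aboveFin K (⊥ : Subgroup N)).Nonempty := by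
    rw [Finset.nonempty_iff_ne_empty]
    intro h
    rw [h, Finset.sum_empty] at h1
    have h4 : ((Nat.card K : ℤ) - 1 : ℤ) = 0 := by
      have : (((Nat.card K : ℤ) - 1 : ℤ) : ℂ) = 0 := by
        push_cast
        exact h1.symm
      exact_mod_cast this
    omega
  obtain ⟨θ, hθ⟩ := h3
  exact ⟨_, indFun_mem_above K hθ⟩

/-- The coherence system of a Frobenius kernel of odd order which is a T.I. set. -/
theorem exists_frob_system (hK1 : K ≠ ⊥) (hodd : Odd (Nat.card N))
    (hfpf : ∀ x : N, x ∉ K → ∀ k ∈ K, x * k = k * x → k = 1)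
    (T : Set G) (hT : ∀ x : N, (x : G) ∈ T ↔ x ∈ K)
    (hTI : ∀ g : G, g ∉ N → ∀ t ∈ T, g * t * g⁻¹ ∈ T → t = 1) :
    ∃ R : (N → ℂ) → Finset (G → ℂ),
      IsCoherenceSystem (Cfsg.inducedIrrAbove K ⊥) (fun α => indFun N α) R := by
  haveI : Fintype K := Fintype.ofFinite _
  refine Cfsg.Agent.S1514.result _ (frob_nonempty hK1) (fun χ hχ => frob_irr K hfpf hχ) ?_ _
    (frob_isometry T hT hTI) (fun α hα => frob_map_one hα)
  intro χ hχ
  refine ⟨inducedIrrAbove_conj K hχ, ?_⟩
  obtain ⟨θ, hθ, hθ1, -, rfl⟩ := hχ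
  intro h
  have h1 := classInner_conj_indFun_of_odd K hodd hθ hθ1
  have h2 : (fun g => conj (indFun K θ g)) = indFun K θ := h
  rw [h2] at h1
  have hirr := frob_irr K hfpf (⟨θ, hθ, hθ1, by
    intro a ha
    have : a = 1 := Subtype.ext (by simpa using ha)
    rw [this], rfl⟩ : indFun K θ ∈ Cfsg.inducedIrrAbove K ⊥)
  rw [classInner_irr_self hirr] at h1
  exact one_ne_zero h1

end TI

end Cfsg.Agent.Lib.OddChar
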