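import Cfsg.Agent.Lib.OddChar.ZMass
import Cfsg.Agent.Lib.OddChar.FrobSys

/-! # The extension step of Sibley's coherence theorem. -/

set_option autoImplicit false

namespace Cfsg.Agent.Lib.OddChar

open Cfsg Cfsg.Agent.Lib.Char
open scoped ComplexConjugate

private theorem zapply {X : Type*} (n : ℤ) (f : X → ℂ) (x : X) : (n • f) x = (n : ℂ) * f x := by
  simp

section Virtual

variable {G : Type*} [Group G] [Fintype G]

/-- A class function all of whose coefficients are divisible by `M` is `M` times a virtual character. -/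
theorem exists_virtual_of_dvd {R : G → ℂ} (hR : IsClassFunction G R) {M : ℤ}
    (h : ∀ ψ : G → ℂ, IsIrrCharacter G ψ → ∃ k : ℤ, classInner R ψ = (M : ℂ) * k) :
    ∃ Y : G → ℂ, IsGeneralizedCharacter G Y ∧ R = M • Y := by
  classical
  have h' : ∀ ψ : IrrCharacter G, ∃ k : ℤ, classInner R (ψ : G → ℂ) = (M : ℂ) * k := fun ψ => h ψ ψ.2
  choose k hk using h'
  refine ⟨∑ ψ : IrrCharacter G, k ψ • (ψ : G → ℂ), IsGeneralizedCharacter.sum'' _ fun ψ _ =>
    IsGeneralizedCharacter.zsmul' (IsIrrCharacter.isGeneralizedCharacter ψ.2) _, ?_⟩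
  conv_lhs => rw [classFunction_eq_sum R hR]
  rw [Finset.smul_sum]
  refine Finset.sum_congr rfl fun ψ _ => ?_
  rw [hk ψ]
  funext x
  rw [zapply, zapply]
  simp only [Pi.smul_apply, smul_eq_mul]
  ring

end Virtual

section Assemble

variable {L G : Type*} [Group L] [Fintype L] [Group G] [Fintype G]

theorem zspan_expansion [DecidableEq (L → ℂ)] {F : Finset (L → ℂ)}
    (horth : ∀ x ∈ F, ∀ y ∈ F, classInner x y = if x = y then 1 else 0) {α : L → ℂ}
    (hα : α ∈ zspan (↑F : Set (L → ℂ))) : α = ∑ x ∈ F, classInner α x • x := by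
  have hα' : α ∈ (Submodule.span ℤ (↑F : Set (L → ℂ)) : Submodule ℤ (L → ℂ)) := hα
  induction hα' using Submodule.span_induction with
  | mem y hy =>
    rw [Finset.sum_eq_single y]
    · rw [horth y hy y hy, if_pos rfl, one_smul]
    · intro z hz hne
      rw [horth y hy z hz, if_neg hne.symm, zero_smul]
    · intro h
      exact absurd hy h
  | zero => simp [classInner_zero_left]
  | add a b ha hb iha ihb =>
    have h1 := iha ha
    have h2 := ihb hb
    simp only [classInner_add_left, add_smul, Finset.sum_add_distrib]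
    rw [← h1, ← h2]
  | smul n a ha iha =>
    have h1 := iha ha
    simp only [classInner_zsmul_left]
    nth_rewrite 1 [h1]
    rw [Finset.smul_sum]
    refine Finset.sum_congr rfl fun x _ => ?_
    funext g
    rw [zapply]
    simp only [Pi.smul_apply, smul_eq_mul]
    ring

theorem zspan_coeff_int [DecidableEq (L → ℂ)] {F : Finset (L → ℂ)}
    (horth : ∀ x ∈ F, ∀ y ∈ F, classInner x y = if x = y then 1 else 0) {α : L → ℂ}
    (hα : α ∈ zspan (↑F : Set (L → ℂ))) {x : L → ℂ} (hx : x ∈ F) :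
    ∃ n : ℤ, classInner α x = n := by
  have hα' : α ∈ (Submodule.span ℤ (↑F : Set (L → ℂ)) : Submodule ℤ (L → ℂ)) := hα
  induction hα' using Submodule.span_induction with
  | mem y hy =>
    rw [horth y hy x hx]
    split_ifs
    · exact ⟨1, by simp⟩
    · exact ⟨0, by simp⟩
  | zero => exact ⟨0, by simp [classInner_zero_left]⟩
  | add a b ha hb iha ihb =>
    obtain ⟨p, hp⟩ := iha ha
    obtain ⟨q, hq⟩ := ihb hb
    exact ⟨p + q, by rw [classInner_add_left, hp, hq]; push_cast; rfl⟩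
  | smul n a ha iha =>
    obtain ⟨p, hp⟩ := iha ha
    exact ⟨n * p, by rw [classInner_zsmul_left, hp]; push_cast; rfl⟩

/-- An orthonormal set of virtual characters gives an isometry. -/
theorem exists_isometry_of_orthonormal [DecidableEq (L → ℂ)] {F : Finset (L → ℂ)}
    (horth : ∀ x ∈ F, ∀ y ∈ F, classInner x y = if x = y then 1 else 0)
    (η : (L → ℂ) → (G → ℂ)) (hv : ∀ x ∈ F, IsGeneralizedCharacter G (η x))
    (hη : ∀ x ∈ F, ∀ y ∈ F, classInner (η x) (η y) = if x = y then 1 else 0) :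
    IsLinearIsometryOn (zspan (↑F : Set (L → ℂ))) (fun α => ∑ x ∈ F, classInner α x • η x) := by
  refine ⟨?_, ?_, ?_, ?_⟩
  · intro α _ β _
    simp only [classInner_add_left, add_smul, Finset.sum_add_distrib]
  · intro α _ n
    simp only [classInner_zsmul_left]
    rw [Finset.smul_sum]
    refine Finset.sum_congr rfl fun x _ => ?_
    funext g
    rw [zapply]
    simp only [Pi.smul_apply, smul_eq_mul]
    ring
  · intro α _ β hβ
    simp only
    rw [classInner_sum_left]
    simp only [classInner_smul_left, classInner_sum_right, classInner_smul_right]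
    nth_rewrite 2 [zspan_expansion horth hβ]
    rw [classInner_sum_right]
    refine Finset.sum_congr rfl fun x hx => ?_
    rw [classInner_smul_right, Finset.sum_eq_single x]
    · rw [hη x hx x hx, if_pos rfl]
      ring
    · intro y hy hne
      rw [hη x hx y hy, if_neg hne.symm]
      ring
    · intro h
      exact absurd hx h
  · intro α hα
    have h1 : ∀ x ∈ F, ∃ n : ℤ, classInner α x = n := fun x hx => zspan_coeff_int horth hα hx
    choose! n hn using h1
    have h2 : (∑ x ∈ F, classInner α x • η x) = ∑ x ∈ F, n x • η x := by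
      refine Finset.sum_congr rfl fun x hx => ?_
      rw [hn x hx]
      funext g
      simp
    simp only
    rw [h2]
    exact IsGeneralizedCharacter.sum'' _ fun x hx => IsGeneralizedCharacter.zsmul' (hv x hx) _

end Assemble

section Numeric

/-- The arithmetic of the Sibley step. -/
theorem sibley_numeric {d f u u' n n' g D : ℤ} (hd : 0 < d) (hf : 0 < f) (hD : 2 * d ^ 2 ≤ D)
    (hn : 0 ≤ n) (hn' : 0 ≤ n')
    (h1 : d ^ 2 * f ^ 2 = 2 * d ^ 2 * u + u ^ 2 * D + d ^ 2 * f ^ 2 * n)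
    (h2 : d ^ 2 * f ^ 2 = 2 * d ^ 2 * u' + u' ^ 2 * D + d ^ 2 * f ^ 2 * n')
    (h3 : d ^ 2 * (u + u') + u * u' * D + d ^ 2 * f ^ 2 * g = 0)
    (h4 : n = 0 → g = 0) (h5 : n' = 0 → g = 0) :
    (u = 0 ∧ n = 1) ∨ (D = 2 * d ^ 2 ∧ u = -1 ∧ n = 1) := by
  have hd2 : 0 < d ^ 2 := by positivity
  have hf2 : 0 < f ^ 2 := by positivity
  have hdf : 0 < d ^ 2 * f ^ 2 := by positivity
  -- nonnegativity
  have hnn : ∀ v : ℤ, 0 ≤ 2 * d ^ 2 * v + v ^ 2 * D := by
    intro v
    have h6 : 0 ≤ v ^ 2 + v := by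
      rcases le_or_gt 0 v with h | h
      · positivity
      · have : v ≤ -1 := by omega
        nlinarith
    have h7 : 2 * d ^ 2 * (v ^ 2 + v) ≤ 2 * d ^ 2 * v + v ^ 2 * D := by
      have : 2 * d ^ 2 * v ^ 2 ≤ D * v ^ 2 := by
        apply mul_le_mul_of_nonneg_right hD (sq_nonneg v)
      nlinarith
    have h8 : 0 ≤ 2 * d ^ 2 * (v ^ 2 + v) := by positivity
    linarith
  -- `n` is nonzero
  have hn0 : n ≠ 0 := by
    intro hn00
    have hg := h4 hn00
    rw [hn00, mul_zero, add_zero] at h1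
    rw [hg, mul_zero, add_zero] at h3
    have hu : u ≠ 0 := by
      rintro rfl
      simp only [mul_zero, ne_eq, OfNat.ofNat_ne_zero, not_false_eq_true, zero_pow, zero_mul, add_zero] at h1
      exact hdf.ne' h1
    have hu' : u' ≠ 0 := by
      rintro rfl
      simp only [add_zero, mul_zero, zero_mul] at h3
      exact hu (by
        rcases mul_eq_zero.mp h3 with h | h
        · exact absurd h hd2.ne'
        · exact h)
    rcases (lt_or_eq_of_le hn') with hn'1 | hn'1
    · -- `n' ≥ 1`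
      have h6 := hnn u'
      have h7 : 2 * d ^ 2 * u' + u' ^ 2 * D = 0 := by
        have : d ^ 2 * f ^ 2 * 1 ≤ d ^ 2 * f ^ 2 * n' := mul_le_mul_of_nonneg_left (by omega) hdf.le
        nlinarith
      have h8 : u' * (2 * d ^ 2 + u' * D) = 0 := by linarith
      have h9 : 2 * d ^ 2 + u' * D = 0 := (mul_eq_zero.mp h8).resolve_left hu'
      have hu'neg : u' < 0 := by
        by_contra hc
        push Not at hc
        have : 0 ≤ u' * D := mul_nonneg hc (by nlinarith)
        nlinarith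
      have hu'1 : u' = -1 := by
        by_contra hc
        have : u' ≤ -2 := by omega
        have hDpos : 0 < D := by nlinarith
        nlinarith
      have hD2 : D = 2 * d ^ 2 := by
        rw [hu'1] at h9
        linarith
      rw [hu'1, hD2] at h3
      have hu1 : u = -1 := by
        have : d ^ 2 * (u + 1) = 0 := by linarith
        have h10 := (mul_eq_zero.mp this).resolve_left hd2.ne'
        omega
      rw [hu1, hD2] at h1
      nlinarith
    · -- `n' = 0`
      have hn'0 : n' = 0 := hn'1.symm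
      rw [hn'0, mul_zero, add_zero] at h2
      have h6 : (u - u') * (2 * d ^ 2 + (u + u') * D) = 0 := by
        have : 2 * d ^ 2 * u + u ^ 2 * D = 2 * d ^ 2 * u' + u' ^ 2 * D := by rw [← h1, ← h2]
        linarith
      rcases mul_eq_zero.mp h6 with h7 | h7
      · have h8 : u = u' := by omega
        subst h8
        nlinarith
      · have h8 : (u + u') ^ 2 * d ^ 2 = 2 * u * u' * d ^ 2 := by
          have e1 : (u + u') * (d ^ 2 * (u + u') + u * u' * D) = 0 := by rw [h3, mul_zero]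
          have e2 : u * u' * ((u + u') * D) = u * u' * (-(2 * d ^ 2)) := by
            congr 1
            linarith
          nlinarith
        have h9 : (u ^ 2 + u' ^ 2) * d ^ 2 = 0 := by nlinarith
        have h10 := (mul_eq_zero.mp h9).resolve_right hd2.ne'
        have h11 : u ^ 2 = 0 := by nlinarith [sq_nonneg u, sq_nonneg u']
        exact hu (by simpa using h11)
  have hn1 : 1 ≤ n := by omega
  have h6 := hnn u
  have h7 : d ^ 2 * f ^ 2 * 1 ≤ d ^ 2 * f ^ 2 * n := mul_le_mul_of_nonneg_left hn1 hdf.le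
  have hn2 : n = 1 := by
    by_contra hc
    have : 2 ≤ n := by omega
    have : d ^ 2 * f ^ 2 * 2 ≤ d ^ 2 * f ^ 2 * n := mul_le_mul_of_nonneg_left this hdf.le
    nlinarith
  rw [hn2] at h1
  have h8 : u * (2 * d ^ 2 + u * D) = 0 := by linarith
  rcases mul_eq_zero.mp h8 with h9 | h9
  · exact Or.inl ⟨h9, hn2⟩
  · right
    have hDpos : 0 < D := by nlinarith
    have hu'neg : u < 0 := by
      by_contra hc
      push Not at hc
      have : 0 ≤ u * D := mul_nonneg hc hDpos.le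
      nlinarith
    have hu1 : u = -1 := by
      by_contra hc
      have : u ≤ -2 := by omega
      nlinarith
    rw [hu1] at h9
    exact ⟨by linarith, hu1, hn2⟩

end Numeric

section Core

variable {L G : Type*} [Group L] [Fintype L] [Group G] [Fintype G]

/-- The data of the Sibley step: an isometry on a subset of characters, agreeing with `T`. -/
structure SibData (Sf : Set (L → ℂ)) (T : (L → ℂ) → (G → ℂ)) (U : Finset (L → ℂ))
    (τp : (L → ℂ) → (G → ℂ)) (d : (L → ℂ) → ℕ) (b₁ : L → ℂ) : Prop where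
  hT : IsLinearIsometryOn (zspanOn Sf {1}ᶜ) T
  hU : (↑U : Set (L → ℂ)) ⊆ Sf
  hirr : ∀ x ∈ Sf, IsIrrCharacter L x
  hd : ∀ x ∈ Sf, x 1 = (d x : ℂ)
  hτ : IsLinearIsometryOn (zspan (↑U : Set (L → ℂ))) τp
  hag : ∀ α ∈ zspanOn (↑U : Set (L → ℂ)) {1}ᶜ, τp α = T α
  hb₁ : b₁ ∈ U

variable {Sf : Set (L → ℂ)} {T : (L → ℂ) → (G → ℂ)} {U : Finset (L → ℂ)}
  {τp : (L → ℂ) → (G → ℂ)} {d : (L → ℂ) → ℕ} {b₁ : L → ℂ}

/-- The sum of the images weighted by the degrees. -/
noncomputable def vSum (U : Finset (L → ℂ)) (τp : (L → ℂ) → (G → ℂ)) (d : (L → ℂ) → ℕ) : G → ℂ :=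
  ∑ x ∈ U, (d x : ℤ) • τp x

namespace SibData

variable (D : SibData Sf T U τp d b₁)

include D

theorem hτ' : IsLinearIsometryOn ((zspanSub (↑U : Set (L → ℂ)) : Submodule ℤ (L → ℂ)) : Set (L → ℂ)) τp := D.hτ

theorem hT' : IsLinearIsometryOn ((zspanOnSub Sf {1}ᶜ : Submodule ℤ (L → ℂ)) : Set (L → ℂ)) T := D.hT

theorem mem_span {x : L → ℂ} (hx : x ∈ U) : x ∈ zspanSub (↑U : Set (L → ℂ)) := Submodule.subset_span hx

theorem inner_U [DecidableEq (L → ℂ)] {x y : L → ℂ} (hx : x ∈ U) (hy : y ∈ U) :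
    classInner x y = if x = y then 1 else 0 := by
  classical
  have := classInner_irr (D.hirr x (D.hU hx)) (D.hirr y (D.hU hy))
  rw [this]
  congr

theorem inner_τ {x y : L → ℂ} (hx : x ∈ U) (hy : y ∈ U) :
    classInner (τp x) (τp y) = classInner x y := IsoLat.inner D.hτ' (D.mem_span hx) (D.mem_span hy)

theorem inner_τ_vSum {x : L → ℂ} (hx : x ∈ U) : classInner (τp x) (vSum U τp d) = (d x : ℂ) := by
  classical
  rw [vSum, classInner_sum_right]
  simp only [classInner_zsmul_right]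
  rw [Finset.sum_eq_single x]
  · rw [D.inner_τ hx hx, D.inner_U hx hx, if_pos rfl]
    simp
  · intro y hy hne
    rw [D.inner_τ hx hy, D.inner_U hx hy, if_neg hne.symm, mul_zero]
  · intro h
    exact absurd hx h

theorem inner_vSum_τ {x : L → ℂ} (hx : x ∈ U) : classInner (vSum U τp d) (τp x) = (d x : ℂ) := by
  rw [classInner_conj_symm, D.inner_τ_vSum hx]
  simp

theorem inner_vSum_vSum : classInner (vSum U τp d) (vSum U τp d) = ∑ x ∈ U, (d x : ℂ) ^ 2 := by
  nth_rewrite 2 [vSum]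
  rw [classInner_sum_right]
  refine Finset.sum_congr rfl fun x hx => ?_
  rw [classInner_zsmul_right, D.inner_vSum_τ hx]
  push_cast
  ring

theorem vSum_virtual : IsGeneralizedCharacter G (vSum U τp d) :=
  IsGeneralizedCharacter.sum'' _ fun x hx =>
    IsGeneralizedCharacter.zsmul' (IsoLat.virtual D.hτ' (D.mem_span hx)) _

theorem inner_Y_vSum {Y : G → ℂ} (hY : ∀ x ∈ U, classInner Y (τp x) = 0) :
    classInner Y (vSum U τp d) = 0 := by
  rw [vSum, classInner_sum_right]
  refine Finset.sum_eq_zero fun x hx => ?_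
  rw [classInner_zsmul_right, hY x hx, mul_zero]

theorem mem_T {a : L → ℂ} (ha : a ∈ Sf) {f : ℕ} (hf : d b₁ = f * d a) :
    b₁ - (f : ℤ) • a ∈ zspanOnSub Sf {1}ᶜ := by
  have hb := D.hU D.hb₁
  refine mem_zspanOn_of (sub_mem_zspan (mem_zspan_of_mem hb)
    (Submodule.smul_mem _ _ (mem_zspan_of_mem ha))) ?_
  simp only [Pi.sub_apply, zapply, D.hd _ hb, D.hd _ ha, hf]
  push_cast
  ring

theorem mem_alpha {x : L → ℂ} (hx : x ∈ U) :
    (d b₁ : ℤ) • x - (d x : ℤ) • b₁ ∈ zspanOn (↑U : Set (L → ℂ)) {1}ᶜ := by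
  refine mem_zspanOn_of (sub_mem_zspan (Submodule.smul_mem _ _ (mem_zspan_of_mem hx))
    (Submodule.smul_mem _ _ (mem_zspan_of_mem D.hb₁))) ?_
  simp only [Pi.sub_apply, zapply, D.hd _ (D.hU hx), D.hd _ (D.hU D.hb₁)]
  push_cast
  ring

theorem d_pos {x : L → ℂ} (hx : x ∈ Sf) : 0 < d x := by
  have h1 := IsIrrCharacter.apply_one_ne_zero (D.hirr x hx)
  rw [D.hd x hx] at h1
  exact Nat.pos_of_ne_zero (fun h => h1 (by rw [h]; simp))

/-- The main structure: the image of `b₁ - f a` modulo `f`. -/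
theorem core {a : L → ℂ} (ha : a ∈ Sf) (haU : a ∉ U) {f : ℕ} (hf : d b₁ = f * d a) (hf0 : 0 < f)
    (hcong : ∀ ψ : G → ℂ, IsIrrCharacter G ψ → (∀ x ∈ U, classInner (τp x) ψ = 0) →
      ∃ k : ℤ, classInner (T (b₁ - (f : ℤ) • a)) ψ = (f : ℂ) * k) :
    ∃ (u : ℤ) (Y : G → ℂ), IsGeneralizedCharacter G Y ∧ (∀ x ∈ U, classInner Y (τp x) = 0) ∧
      (d b₁ : ℤ) • T (b₁ - (f : ℤ) • a) = (d b₁ : ℤ) • τp b₁ + u • vSum U τp d + ((d b₁ : ℤ) * f) • Y ∧
      classInner (T (b₁ - (f : ℤ) • a)) (τp b₁) = (u : ℂ) + 1 := by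
  classical
  have hb := D.hU D.hb₁
  have hdpos := D.d_pos hb
  set ξ := T (b₁ - (f : ℤ) • a) with hξ
  have hmem := D.mem_T ha hf
  have hξv : IsGeneralizedCharacter G ξ := IsoLat.virtual D.hT' hmem
  have hβv : IsGeneralizedCharacter G (τp b₁) := IsoLat.virtual D.hτ' (D.mem_span D.hb₁)
  obtain ⟨s, hs⟩ := IsGeneralizedCharacter.classInner_int hξv hβv
  let u : ℤ := s - 1
  have hV := D.vSum_virtual
  let R : G → ℂ := (d b₁ : ℤ) • ξ - (d b₁ : ℤ) • τp b₁ - u • vSum U τp d
  have hRv : IsGeneralizedCharacter G R := IsGeneralizedCharacter.sub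
    (IsGeneralizedCharacter.sub (IsGeneralizedCharacter.zsmul' hξv _) (IsGeneralizedCharacter.zsmul' hβv _))
    (IsGeneralizedCharacter.zsmul' hV _)
  have hax : ∀ x ∈ U, classInner a x = 0 := fun x hx =>
    classInner_irr_of_ne (D.hirr a ha) (D.hirr x (D.hU hx)) (fun e => haU (e ▸ hx))
  have hRorth : ∀ x ∈ U, classInner R (τp x) = 0 := by
    intro x hx
    have h1 := D.mem_alpha hx
    have h2 := D.hag _ h1
    have h3 : τp ((d b₁ : ℤ) • x - (d x : ℤ) • b₁) = (d b₁ : ℤ) • τp x - (d x : ℤ) • τp b₁ := by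
      rw [IsoLat.map_sub D.hτ' (Submodule.smul_mem _ _ (D.mem_span hx)) (Submodule.smul_mem _ _ (D.mem_span D.hb₁)),
        IsoLat.map_zsmul D.hτ' (D.mem_span hx), IsoLat.map_zsmul D.hτ' (D.mem_span D.hb₁)]
    have h4 := IsoLat.inner D.hT' hmem (zspanOn_mono D.hU h1 : _ ∈ zspanOnSub Sf {1}ᶜ)
    rw [← h2, h3] at h4
    have hbb : classInner b₁ b₁ = 1 := classInner_irr_self (D.hirr _ hb)
    simp only [classInner_sub_left, classInner_sub_right, classInner_zsmul_left, classInner_zsmul_right,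
      hax x hx, hax b₁ D.hb₁, hbb, ← hξ, hs] at h4
    simp only [R, classInner_sub_left, classInner_zsmul_left, D.inner_τ D.hb₁ hx, D.inner_vSum_τ hx]
    simp only [u]
    push_cast at h4 ⊢
    linear_combination h4
  have hdvd : ∀ ψ : G → ℂ, IsIrrCharacter G ψ →
      ∃ k : ℤ, classInner R ψ = (((d b₁ : ℤ) * (f : ℤ) : ℤ) : ℂ) * k := by
    intro ψ hψ
    by_cases h : ∀ x ∈ U, classInner (τp x) ψ = 0
    · obtain ⟨k, hk⟩ := hcong ψ hψ h
      refine ⟨k, ?_⟩
      have hVψ : classInner (vSum U τp d) ψ = 0 := by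
        rw [vSum, classInner_sum_left]
        refine Finset.sum_eq_zero fun x hx => ?_
        rw [classInner_zsmul_left, h x hx, mul_zero]
      simp only [R, classInner_sub_left, classInner_zsmul_left, hVψ, h b₁ D.hb₁, hk]
      push_cast
      ring
    · push Not at h
      obtain ⟨x, hx, hne⟩ := h
      have hnorm : classInner (τp x) (τp x) = 1 := by
        rw [D.inner_τ hx hx]
        exact classInner_irr_self (D.hirr x (D.hU hx))
      have hxv := IsoLat.virtual D.hτ' (D.mem_span hx)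
      refine ⟨0, ?_⟩
      by_cases e1 : ψ = τp x
      · rw [e1, hRorth x hx]
        simp
      by_cases e2 : ψ = -τp x
      · rw [e2, classInner_neg_right, hRorth x hx]
        simp
      exact absurd (classInner_eq_zero_of_norm_one hxv hnorm hψ e1 e2) hne
  obtain ⟨Y, hYv, hRY⟩ := exists_virtual_of_dvd (IsGeneralizedCharacter.isClassFunction hRv) hdvd
  have hdf : (((d b₁ : ℤ) * (f : ℤ) : ℤ) : ℂ) ≠ 0 := by
    have : ((d b₁ : ℤ) * (f : ℤ)) ≠ 0 := by positivity
    exact_mod_cast this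
  refine ⟨u, Y, hYv, ?_, ?_, ?_⟩
  · intro x hx
    have h1 := hRorth x hx
    rw [hRY, classInner_zsmul_left] at h1
    exact (mul_eq_zero.mp h1).resolve_left hdf
  · have h1 : R = ((d b₁ : ℤ) * (f : ℤ)) • Y := hRY
    funext g
    have h2 := congrFun h1 g
    simp only [R, Pi.sub_apply, Pi.add_apply, zapply] at h2 ⊢
    push_cast at h2 ⊢
    linear_combination h2
  · rw [hs]
    simp only [u]
    push_cast
    ring

/-- The inner products of two `Y`. -/
theorem inner_formula {a a' : L → ℂ} (ha : a ∈ Sf) (haU : a ∉ U) (ha' : a' ∈ Sf) (haU' : a' ∉ U)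
    {f f' : ℕ} (hf : d b₁ = f * d a) (hf' : d b₁ = f' * d a') {u u' : ℤ} {Y Y' : G → ℂ}
    (hY : ∀ x ∈ U, classInner Y (τp x) = 0) (hY' : ∀ x ∈ U, classInner Y' (τp x) = 0)
    (he : (d b₁ : ℤ) • T (b₁ - (f : ℤ) • a) = (d b₁ : ℤ) • τp b₁ + u • vSum U τp d + ((d b₁ : ℤ) * f) • Y)
    (he' : (d b₁ : ℤ) • T (b₁ - (f' : ℤ) • a') = (d b₁ : ℤ) • τp b₁ + u' • vSum U τp d + ((d b₁ : ℤ) * f') • Y') :
    (d b₁ : ℂ) ^ 2 * f * f' * classInner a a' = (d b₁ : ℂ) ^ 2 * (u + u') + u * u' * (∑ x ∈ U, (d x : ℂ) ^ 2) +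
      (d b₁ : ℂ) ^ 2 * f * f' * classInner Y Y' := by
  have hb := D.hU D.hb₁
  have h1 := IsoLat.inner D.hT' (D.mem_T ha hf) (D.mem_T ha' hf')
  have hab : classInner a b₁ = 0 := classInner_irr_of_ne (D.hirr a ha) (D.hirr _ hb) (fun e => haU (e ▸ D.hb₁))
  have hba' : classInner b₁ a' = 0 := classInner_irr_of_ne (D.hirr _ hb) (D.hirr a' ha') (fun e => haU' (e ▸ D.hb₁))
  have hbb : classInner b₁ b₁ = 1 := classInner_irr_self (D.hirr _ hb)
  simp only [classInner_sub_left, classInner_sub_right, classInner_zsmul_left, classInner_zsmul_right,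
    hab, hba', hbb] at h1
  have h2 : classInner ((d b₁ : ℤ) • T (b₁ - (f : ℤ) • a)) ((d b₁ : ℤ) • T (b₁ - (f' : ℤ) • a')) =
      (d b₁ : ℂ) ^ 2 * classInner (T (b₁ - (f : ℤ) • a)) (T (b₁ - (f' : ℤ) • a')) := by
    rw [classInner_zsmul_left, classInner_zsmul_right]
    push_cast
    ring
  rw [he, he', h1] at h2
  simp only [classInner_add_left, classInner_add_right, classInner_zsmul_left, classInner_zsmul_right,
    D.inner_vSum_vSum, D.inner_vSum_τ D.hb₁, D.inner_τ_vSum D.hb₁, D.inner_τ D.hb₁ D.hb₁, hbb,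
    D.inner_Y_vSum hY, hY b₁ D.hb₁] at h2
  have h3 : classInner (τp b₁) Y' = 0 := classInner_comm_zero (hY' b₁ D.hb₁)
  have h4 : classInner (vSum U τp d) Y' = 0 := classInner_comm_zero (D.inner_Y_vSum hY')
  rw [h3, h4] at h2
  push_cast at h2
  linear_combination -h2

end SibData

end Core

section Finish

variable {G : Type*} [Group G] [Fintype G] {N : Subgroup G} [Fintype N]

theorem indFun_zsmul' (n : ℤ) (a : N → ℂ) : indFun N (n • a) = n • indFun N a := by
  have h1 : n • a = (n : ℂ) • a := by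
    funext x
    simp
  rw [h1, indFun_smul]
  funext x
  simp

/-- Assembling the isometry from an orthonormal family. -/
theorem sibley_finish [DecidableEq (N → ℂ)] {U A : Finset (N → ℂ)} (hdisj : Disjoint U A)
    (hirrU : ∀ x ∈ U, IsIrrCharacter N x) (hirrA : ∀ a ∈ A, IsIrrCharacter N a)
    (d : (N → ℂ) → ℕ) (hdU : ∀ x ∈ U, x 1 = d x) (hdA : ∀ a ∈ A, a 1 = d a)
    {b₁ : N → ℂ} (hd0 : 0 < d b₁)
    (η : (N → ℂ) → (G → ℂ)) (hηv : ∀ x ∈ U, IsGeneralizedCharacter G (η x))
    (hη : ∀ x ∈ U, ∀ y ∈ U, classInner (η x) (η y) = if x = y then 1 else 0)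
    (hηT : ∀ x ∈ U, (d b₁ : ℂ) • (indFun N x - η x) = (d x : ℂ) • (indFun N b₁ - η b₁))
    (f : (N → ℂ) → ℕ) (hf : ∀ a ∈ A, d b₁ = f a * d a)
    (Y : (N → ℂ) → (G → ℂ)) (hYv : ∀ a ∈ A, IsGeneralizedCharacter G (Y a))
    (hYη : ∀ a ∈ A, ∀ x ∈ U, classInner (Y a) (η x) = 0)
    (hYT : ∀ a ∈ A, (f a : ℂ) • (indFun N a + Y a) = indFun N b₁ - η b₁)
    (hYY : ∀ a ∈ A, ∀ a' ∈ A, classInner (Y a) (Y a') = if a = a' then 1 else 0)
    (hne : ∃ α ∈ zspanOn (↑(U ∪ A) : Set (N → ℂ)) {1}ᶜ, α ≠ 0) :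
    IsCoherent (↑(U ∪ A) : Set (N → ℂ)) {1}ᶜ (fun α => indFun N α) := by
  classical
  set F := U ∪ A with hF
  have hdis : ∀ a ∈ A, a ∉ U := fun a ha hU => Finset.disjoint_left.mp hdisj hU ha
  have hFirr : ∀ x ∈ F, IsIrrCharacter N x := by
    intro x hx
    rcases Finset.mem_union.mp hx with h | h
    · exact hirrU x h
    · exact hirrA x h
  have horth : ∀ x ∈ F, ∀ y ∈ F, classInner x y = if x = y then 1 else 0 := by
    intro x hx y hy
    have := classInner_irr (hFirr x hx) (hFirr y hy)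
    rw [this]
    congr
  let η' : (N → ℂ) → (G → ℂ) := fun x => if x ∈ U then η x else - Y x
  have hη'U : ∀ x ∈ U, η' x = η x := fun x hx => if_pos hx
  have hη'A : ∀ a ∈ A, η' a = - Y a := fun a ha => if_neg (hdis a ha)
  have hη'v : ∀ x ∈ F, IsGeneralizedCharacter G (η' x) := by
    intro x hx
    rcases Finset.mem_union.mp hx with h | h
    · rw [hη'U x h]
      exact hηv x h
    · rw [hη'A x h]
      exact IsGeneralizedCharacter.neg (hYv x h)
  have hη'o : ∀ x ∈ F, ∀ y ∈ F, classInner (η' x) (η' y) = if x = y then 1 else 0 := by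
    intro x hx y hy
    rcases Finset.mem_union.mp hx with h | h <;> rcases Finset.mem_union.mp hy with h' | h'
    · rw [hη'U x h, hη'U y h']
      exact hη x h y h'
    · rw [hη'U x h, hη'A y h', classInner_neg_right, classInner_comm_zero (hYη y h' x h), neg_zero, if_neg]
      rintro rfl
      exact hdis x h' h
    · rw [hη'A x h, hη'U y h', classInner_neg_left, hYη x h y h', neg_zero, if_neg]
      rintro rfl
      exact hdis x h h'
    · rw [hη'A x h, hη'A y h', classInner_neg_left, classInner_neg_right, neg_neg]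
      exact hYY x h y h'
  let c : G → ℂ := (d b₁ : ℂ)⁻¹ • (indFun N b₁ - η b₁)
  have hd0C : (d b₁ : ℂ) ≠ 0 := by exact_mod_cast hd0.ne'
  have hfc : ∀ x ∈ F, indFun N x = η' x + x 1 • c := by
    intro x hx
    rcases Finset.mem_union.mp hx with h | h
    · rw [hη'U x h, hdU x h]
      funext g
      have h1 := congrFun (hηT x h) g
      simp only [Pi.smul_apply, smul_eq_mul, Pi.sub_apply, Pi.add_apply, c] at h1 ⊢
      field_simp
      linear_combination h1
    · rw [hη'A x h, hdA x h]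
      have h2 := hf x h
      have hfne : (f x : ℂ) ≠ 0 := by
        intro h3
        have h4 : f x = 0 := by exact_mod_cast h3
        rw [h4, zero_mul] at h2
        omega
      have hdxne : (d x : ℂ) ≠ 0 := by
        intro h3
        have h4 : d x = 0 := by exact_mod_cast h3
        rw [h4, mul_zero] at h2
        omega
      have h2' : (d b₁ : ℂ) = f x * d x := by exact_mod_cast h2
      funext g
      have h1 := congrFun (hYT x h) g
      simp only [Pi.smul_apply, smul_eq_mul, Pi.sub_apply, Pi.add_apply, Pi.neg_apply, c] at h1 ⊢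
      rw [h2']
      field_simp
      linear_combination h1
  refine ⟨hne, fun α => ∑ x ∈ F, classInner α x • η' x, exists_isometry_of_orthonormal horth η' hη'v hη'o, ?_⟩
  intro α hα
  have hexp := zspan_expansion horth hα.1
  have h1 : indFun N α = ∑ x ∈ F, classInner α x • indFun N x := by
    nth_rewrite 1 [hexp]
    rw [indFun_sum]
    refine Finset.sum_congr rfl fun x _ => ?_
    rw [indFun_smul]
  have h2 : ∑ x ∈ F, classInner α x * x 1 = 0 := by
    have h3 := congrFun hexp 1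
    rw [hα.2 1 (by simp), Finset.sum_apply] at h3
    simpa using h3.symm
  simp only
  rw [h1]
  have h3 : ∀ x ∈ F, classInner α x • indFun N x = classInner α x • η' x + (classInner α x * x 1) • c := by
    intro x hx
    rw [hfc x hx, smul_add, smul_smul]
  rw [Finset.sum_congr rfl h3, Finset.sum_add_distrib, ← Finset.sum_smul, h2, zero_smul, add_zero]

/-- **The Sibley extension step**. -/
theorem sibley_main [DecidableEq (N → ℂ)] {Sf : Set (N → ℂ)} {U A : Finset (N → ℂ)} {τp : (N → ℂ) → (G → ℂ)}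
    {d : (N → ℂ) → ℕ} {b₁ : N → ℂ}
    (D : SibData Sf (fun α => indFun N α) U τp d b₁) (hA : (↑A : Set (N → ℂ)) ⊆ Sf)
    (hdisj : Disjoint U A) (hAc : ∀ a ∈ A, Cfsg.conjFun a ∈ A) (hAc' : ∀ a ∈ A, Cfsg.conjFun a ≠ a)
    (hUc : ∀ x ∈ U, Cfsg.conjFun x ∈ U) (hbc' : Cfsg.conjFun b₁ ≠ b₁)
    (hdc : ∀ x ∈ Sf, Cfsg.conjFun x ∈ Sf → d (Cfsg.conjFun x) = d x)
    (f : (N → ℂ) → ℕ) (hf : ∀ a ∈ A, d b₁ = f a * d a) (hf1 : ∀ a ∈ A, 1 < f a)
    (hcong : ∀ a ∈ A, ∀ ψ : G → ℂ, IsIrrCharacter G ψ → (∀ x ∈ U, classInner (τp x) ψ = 0) →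
      ∃ k : ℤ, classInner (indFun N (b₁ - (f a : ℤ) • a)) ψ = (f a : ℂ) * k) :
    IsCoherent (↑(U ∪ A) : Set (N → ℂ)) {1}ᶜ (fun α => indFun N α) := by
  classical
  have hdis : ∀ a ∈ A, a ∉ U := fun a ha hU => Finset.disjoint_left.mp hdisj hU ha
  have hbS := D.hU D.hb₁
  have hbc : Cfsg.conjFun b₁ ∈ U := hUc _ D.hb₁
  have hdbc : d (Cfsg.conjFun b₁) = d b₁ := hdc b₁ hbS (D.hU hbc)
  have hdpos := D.d_pos hbS
  have hdC : (d b₁ : ℂ) ≠ 0 := by exact_mod_cast hdpos.ne'
  have hcore : ∀ a ∈ A, ∃ (u : ℤ) (Y : G → ℂ), IsGeneralizedCharacter G Y ∧ (∀ x ∈ U, classInner Y (τp x) = 0) ∧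
      (d b₁ : ℤ) • indFun N (b₁ - (f a : ℤ) • a) = (d b₁ : ℤ) • τp b₁ + u • vSum U τp d + ((d b₁ : ℤ) * f a) • Y ∧
      classInner (indFun N (b₁ - (f a : ℤ) • a)) (τp b₁) = (u : ℂ) + 1 := fun a ha =>
    D.core (hA ha) (hdis a ha) (hf a ha) (by have := hf1 a ha; omega) (hcong a ha)
  choose! u Y hYv hYo he hu using hcore
  have hfpos : ∀ a ∈ A, (0 : ℤ) < (f a : ℤ) := fun a ha => by
    have := hf1 a ha
    omega
  -- degrees of the conjugates
  have hfc : ∀ a ∈ A, f (Cfsg.conjFun a) = f a := by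
    intro a ha
    have h1 := hf a ha
    have h2 := hf _ (hAc a ha)
    rw [hdc a (hA ha) (hA (hAc a ha))] at h2
    have hda := D.d_pos (hA ha)
    exact Nat.eq_of_mul_eq_mul_right hda (h2.symm.trans h1)
  -- the sum of squares
  let DD : ℤ := ∑ x ∈ U, (d x : ℤ) ^ 2
  have hDDC : ((DD : ℤ) : ℂ) = ∑ x ∈ U, (d x : ℂ) ^ 2 := by
    simp only [DD]
    push_cast
    rfl
  have hpair : ({b₁, Cfsg.conjFun b₁} : Finset (N → ℂ)) ⊆ U := by
    intro x hx
    simp only [Finset.mem_insert, Finset.mem_singleton] at hx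
    rcases hx with rfl | rfl
    · exact D.hb₁
    · exact hbc
  have hDD2 : 2 * (d b₁ : ℤ) ^ 2 ≤ DD := by
    have h1 : ∑ x ∈ ({b₁, Cfsg.conjFun b₁} : Finset (N → ℂ)), (d x : ℤ) ^ 2 ≤ DD :=
      Finset.sum_le_sum_of_subset_of_nonneg hpair (fun _ _ _ => by positivity)
    rw [Finset.sum_pair hbc'.symm, hdbc] at h1
    linarith
  -- the formula
  have hform : ∀ a ∈ A, ∀ a' ∈ A, (d b₁ : ℂ) ^ 2 * f a * f a' * classInner a a' =
      (d b₁ : ℂ) ^ 2 * (u a + u a') + u a * u a' * (DD : ℂ) + (d b₁ : ℂ) ^ 2 * f a * f a' * classInner (Y a) (Y a') := by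
    intro a ha a' ha'
    rw [hDDC]
    exact D.inner_formula (hA ha) (hdis a ha) (hA ha') (hdis a' ha') (hf a ha) (hf a' ha') (hYo a ha) (hYo a' ha')
      (he a ha) (he a' ha')
  have hselfA : ∀ a ∈ A, classInner a a = 1 := fun a ha => classInner_irr_self (D.hirr a (hA ha))
  have hint : ∀ a ∈ A, ∀ a' ∈ A, ∃ g : ℤ, classInner (Y a) (Y a') = g := fun a ha a' ha' =>
    IsGeneralizedCharacter.classInner_int (hYv a ha) (hYv a' ha')
  -- the numerical consequence
  have hnum : ∀ a ∈ A, (u a = 0 ∧ classInner (Y a) (Y a) = 1) ∨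
      (DD = 2 * (d b₁ : ℤ) ^ 2 ∧ u a = -1 ∧ classInner (Y a) (Y a) = 1) := by
    intro a ha
    have ha' := hAc a ha
    obtain ⟨n, hn⟩ := hint a ha a ha
    obtain ⟨n', hn'⟩ := hint _ ha' _ ha'
    obtain ⟨g, hg⟩ := hint a ha _ ha'
    have hnpos : 0 ≤ n := by
      have h1 := classInner_self_re_nonneg (Y a)
      rw [hn] at h1
      simpa using h1
    have hn'pos : 0 ≤ n' := by
      have h1 := classInner_self_re_nonneg (Y (Cfsg.conjFun a))
      rw [hn'] at h1
      simpa using h1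
    have h1 := hform a ha a ha
    have h2 := hform _ ha' _ ha'
    have h3 := hform a ha _ ha'
    rw [hselfA a ha, hn] at h1
    rw [hselfA _ ha', hn', hfc a ha] at h2
    rw [classInner_irr_of_ne (D.hirr a (hA ha)) (D.hirr _ (hA ha')) (hAc' a ha).symm, hg, hfc a ha] at h3
    have h1' : (d b₁ : ℤ) ^ 2 * (f a : ℤ) ^ 2 = 2 * (d b₁ : ℤ) ^ 2 * u a + u a ^ 2 * DD + (d b₁ : ℤ) ^ 2 * (f a : ℤ) ^ 2 * n := by
      have : (((d b₁ : ℤ) ^ 2 * (f a : ℤ) ^ 2 : ℤ) : ℂ) = ((2 * (d b₁ : ℤ) ^ 2 * u a + u a ^ 2 * DD + (d b₁ : ℤ) ^ 2 * (f a : ℤ) ^ 2 * n : ℤ) : ℂ) := by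
        push_cast
        linear_combination h1
      exact_mod_cast this
    have h2' : (d b₁ : ℤ) ^ 2 * (f a : ℤ) ^ 2 = 2 * (d b₁ : ℤ) ^ 2 * u (Cfsg.conjFun a) + u (Cfsg.conjFun a) ^ 2 * DD + (d b₁ : ℤ) ^ 2 * (f a : ℤ) ^ 2 * n' := by
      have : (((d b₁ : ℤ) ^ 2 * (f a : ℤ) ^ 2 : ℤ) : ℂ) = ((2 * (d b₁ : ℤ) ^ 2 * u (Cfsg.conjFun a) + u (Cfsg.conjFun a) ^ 2 * DD + (d b₁ : ℤ) ^ 2 * (f a : ℤ) ^ 2 * n' : ℤ) : ℂ) := by
        push_cast
        linear_combination h2
      exact_mod_cast this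
    have h3' : (d b₁ : ℤ) ^ 2 * (u a + u (Cfsg.conjFun a)) + u a * u (Cfsg.conjFun a) * DD + (d b₁ : ℤ) ^ 2 * (f a : ℤ) ^ 2 * g = 0 := by
      have : (((d b₁ : ℤ) ^ 2 * (u a + u (Cfsg.conjFun a)) + u a * u (Cfsg.conjFun a) * DD + (d b₁ : ℤ) ^ 2 * (f a : ℤ) ^ 2 * g : ℤ) : ℂ) = ((0 : ℤ) : ℂ) := by
        push_cast
        linear_combination -h3
      exact_mod_cast this
    have h4 : n = 0 → g = 0 := by
      intro hn0
      have h5 : Y a = 0 := eq_zero_of_classInner_self (by rw [hn, hn0]; simp)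
      rw [h5, classInner_zero_left] at hg
      exact_mod_cast hg.symm
    have h5 : n' = 0 → g = 0 := by
      intro hn0
      have h6 : Y (Cfsg.conjFun a) = 0 := eq_zero_of_classInner_self (by rw [hn', hn0]; simp)
      rw [h6, classInner_zero_right] at hg
      exact_mod_cast hg.symm
    have hdz : (0 : ℤ) < (d b₁ : ℤ) := by exact_mod_cast hdpos
    rcases sibley_numeric hdz (hfpos a ha) hDD2 hnpos hn'pos h1' h2' h3' h4 h5 with ⟨h6, h7⟩ | ⟨h6, h7, h8⟩
    · left
      refine ⟨h6, ?_⟩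
      rw [hn, h7]
      simp
    · right
      refine ⟨h6, h7, ?_⟩
      rw [hn, h8]
      simp
  -- the nonzero element
  have hne : ∃ α ∈ zspanOn (↑(U ∪ A) : Set (N → ℂ)) {1}ᶜ, α ≠ 0 := by
    refine ⟨b₁ - Cfsg.conjFun b₁, ?_, ?_⟩
    · refine mem_zspanOn_of (sub_mem_zspan (mem_zspan_of_mem (Finset.mem_coe.mpr (Finset.mem_union_left _ D.hb₁)))
        (mem_zspan_of_mem (Finset.mem_coe.mpr (Finset.mem_union_left _ hbc)))) ?_
      simp only [Pi.sub_apply, D.hd _ hbS, D.hd _ (D.hU hbc), hdbc]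
      ring
    · intro h
      exact hbc' (sub_eq_zero.mp h).symm
  have hfpos' : ∀ a ∈ A, (f a : ℂ) ≠ 0 := fun a ha => by
    have := hf1 a ha
    exact_mod_cast (by omega : f a ≠ 0)
  have hinnerA : ∀ a ∈ A, ∀ a' ∈ A, classInner a a' = if a = a' then 1 else 0 := by
    intro a ha a' ha'
    have := classInner_irr (D.hirr a (hA ha)) (D.hirr a' (hA ha'))
    rw [this]
    congr
  have hIndEq : ∀ a ∈ A, indFun N (b₁ - (f a : ℤ) • a) = indFun N b₁ - (f a : ℤ) • indFun N a := by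
    intro a _
    rw [indFun_sub, indFun_zsmul']
  by_cases hall : ∀ a ∈ A, u a = 0
  · -- no swap
    refine sibley_finish hdisj (fun x hx => D.hirr x (D.hU hx)) (fun a ha => D.hirr a (hA ha)) d
      (fun x hx => D.hd x (D.hU hx)) (fun a ha => D.hd a (hA ha)) hdpos τp
      (fun x hx => IsoLat.virtual D.hτ' (D.mem_span hx)) ?_ ?_ f (hf) Y hYv hYo ?_ ?_ hne
    · intro x hx y hy
      rw [D.inner_τ hx hy, D.inner_U hx hy]
    · intro x hx
      have h1 := D.hag _ (D.mem_alpha hx)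
      rw [IsoLat.map_sub D.hτ' (Submodule.smul_mem _ _ (D.mem_span hx)) (Submodule.smul_mem _ _ (D.mem_span D.hb₁)),
        IsoLat.map_zsmul D.hτ' (D.mem_span hx), IsoLat.map_zsmul D.hτ' (D.mem_span D.hb₁)] at h1
      rw [indFun_sub, indFun_zsmul', indFun_zsmul'] at h1
      funext g
      have h2 := congrFun h1 g
      simp only [Pi.sub_apply, Pi.smul_apply] at h2 ⊢
      simp only [zsmul_eq_mul, smul_eq_mul] at h2 ⊢
      push_cast at h2
      linear_combination -h2
    · intro a ha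
      have h1 := he a ha
      rw [hall a ha, zero_smul, add_zero, hIndEq a ha] at h1
      funext g
      have h2 := congrFun h1 g
      simp only [Pi.sub_apply, Pi.add_apply, Pi.smul_apply] at h2 ⊢
      simp only [zsmul_eq_mul, smul_eq_mul] at h2 ⊢
      push_cast at h2
      have h3 : (d b₁ : ℂ) * ((f a : ℂ) * (indFun N a g + Y a g) - (indFun N b₁ g - τp b₁ g)) = 0 := by
        linear_combination -h2
      have h4 := (mul_eq_zero.mp h3).resolve_left hdC
      linear_combination h4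
    · intro a ha a' ha'
      have h1 := hform a ha a' ha'
      rw [hall a ha, hall a' ha'] at h1
      have h2 : (d b₁ : ℂ) ^ 2 * f a * f a' ≠ 0 := by
        have := hfpos' a ha
        have := hfpos' a' ha'
        positivity
      rw [← hinnerA a ha a' ha']
      push_cast at h1
      apply mul_left_cancel₀ h2
      linear_combination -h1
  · -- the swap
    push Not at hall
    obtain ⟨a₀, ha₀, hu₀⟩ := hall
    obtain ⟨hDD, hu₀1, -⟩ : DD = 2 * (d b₁ : ℤ) ^ 2 ∧ u a₀ = -1 ∧ classInner (Y a₀) (Y a₀) = 1 := by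
      rcases hnum a₀ ha₀ with ⟨h, -⟩ | h
      · exact absurd h hu₀
      · exact h
    have hallneg : ∀ a ∈ A, u a = -1 := by
      intro a ha
      rcases hnum a ha with ⟨h, -⟩ | ⟨-, h, -⟩
      · exfalso
        obtain ⟨g, hg⟩ := hint a₀ ha₀ a ha
        have h1 := hform a₀ ha₀ a ha
        rw [hu₀1, h, hg] at h1
        have h2 : ∃ p : ℤ, classInner a₀ a = p := by
          rw [hinnerA a₀ ha₀ a ha]
          split_ifs
          · exact ⟨1, by simp⟩
          · exact ⟨0, by simp⟩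
        obtain ⟨p, hp⟩ := h2
        rw [hp] at h1
        have h3 : ((d b₁ : ℤ) ^ 2 * ((f a₀ : ℤ) * (f a : ℤ) * (g - p)) : ℤ) = (d b₁ : ℤ) ^ 2 * 1 := by
          have : (((d b₁ : ℤ) ^ 2 * ((f a₀ : ℤ) * (f a : ℤ) * (g - p)) : ℤ) : ℂ) = (((d b₁ : ℤ) ^ 2 * 1 : ℤ) : ℂ) := by
            push_cast at h1 ⊢
            linear_combination -h1
          exact_mod_cast this
        have hdz : (d b₁ : ℤ) ^ 2 ≠ 0 := by
          have : (d b₁ : ℤ) ≠ 0 := by exact_mod_cast hdpos.ne'
          positivity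
        have h4 := mul_left_cancel₀ hdz h3
        have h5 : (f a₀ : ℤ) ∣ 1 := ⟨(f a : ℤ) * (g - p), by rw [← h4]; ring⟩
        have h6 := Int.natCast_dvd_natCast.mp (by simpa using h5 : (f a₀ : ℤ) ∣ ((1 : ℕ) : ℤ))
        have h7 := Nat.dvd_one.mp h6
        have := hf1 a₀ ha₀
        omega
      · exact h
    -- `U` is the pair
    have hUeq : ∀ x ∈ U, x = b₁ ∨ x = Cfsg.conjFun b₁ := by
      intro x hx
      by_contra hc
      push Not at hc
      have h1 : ∑ x ∈ insert x ({b₁, Cfsg.conjFun b₁} : Finset (N → ℂ)), (d x : ℤ) ^ 2 ≤ DD :=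
        Finset.sum_le_sum_of_subset_of_nonneg (Finset.insert_subset hx hpair) (fun _ _ _ => by positivity)
      rw [Finset.sum_insert (by simp [hc.1, hc.2]), Finset.sum_pair hbc'.symm, hdbc, hDD] at h1
      have h2 : 0 < d x := D.d_pos (D.hU hx)
      have h3 : (0 : ℤ) < (d x : ℤ) ^ 2 := by positivity
      linarith
    have hU2 : U = {b₁, Cfsg.conjFun b₁} := by
      ext x
      constructor
      · intro hx
        rcases hUeq x hx with rfl | rfl <;> simp
      · intro hx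
        exact hpair hx
    have hV : vSum U τp d = (d b₁ : ℤ) • τp b₁ + (d b₁ : ℤ) • τp (Cfsg.conjFun b₁) := by
      rw [vSum, hU2, Finset.sum_pair hbc'.symm, hdbc]
    have hbb : classInner (Cfsg.conjFun b₁) (Cfsg.conjFun b₁) = 1 :=
      classInner_irr_self (D.hirr _ (D.hU hbc))
    have hαmem : b₁ - Cfsg.conjFun b₁ ∈ zspanOn (↑U : Set (N → ℂ)) {1}ᶜ := by
      refine mem_zspanOn_of (sub_mem_zspan (mem_zspan_of_mem D.hb₁) (mem_zspan_of_mem hbc)) ?_
      simp only [Pi.sub_apply, D.hd _ hbS, D.hd _ (D.hU hbc), hdbc]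
      ring
    have hαeq := D.hag _ hαmem
    rw [IsoLat.map_sub D.hτ' (D.mem_span D.hb₁) (D.mem_span hbc), indFun_sub] at hαeq
    refine sibley_finish hdisj (fun x hx => D.hirr x (D.hU hx)) (fun a ha => D.hirr a (hA ha)) d
      (fun x hx => D.hd x (D.hU hx)) (fun a ha => D.hd a (hA ha)) hdpos (fun x => - τp (Cfsg.conjFun x))
      (fun x hx => IsGeneralizedCharacter.neg (IsoLat.virtual D.hτ' (D.mem_span (hUc x hx)))) ?_ ?_ f (hf) Y hYv
      (fun a ha x hx => by
        rw [classInner_neg_right, hYo a ha _ (hUc x hx), neg_zero]) ?_ ?_ hne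
    · intro x hx y hy
      rw [classInner_neg_left, classInner_neg_right, neg_neg, D.inner_τ (hUc x hx) (hUc y hy),
        classInner_conjFun_conjFun, D.inner_U hx hy]
      split_ifs <;> simp
    · intro x hx
      rcases hUeq x hx with rfl | rfl
      · rfl
      · funext g
        have h2 := congrFun hαeq g
        simp only [conjFun_conjFun, hdbc, Pi.sub_apply, Pi.neg_apply, Pi.smul_apply, smul_eq_mul] at h2 ⊢
        linear_combination (d b₁ : ℂ) * h2
    · intro a ha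
      have h1 := he a ha
      rw [hallneg a ha, hV, hIndEq a ha] at h1
      funext g
      have h2 := congrFun h1 g
      simp only [Pi.sub_apply, Pi.add_apply, Pi.neg_apply, Pi.smul_apply] at h2 ⊢
      simp only [zsmul_eq_mul, smul_eq_mul] at h2 ⊢
      push_cast at h2
      have h3 : (d b₁ : ℂ) * ((f a : ℂ) * (indFun N a g + Y a g) - (indFun N b₁ g - -τp (Cfsg.conjFun b₁) g)) = 0 := by
        linear_combination -h2
      have h4 := (mul_eq_zero.mp h3).resolve_left hdC
      linear_combination h4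
    · intro a ha a' ha'
      have h1 := hform a ha a' ha'
      rw [hallneg a ha, hallneg a' ha', hDD] at h1
      have h2 : (d b₁ : ℂ) ^ 2 * f a * f a' ≠ 0 := by
        have := hfpos' a ha
        have := hfpos' a' ha'
        positivity
      rw [← hinnerA a ha a' ha']
      push_cast at h1
      apply mul_left_cancel₀ h2
      linear_combination -h1

end Finish

end Cfsg.Agent.Lib.OddChar
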