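import Cfsg.Agent.Lib.OddChar.FeitGen
import Cfsg.Agent.Lib.OddChar.Sibley
import Cfsg.Agent.Lib.OddChar.Inner

/-! # Coherence of a set of at least two irreducible characters of the same degree. -/

set_option autoImplicit false

namespace Cfsg.Agent.Lib.OddChar

open Cfsg Cfsg.Agent.Lib.Char

private theorem zapply {X : Type*} (n : ℤ) (f : X → ℂ) (x : X) : (n • f) x = (n : ℂ) * f x := by
  simp

variable {L G : Type*} [Group L] [Fintype L] [Group G] [Fintype G]

theorem IsoLat.map_sum' {E : Submodule ℤ (L → ℂ)} {τ : (L → ℂ) → (G → ℂ)}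
    (hτ : IsLinearIsometryOn (E : Set (L → ℂ)) τ) {ι : Type*} [DecidableEq ι] (s : Finset ι) (f : ι → (L → ℂ))
    (hf : ∀ i ∈ s, f i ∈ E) : τ (∑ i ∈ s, f i) = ∑ i ∈ s, τ (f i) := by
  induction s using Finset.induction_on with
  | empty =>
    simp only [Finset.sum_empty]
    exact IsoLat.map_zero hτ
  | insert a s ha ih =>
    rw [Finset.sum_insert ha, Finset.sum_insert ha, IsoLat.map_add hτ (hf a (Finset.mem_insert_self _ _))
      (Submodule.sum_mem _ fun i hi => hf i (Finset.mem_insert_of_mem hi)),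
      ih fun i hi => hf i (Finset.mem_insert_of_mem hi)]

open scoped Classical in
/-- Coherence from an orthonormal lift of a set of irreducible characters of the same degree. -/
theorem coherent_of_lift (S₀ : Finset (L → ℂ)) (hirr : ∀ ξ ∈ S₀, IsIrrCharacter L ξ) (e : ℂ)
    (hdeg : ∀ ξ ∈ S₀, ξ 1 = e) (ψ₀ χ₀ : L → ℂ) (hψ₀ : ψ₀ ∈ S₀) (hχ₀ : χ₀ ∈ S₀) (hne : χ₀ ≠ ψ₀)
    (η : (L → ℂ) → (G → ℂ)) (hv : ∀ x ∈ S₀, IsGeneralizedCharacter G (η x))
    (hη : ∀ x ∈ S₀, ∀ y ∈ S₀, classInner (η x) (η y) = if x = y then 1 else 0)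
    (τ : (L → ℂ) → (G → ℂ)) (hτ : IsLinearIsometryOn (zspanOn (↑S₀ : Set (L → ℂ)) {1}ᶜ) τ)
    (hag : ∀ χ ∈ S₀, τ (χ - ψ₀) = η χ - η ψ₀) : IsCoherent (↑S₀ : Set (L → ℂ)) {1}ᶜ τ := by
  have hτE : IsLinearIsometryOn ((zspanOnSub (↑S₀ : Set (L → ℂ)) {1}ᶜ : Submodule ℤ (L → ℂ)) : Set (L → ℂ)) τ := hτ
  have he0 : e ≠ 0 := by
    rw [← hdeg ψ₀ hψ₀]
    exact IsIrrCharacter.apply_one_ne_zero (hirr ψ₀ hψ₀)
  have horth : ∀ x ∈ S₀, ∀ y ∈ S₀, classInner x y = if x = y then 1 else 0 := by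
    intro x hx y hy
    by_cases h : x = y
    · rw [if_pos h, h]
      exact classInner_irr_self (hirr y hy)
    · rw [if_neg h]
      exact classInner_irr_of_ne (hirr x hx) (hirr y hy) h
  have hmemS : ∀ ξ ∈ S₀, ξ ∈ zspan (↑S₀ : Set (L → ℂ)) := fun ξ hξ => Submodule.subset_span hξ
  have hsubm : ∀ ξ ∈ S₀, ξ - ψ₀ ∈ zspanOnSub (↑S₀ : Set (L → ℂ)) {1}ᶜ := by
    intro ξ hξ
    refine mem_zspanOn_of (sub_mem_zspan (hmemS ξ hξ) (hmemS ψ₀ hψ₀)) ?_
    simp only [Pi.sub_apply, hdeg ξ hξ, hdeg ψ₀ hψ₀, sub_self]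
  refine ⟨⟨χ₀ - ψ₀, hsubm χ₀ hχ₀, sub_ne_zero.mpr hne⟩, _, exists_isometry_of_orthonormal horth η hv hη, ?_⟩
  intro α hα
  have hint : ∀ x ∈ S₀, ∃ n : ℤ, classInner α x = n := fun x hx => zspan_coeff_int horth hα.1 hx
  choose! n hn using hint
  have hexp : α = ∑ x ∈ S₀, n x • x := by
    conv_lhs => rw [zspan_expansion horth hα.1]
    refine Finset.sum_congr rfl fun x hx => ?_
    rw [hn x hx]
    funext g
    rw [zapply]
    simp
  have hsum0 : ∑ x ∈ S₀, n x = 0 := by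
    have h1 : α 1 = 0 := hα.2 1 (by simp)
    rw [hexp, Finset.sum_apply] at h1
    have h2 : ∀ x ∈ S₀, (n x • x) 1 = (n x : ℂ) * e := by
      intro x hx
      rw [zapply, hdeg x hx]
    rw [Finset.sum_congr rfl h2, ← Finset.sum_mul] at h1
    have h3 := (mul_eq_zero.mp h1).resolve_right he0
    exact_mod_cast h3
  have hexp2 : α = ∑ x ∈ S₀, n x • (x - ψ₀) := by
    have h1 : ∑ x ∈ S₀, n x • (x - ψ₀) = ∑ x ∈ S₀, n x • x - (∑ x ∈ S₀, n x) • ψ₀ := by
      rw [Finset.sum_smul, ← Finset.sum_sub_distrib]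
      refine Finset.sum_congr rfl fun x _ => ?_
      rw [smul_sub]
    rw [h1, hsum0, zero_smul, sub_zero]
    exact hexp
  have hval : τ α = ∑ x ∈ S₀, n x • (η x - η ψ₀) := by
    conv_lhs => rw [hexp2]
    rw [IsoLat.map_sum' hτE S₀ _ (fun x hx => Submodule.smul_mem _ _ (hsubm x hx))]
    refine Finset.sum_congr rfl fun x hx => ?_
    rw [IsoLat.map_zsmul hτE (hsubm x hx), hag x hx]
  rw [hval]
  have h1 : ∑ x ∈ S₀, n x • (η x - η ψ₀) = ∑ x ∈ S₀, n x • η x - (∑ x ∈ S₀, n x) • η ψ₀ := by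
    rw [Finset.sum_smul, ← Finset.sum_sub_distrib]
    refine Finset.sum_congr rfl fun x _ => ?_
    rw [smul_sub]
  rw [h1, hsum0, zero_smul, sub_zero]
  refine Finset.sum_congr rfl fun x hx => ?_
  rw [hn x hx]
  funext g
  rw [zapply]
  simp

/-- Two norm two virtual characters with inner product one share a constituent. -/
theorem exists_common_constituent {θ₁ θ₂ : G → ℂ} (h₁ : IsGeneralizedCharacter G θ₁) (h₂ : IsGeneralizedCharacter G θ₂)
    (hn₁ : classInner θ₁ θ₁ = 2) (hn₂ : classInner θ₂ θ₂ = 2) (h12 : classInner θ₁ θ₂ = 1) :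
    ∃ w b₁ b₂ : G → ℂ, IsPMIrr G w ∧ IsPMIrr G b₁ ∧ IsPMIrr G b₂ ∧ classInner w b₁ = 0 ∧ classInner w b₂ = 0 ∧
      classInner b₁ b₂ = 0 ∧ θ₁ = w + b₁ ∧ θ₂ = w + b₂ := by
  classical
  obtain ⟨a₁, b₁, ha₁, hb₁, hab₁, -, e₁⟩ := exists_pm_of_norm_two h₁ hn₁
  obtain ⟨a₂, b₂, ha₂, hb₂, hab₂, -, e₂⟩ := exists_pm_of_norm_two h₂ hn₂
  have hba₁ : classInner b₁ a₁ = 0 := classInner_comm_zero hab₁
  have hba₂ : classInner b₂ a₂ = 0 := classInner_comm_zero hab₂
  -- the case of equal first terms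
  have aux : ∀ a b c d : G → ℂ, IsPMIrr G a → IsPMIrr G b → IsPMIrr G d → classInner a b = 0 → classInner a d = 0 →
      classInner (a + b) (a + d) = 1 → ∃ w b₁ b₂ : G → ℂ, IsPMIrr G w ∧ IsPMIrr G b₁ ∧ IsPMIrr G b₂ ∧
        classInner w b₁ = 0 ∧ classInner w b₂ = 0 ∧ classInner b₁ b₂ = 0 ∧ a + b = w + b₁ ∧ a + d = w + b₂ := by
    intro a b c d ha hb hd hab had h
    refine ⟨a, b, d, ha, hb, hd, hab, had, ?_, rfl, rfl⟩
    rw [classInner_add_left, classInner_add_right, classInner_add_right, IsPMIrr.classInner_self ha, had,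
      classInner_comm_zero hab] at h
    simpa using h
  have hcases : ∀ x y : G → ℂ, IsPMIrr G x → IsPMIrr G y → x ≠ y → (classInner x y).re ≤ 0 := by
    intro x y hx hy hne
    rcases IsPMIrr.classInner_cases hx hy with h | ⟨h, -⟩ | ⟨-, h⟩
    · rw [h]; simp
    · exact absurd h hne
    · rw [h]; norm_num
  have hexp : classInner θ₁ θ₂ = classInner a₁ a₂ + classInner a₁ b₂ + (classInner b₁ a₂ + classInner b₁ b₂) := by
    rw [e₁, e₂, classInner_add_left, classInner_add_right, classInner_add_right]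
  by_cases c1 : a₁ = a₂
  · subst c1
    obtain ⟨w, x, y, h1, h2, h3, h4, h5, h6, h7, h8⟩ := aux a₁ b₁ a₁ b₂ ha₁ hb₁ hb₂ hab₁ hab₂ (by rw [← e₁, ← e₂]; exact h12)
    exact ⟨w, x, y, h1, h2, h3, h4, h5, h6, e₁.trans h7, e₂.trans h8⟩
  by_cases c2 : a₁ = b₂
  · subst c2
    have hc : classInner (a₁ + b₁) (a₁ + a₂) = 1 := by
      rw [add_comm a₁ a₂, ← e₁, ← e₂]
      exact h12
    obtain ⟨w, x, y, h1, h2, h3, h4, h5, h6, h7, h8⟩ := aux a₁ b₁ a₁ a₂ ha₁ hb₁ ha₂ hab₁ hba₂ hc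
    exact ⟨w, x, y, h1, h2, h3, h4, h5, h6, e₁.trans h7, (e₂.trans (add_comm _ _)).trans h8⟩
  by_cases c3 : b₁ = a₂
  · subst c3
    have hc : classInner (b₁ + a₁) (b₁ + b₂) = 1 := by
      rw [add_comm b₁ a₁, ← e₁, ← e₂]
      exact h12
    obtain ⟨w, x, y, h1, h2, h3, h4, h5, h6, h7, h8⟩ := aux b₁ a₁ b₁ b₂ hb₁ ha₁ hb₂ hba₁ hab₂ hc
    exact ⟨w, x, y, h1, h2, h3, h4, h5, h6, (e₁.trans (add_comm _ _)).trans h7, e₂.trans h8⟩
  by_cases c4 : b₁ = b₂
  · subst c4
    have hc : classInner (b₁ + a₁) (b₁ + a₂) = 1 := by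
      rw [add_comm b₁ a₁, add_comm b₁ a₂, ← e₁, ← e₂]
      exact h12
    obtain ⟨w, x, y, h1, h2, h3, h4, h5, h6, h7, h8⟩ := aux b₁ a₁ b₁ a₂ hb₁ ha₁ ha₂ hba₁ hba₂ hc
    exact ⟨w, x, y, h1, h2, h3, h4, h5, h6, (e₁.trans (add_comm _ _)).trans h7, (e₂.trans (add_comm _ _)).trans h8⟩
  exfalso
  have h1 := hcases a₁ a₂ ha₁ ha₂ c1
  have h2 := hcases a₁ b₂ ha₁ hb₂ c2
  have h3 := hcases b₁ a₂ hb₁ ha₂ c3
  have h4 := hcases b₁ b₂ hb₁ hb₂ c4
  have h5 : (classInner θ₁ θ₂).re = 1 := by rw [h12]; simp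
  rw [hexp] at h5
  simp only [Complex.add_re] at h5
  linarith

section Base

variable (τ : (L → ℂ) → (G → ℂ))

open scoped Classical in
theorem coherent_card_two {a b : L → ℂ} (hab : a ≠ b) (ha : IsIrrCharacter L a) (hb : IsIrrCharacter L b)
    (hdeg : a 1 = b 1)
    (hτ : IsLinearIsometryOn (zspanOn (↑({a, b} : Finset (L → ℂ))) {1}ᶜ) τ) :
    IsCoherent (↑({a, b} : Finset (L → ℂ)) : Set (L → ℂ)) {1}ᶜ τ := by
  have hτE : IsLinearIsometryOn ((zspanOnSub (↑({a, b} : Finset (L → ℂ))) {1}ᶜ : Submodule ℤ (L → ℂ)) : Set (L → ℂ)) τ := hτ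
  have hmem : a - b ∈ zspanOnSub (↑({a, b} : Finset (L → ℂ))) {1}ᶜ := by
    refine mem_zspanOn_of (sub_mem_zspan (mem_zspan_of_mem (by simp)) (mem_zspan_of_mem (by simp))) ?_
    simp [hdeg]
  have hn : classInner (τ (a - b)) (τ (a - b)) = 2 := by
    rw [IsoLat.inner hτE hmem hmem]
    simp only [classInner_sub_left, classInner_sub_right, classInner_irr_self ha, classInner_irr_self hb,
      classInner_irr_of_ne ha hb hab, classInner_irr_of_ne hb ha hab.symm]
    norm_num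
  obtain ⟨α, β, hα, hβ, hαβ, -, e⟩ := exists_pm_of_norm_two (IsoLat.virtual hτE hmem) hn
  let η : (L → ℂ) → (G → ℂ) := fun x => if x = a then α else -β
  have hηa : η a = α := if_pos rfl
  have hηb : η b = -β := if_neg hab.symm
  have hβα : classInner β α = 0 := classInner_comm_zero hαβ
  refine coherent_of_lift _ ?_ (b 1) ?_ b a (by simp) (by simp) hab η ?_ ?_ τ hτ ?_
  · intro ξ hξ
    rcases Finset.mem_insert.mp hξ with rfl | h
    · exact ha
    · rw [Finset.mem_singleton.mp h]; exact hb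
  · intro ξ hξ
    rcases Finset.mem_insert.mp hξ with rfl | h
    · exact hdeg
    · rw [Finset.mem_singleton.mp h]
  · intro ξ hξ
    rcases Finset.mem_insert.mp hξ with rfl | h
    · rw [hηa]; exact IsPMIrr.isGeneralizedCharacter hα
    · rw [Finset.mem_singleton.mp h, hηb]; exact IsGeneralizedCharacter.neg (IsPMIrr.isGeneralizedCharacter hβ)
  · intro x hx y hy
    rcases Finset.mem_insert.mp hx with rfl | h
    · rcases Finset.mem_insert.mp hy with rfl | h'
      · rw [hηa, if_pos rfl, IsPMIrr.classInner_self hα]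
      · rw [Finset.mem_singleton.mp h', hηa, hηb, if_neg hab, classInner_neg_right, hαβ, neg_zero]
    · rw [Finset.mem_singleton.mp h]
      rcases Finset.mem_insert.mp hy with rfl | h'
      · rw [hηa, hηb, if_neg hab.symm, classInner_neg_left, hβα, neg_zero]
      · rw [Finset.mem_singleton.mp h', hηb, if_pos rfl, classInner_neg_left, classInner_neg_right, neg_neg,
          IsPMIrr.classInner_self hβ]
  · intro χ hχ
    rcases Finset.mem_insert.mp hχ with rfl | h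
    · rw [e, hηa, hηb, sub_neg_eq_add]
    · rw [Finset.mem_singleton.mp h, sub_self, sub_self]
      exact IsoLat.map_zero hτE

open scoped Classical in
theorem coherent_card_three {a b c : L → ℂ} (hab : a ≠ b) (hac : a ≠ c) (hbc : b ≠ c) (ha : IsIrrCharacter L a)
    (hb : IsIrrCharacter L b) (hc : IsIrrCharacter L c) (hdeg : a 1 = c 1) (hdeg' : b 1 = c 1)
    (hτ : IsLinearIsometryOn (zspanOn (↑({a, b, c} : Finset (L → ℂ))) {1}ᶜ) τ) :
    IsCoherent (↑({a, b, c} : Finset (L → ℂ)) : Set (L → ℂ)) {1}ᶜ τ := by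
  have hτE : IsLinearIsometryOn ((zspanOnSub (↑({a, b, c} : Finset (L → ℂ))) {1}ᶜ : Submodule ℤ (L → ℂ)) : Set (L → ℂ)) τ := hτ
  have hmem₁ : a - c ∈ zspanOnSub (↑({a, b, c} : Finset (L → ℂ))) {1}ᶜ := by
    refine mem_zspanOn_of (sub_mem_zspan (mem_zspan_of_mem (by simp)) (mem_zspan_of_mem (by simp))) ?_
    simp [hdeg]
  have hmem₂ : b - c ∈ zspanOnSub (↑({a, b, c} : Finset (L → ℂ))) {1}ᶜ := by
    refine mem_zspanOn_of (sub_mem_zspan (mem_zspan_of_mem (by simp)) (mem_zspan_of_mem (by simp))) ?_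
    simp [hdeg']
  have hn₁ : classInner (τ (a - c)) (τ (a - c)) = 2 := by
    rw [IsoLat.inner hτE hmem₁ hmem₁]
    simp only [classInner_sub_left, classInner_sub_right, classInner_irr_self ha, classInner_irr_self hc,
      classInner_irr_of_ne ha hc hac, classInner_irr_of_ne hc ha hac.symm]
    norm_num
  have hn₂ : classInner (τ (b - c)) (τ (b - c)) = 2 := by
    rw [IsoLat.inner hτE hmem₂ hmem₂]
    simp only [classInner_sub_left, classInner_sub_right, classInner_irr_self hb, classInner_irr_self hc,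
      classInner_irr_of_ne hb hc hbc, classInner_irr_of_ne hc hb hbc.symm]
    norm_num
  have hn₃ : classInner (τ (a - c)) (τ (b - c)) = 1 := by
    rw [IsoLat.inner hτE hmem₁ hmem₂]
    simp only [classInner_sub_left, classInner_sub_right, classInner_irr_self hc,
      classInner_irr_of_ne ha hc hac, classInner_irr_of_ne hc hb hbc.symm, classInner_irr_of_ne ha hb hab]
    norm_num
  obtain ⟨w, x, y, hw, hx, hy, hwx, hwy, hxy, e₁, e₂⟩ := exists_common_constituent (IsoLat.virtual hτE hmem₁)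
    (IsoLat.virtual hτE hmem₂) hn₁ hn₂ hn₃
  let η : (L → ℂ) → (G → ℂ) := fun z => if z = a then x else if z = b then y else -w
  have hηa : η a = x := if_pos rfl
  have hηb : η b = y := by
    show (if b = a then x else if b = b then y else -w) = y
    rw [if_neg hab.symm, if_pos rfl]
  have hηc : η c = -w := by
    show (if c = a then x else if c = b then y else -w) = -w
    rw [if_neg hac.symm, if_neg hbc.symm]
  have hxw := classInner_comm_zero hwx
  have hyw := classInner_comm_zero hwy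
  have hyx := classInner_comm_zero hxy
  have hcases : ∀ z, z ∈ ({a, b, c} : Finset (L → ℂ)) → z = a ∨ z = b ∨ z = c := by
    intro z hz
    simpa using hz
  refine coherent_of_lift _ ?_ (c 1) ?_ c a (by simp) (by simp) hac η ?_ ?_ τ hτ ?_
  · intro ξ hξ
    rcases hcases ξ hξ with rfl | rfl | rfl <;> assumption
  · intro ξ hξ
    rcases hcases ξ hξ with rfl | rfl | rfl
    · exact hdeg
    · exact hdeg'
    · rfl
  · intro ξ hξ
    rcases hcases ξ hξ with rfl | rfl | rfl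
    · rw [hηa]; exact IsPMIrr.isGeneralizedCharacter hx
    · rw [hηb]; exact IsPMIrr.isGeneralizedCharacter hy
    · rw [hηc]; exact IsGeneralizedCharacter.neg (IsPMIrr.isGeneralizedCharacter hw)
  · intro p hp q hq
    rcases hcases p hp with rfl | rfl | rfl <;> rcases hcases q hq with rfl | rfl | rfl
    · rw [hηa, if_pos rfl, IsPMIrr.classInner_self hx]
    · rw [hηa, hηb, if_neg hab, hxy]
    · rw [hηa, hηc, if_neg hac, classInner_neg_right, hxw, neg_zero]
    · rw [hηa, hηb, if_neg hab.symm, hyx]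
    · rw [hηb, if_pos rfl, IsPMIrr.classInner_self hy]
    · rw [hηb, hηc, if_neg hbc, classInner_neg_right, hyw, neg_zero]
    · rw [hηa, hηc, if_neg hac.symm, classInner_neg_left, hwx, neg_zero]
    · rw [hηb, hηc, if_neg hbc.symm, classInner_neg_left, hwy, neg_zero]
    · rw [hηc, if_pos rfl, classInner_neg_left, classInner_neg_right, neg_neg, IsPMIrr.classInner_self hw]
  · intro χ hχ
    rcases hcases χ hχ with rfl | rfl | rfl
    · rw [e₁, hηa, hηc, sub_neg_eq_add, add_comm]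
    · rw [e₂, hηb, hηc, sub_neg_eq_add, add_comm]
    · rw [sub_self, sub_self]
      exact IsoLat.map_zero hτE

end Base

open scoped Classical in
/-- A set of at least two irreducible characters of the same degree is coherent. -/
theorem coherent_const_degree (τ : (L → ℂ) → (G → ℂ)) (d₀ : ℕ) (S₀ : Finset (L → ℂ))
    (hcard : 2 ≤ S₀.card) (hirr : ∀ ξ ∈ S₀, IsIrrCharacter L ξ) (hdeg : ∀ ξ ∈ S₀, ξ 1 = (d₀ : ℂ))
    (hτ : IsLinearIsometryOn (zspanOn (↑S₀ : Set (L → ℂ)) {1}ᶜ) τ)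
    (hτ1 : ∀ α ∈ zspanOn (↑S₀ : Set (L → ℂ)) {1}ᶜ, τ α 1 = 0) :
    IsCoherent (↑S₀ : Set (L → ℂ)) {1}ᶜ τ := by
  induction hn : S₀.card using Nat.strong_induction_on generalizing S₀ with
  | _ n ih =>
    rcases Nat.lt_or_ge n 4 with h4 | h4
    · have h23 : n = 2 ∨ n = 3 := by omega
      rcases h23 with rfl | rfl
      · obtain ⟨a, b, hab, rfl⟩ := Finset.card_eq_two.mp hn
        refine coherent_card_two τ hab (hirr a (by simp)) (hirr b (by simp)) ?_ hτ
        rw [hdeg a (by simp), hdeg b (by simp)]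
      · obtain ⟨a, b, c, hab, hac, hbc, rfl⟩ := Finset.card_eq_three.mp hn
        refine coherent_card_three τ hab hac hbc (hirr a (by simp)) (hirr b (by simp)) (hirr c (by simp)) ?_ ?_ hτ
        · rw [hdeg a (by simp), hdeg c (by simp)]
        · rw [hdeg b (by simp), hdeg c (by simp)]
    · obtain ⟨χ, hχ⟩ : S₀.Nonempty := Finset.card_pos.mp (by omega)
      have hcard1 : (S₀.erase χ).card = n - 1 := by
        rw [Finset.card_erase_of_mem hχ, hn]
      have hsub : (↑(S₀.erase χ) : Set (L → ℂ)) ⊆ ↑S₀ := Finset.coe_subset.mpr (Finset.erase_subset _ _)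
      have hcoh := ih (n - 1) (by omega) (S₀.erase χ) (by omega)
        (fun ξ hξ => hirr ξ (Finset.mem_of_mem_erase hξ)) (fun ξ hξ => hdeg ξ (Finset.mem_of_mem_erase hξ))
        (isLinearIsometryOn_mono (zspanOn_mono hsub) hτ) (fun α hα => hτ1 α (zspanOn_mono hsub hα)) hcard1
      have hins : insert χ (S₀.erase χ) = S₀ := Finset.insert_erase hχ
      obtain ⟨ψ, hψ⟩ : (S₀.erase χ).Nonempty := Finset.card_pos.mp (by omega)
      have hd0 : 0 < d₀ := by
        have h1 := IsIrrCharacter.apply_one_ne_zero (hirr χ hχ)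
        rw [hdeg χ hχ] at h1
        exact Nat.pos_of_ne_zero (fun h => h1 (by rw [h]; simp))
      have := feit_extend (S₀.erase χ) χ (fun ξ hξ => hirr ξ (Finset.mem_of_mem_erase hξ)) (hirr χ hχ)
        (Finset.notMem_erase χ S₀) (fun _ => d₀) (by
          intro ξ hξ
          rw [hins] at hξ
          exact hdeg ξ hξ) τ (by rw [hins]; exact hτ) (by rw [hins]; exact hτ1) hcoh ψ hψ (dvd_refl _) (by
          simp only [Finset.sum_const, smul_eq_mul, hcard1]
          have h3 : 3 ≤ n - 1 := by omega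
          have : 3 * d₀ ^ 2 ≤ (n - 1) * d₀ ^ 2 := Nat.mul_le_mul_right _ h3
          have h5 : 0 < d₀ ^ 2 := by positivity
          nlinarith)
      rwa [hins] at this

end Cfsg.Agent.Lib.OddChar
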