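import Cfsg.Agent.Lib.Char.CliffordBij
import Cfsg.Agent.Lib.Char.CliffordCorr
import Cfsg.Agent.Lib.H8Group.GlaubChar
import Cfsg.Agent.Lib.H8Group.GlaubCyclic

/-! # Inertia groups in the notation `θ (g h g⁻¹)`; the abelian inertia quotient. -/

set_option autoImplicit false

namespace Cfsg.Agent.Lib.OddChar

open Cfsg Module Cfsg.Agent.Lib.Char Cfsg.Agent.Lib.H8Group
open scoped ComplexConjugate

universe u

variable {G : Type u} [Group G] (H : Subgroup G) [hN : H.Normal]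

theorem conj_fun_eq (θ : H → ℂ) (g : G) :
    (fun h : H => θ ⟨g * h * g⁻¹, hN.conj_mem h h.2 g⟩) = Lib.Char.conjFun H g⁻¹ θ := by
  funext n
  simp only [Lib.Char.conjFun_apply]
  congr 2
  simp

theorem mem_inertia_iff' {θ : H → ℂ} {g : G} :
    g ∈ inertia H θ ↔ ∀ h : H, θ ⟨g * h * g⁻¹, hN.conj_mem h h.2 g⟩ = θ h := by
  have h1 : (∀ h : H, θ ⟨g * h * g⁻¹, hN.conj_mem h h.2 g⟩ = θ h) ↔
      (fun h : H => θ ⟨g * h * g⁻¹, hN.conj_mem h h.2 g⟩) = θ :=
    ⟨fun h => funext h, fun h n => congrFun h n⟩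
  rw [h1, conj_fun_eq, ← (inertia H θ).inv_mem_iff]
  rfl

theorem eq_inertia {T : Subgroup G} {θ : H → ℂ}
    (hT : ∀ g : G, g ∈ T ↔ ∀ h : H, θ ⟨g * h * g⁻¹, hN.conj_mem h h.2 g⟩ = θ h) :
    T = inertia H θ := by
  ext g
  rw [hT, mem_inertia_iff']

omit hN in
/-- Frobenius reciprocity from `H` to `T ≥ H`, with the restriction written through `H`. -/
theorem classInner_indFun_subgroupOf {T : Subgroup G} [Fintype T] [Fintype H] (hle : H ≤ T)
    (θ : H → ℂ) {ψ : T → ℂ} (hψ : IsClassFunction T ψ) :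
    classInner (indFun (H.subgroupOf T) (fun x => θ ⟨(x : T), Subgroup.mem_subgroupOf.mp x.2⟩)) ψ =
      classInner θ (resTo H hle ψ) := by
  classical
  letI : Fintype (H.subgroupOf T) := Fintype.ofFinite _
  rw [classInner_indFun_left (H.subgroupOf T) _ ψ hψ]
  exact classInner_comp_mulEquiv (Subgroup.subgroupOfEquivOfLe hle) θ (resTo H hle ψ)

variable [Fintype G] [Fintype H]

omit [Fintype G] [Fintype H] hN in
theorem comm_quotient_subgroupOf {T : Subgroup G} (hab : ∀ x ∈ T, ∀ y ∈ T, x * y * x⁻¹ * y⁻¹ ∈ H)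
    [(H.subgroupOf T).Normal] (a b : T ⧸ H.subgroupOf T) : a * b = b * a := by
  induction a using QuotientGroup.induction_on with | H x => ?_
  induction b using QuotientGroup.induction_on with | H y => ?_
  rw [← QuotientGroup.mk_mul, ← QuotientGroup.mk_mul, QuotientGroup.eq]
  rw [Subgroup.mem_subgroupOf]
  have hh := hab (y : G)⁻¹ (T.inv_mem y.2) (x : G)⁻¹ (T.inv_mem x.2)
  have e : (((x * y)⁻¹ * (y * x) : T) : G) = (y : G)⁻¹ * (x : G)⁻¹ * ((y : G)⁻¹)⁻¹ * ((x : G)⁻¹)⁻¹ := by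
    simp only [Subgroup.coe_mul, Subgroup.coe_inv]
    group
  rw [e]
  exact hh

section Main

variable {θ : H → ℂ} (hθ : IsIrrCharacter H θ) {T : Subgroup G} [Fintype T] (hTi : T ≤ inertia H θ)
  (hle : H ≤ T)

include hθ hTi

/-- Two characters of `T = I(θ)` over `θ` differ by a linear character when `T/H` is abelian;
in particular they agree on `H`. -/
theorem resTo_eq_of_over (hab : ∀ x ∈ T, ∀ y ∈ T, x * y * x⁻¹ * y⁻¹ ∈ H)
    {ψ₁ ψ₂ : T → ℂ} (h₁ : IsIrrCharacter T ψ₁)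
    (h₂ : IsIrrCharacter T ψ₂)
    (hc₁ : classInner (resTo H hle ψ₁) θ ≠ 0)
    (hc₂ : classInner (resTo H hle ψ₂) θ ≠ 0) :
    resTo H hle ψ₁ = resTo H hle ψ₂ := by
  classical
  let N' : Subgroup T := H.subgroupOf T
  haveI : N'.Normal := Subgroup.normal_subgroupOf
  letI : Fintype N' := Fintype.ofFinite _
  letI : Fintype (T ⧸ N') := Fintype.ofFinite _
  have hcomm : ∀ a b : T ⧸ N', a * b = b * a := by
    intro a b
    induction a using QuotientGroup.induction_on with | H x => ?_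
    induction b using QuotientGroup.induction_on with | H y => ?_
    rw [← QuotientGroup.mk_mul, ← QuotientGroup.mk_mul, QuotientGroup.eq]
    rw [Subgroup.mem_subgroupOf]
    have hh := hab (y : G)⁻¹ (T.inv_mem y.2) (x : G)⁻¹ (T.inv_mem x.2)
    have e : (((x * y)⁻¹ * (y * x) : T) : G) = (y : G)⁻¹ * (x : G)⁻¹ * ((y : G)⁻¹)⁻¹ * ((x : G)⁻¹)⁻¹ := by
      simp only [Subgroup.coe_mul, Subgroup.coe_inv]
      group
    rw [e]
    exact hh
  have hres₁ := resTo_eq_over H hθ hTi hle h₁ hc₁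
  have hres₂ := resTo_eq_over H hθ hTi hle h₂ hc₂
  -- the inner product on `N'`
  have hsum := sum_coset_eq_sum_twist N' hcomm ψ₁ ψ₂ 1
  have hne : ∑ n : N', ψ₁ ((n : T) * 1) * conj (ψ₂ ((n : T) * 1)) ≠ 0 := by
    have h3 : ∑ n : N', ψ₁ ((n : T) * 1) * conj (ψ₂ ((n : T) * 1)) =
        ∑ n : H, resTo H hle ψ₁ n * conj (resTo H hle ψ₂ n) := by
      refine Fintype.sum_equiv (Subgroup.subgroupOfEquivOfLe hle).toEquiv _ _ fun n => ?_
      simp only [mul_one]
      rfl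
    rw [h3, hres₁, hres₂]
    simp only [Pi.smul_apply, smul_eq_mul, map_mul]
    have h4 := classInner_irr_self hθ
    simp only [classInner] at h4
    have hH : (Nat.card H : ℂ) ≠ 0 := by exact_mod_cast Nat.card_pos.ne'
    have h5 : ∑ n : H, θ n * conj (θ n) = Nat.card H := by
      field_simp at h4
      linear_combination h4
    have h6 : ∑ n : H, classInner (resTo H hle ψ₁) θ * θ n *
        (conj (classInner (resTo H hle ψ₂) θ) * conj (θ n)) =
        classInner (resTo H hle ψ₁) θ * conj (classInner (resTo H hle ψ₂) θ) *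
          ∑ n : H, θ n * conj (θ n) := by
      rw [Finset.mul_sum]
      refine Finset.sum_congr rfl fun n _ => ?_
      ring
    rw [h6, h5]
    refine mul_ne_zero (mul_ne_zero hc₁ ?_) hH
    exact (map_ne_zero _).mpr hc₂
  rw [hsum] at hne
  have hne2 := right_ne_zero_of_mul hne
  obtain ⟨β, -, hβ⟩ := Finset.exists_ne_zero_of_sum_ne_zero hne2
  have hβ2 := right_ne_zero_of_mul hβ
  have hlin := (comm_iff_irr_degree_one (G := T ⧸ N')).mp hcomm β
  obtain ⟨lam, hlam⟩ := IsCharacter.exists_monoidHom (IsIrrCharacter.isCharacter β.2) hlin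
  let tw : T →* ℂˣ := lam.comp (QuotientGroup.mk' N')
  have hfun : (fun x : T => (β : T ⧸ N' → ℂ) (x : T ⧸ N') * ψ₁ x) = fun x => ((tw x : ℂˣ) : ℂ) * ψ₁ x := by
    funext x
    rw [hlam]
    rfl
  rw [hfun] at hβ2
  have hirr := isIrr_twist tw h₁
  have heq : (fun x => ((tw x : ℂˣ) : ℂ) * ψ₁ x) = ψ₂ := by
    by_contra hcon
    exact hβ2 (classInner_irr_of_ne hirr h₂ hcon)
  funext n
  have h7 := congrFun heq ⟨n, hle n.2⟩
  have h8 : tw ⟨n, hle n.2⟩ = 1 := by
    have : ((⟨n, hle n.2⟩ : T) : T ⧸ N') = 1 := by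
      rw [QuotientGroup.eq_one_iff]
      rw [Subgroup.mem_subgroupOf]
      exact n.2
    change lam ((⟨n, hle n.2⟩ : T) : T ⧸ N') = 1
    rw [this, map_one]
  simp only [h8, Units.val_one, one_mul] at h7
  exact h7

/-- The decomposition of `θ^G` when `T/H` is abelian. -/
theorem exists_decomp_of_abelian
    (hab : ∀ x ∈ T, ∀ y ∈ T, x * y * x⁻¹ * y⁻¹ ∈ H) :
    ∃ (e : ℕ) (Over : Finset (T → ℂ)), 0 < e ∧
      (∀ ψ ∈ Over, IsIrrCharacter T ψ ∧ classInner (resTo H hle ψ) θ ≠ 0 ∧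
        resTo H hle ψ = (e : ℂ) • θ) ∧
      (∀ ψ, IsIrrCharacter T ψ →
        classInner (resTo H hle ψ) θ ≠ 0 → ψ ∈ Over) ∧
      e ^ 2 * Over.card * Nat.card H = Nat.card T ∧
      indFun H θ = (e : ℂ) • ∑ ψ ∈ Over, indFun T ψ ∧
      (∀ ψ ∈ Over, indFun T ψ 1 = (T.index : ℂ) * e * θ 1) := by
  classical
  let N' : Subgroup T := H.subgroupOf T
  haveI : N'.Normal := Subgroup.normal_subgroupOf
  letI : Fintype N' := Fintype.ofFinite _
  let θ' : N' → ℂ := fun x => θ ⟨(x : T), Subgroup.mem_subgroupOf.mp x.2⟩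
  have hθ' : IsIrrCharacter N' θ' :=
    isIrrCharacter_comp_mulEquiv (Subgroup.subgroupOfEquivOfLe hle) hθ
  -- a character over `θ`
  obtain ⟨ψ₀, hψ₀, hover₀⟩ : ∃ ψ₀ : T → ℂ, IsIrrCharacter T ψ₀ ∧ classInner (resTo H hle ψ₀) θ ≠ 0 := by
    obtain ⟨ψ₀, hψ₀, h⟩ := exists_over N' hθ'
    refine ⟨ψ₀, hψ₀, ?_⟩
    have h2 := classInner_comp_mulEquiv (Subgroup.subgroupOfEquivOfLe hle) (resTo H hle ψ₀) θ
    rw [← h2]
    exact h
  obtain ⟨e, he⟩ := IsCharacter.classInner_irr_eq_nat (isCharacter_resTo H hle (IsIrrCharacter.isCharacter hψ₀)) hθ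
  have he0 : 0 < e := by
    rcases Nat.eq_zero_or_pos e with h | h
    · exfalso
      apply hover₀
      rw [he, h]
      simp
    · exact h
  have hres₀ : resTo H hle ψ₀ = (e : ℂ) • θ := by
    have := resTo_eq_over H hθ hTi hle hψ₀ hover₀
    rwa [he] at this
  let Over : Finset (T → ℂ) := (Finset.univ.filter fun ψ : IrrCharacter T =>
    classInner (resTo H hle (ψ : T → ℂ)) θ ≠ 0).image Subtype.val
  have hOver : ∀ ψ, ψ ∈ Over ↔ IsIrrCharacter T ψ ∧ classInner (resTo H hle ψ) θ ≠ 0 := by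
    intro ψ
    simp only [Over, Finset.mem_image, Finset.mem_filter, Finset.mem_univ, true_and]
    constructor
    · rintro ⟨a, ha, rfl⟩
      exact ⟨a.2, ha⟩
    · rintro ⟨h1, h2⟩
      exact ⟨⟨ψ, h1⟩, h2, rfl⟩
  have hres : ∀ ψ ∈ Over, IsIrrCharacter T ψ ∧ classInner (resTo H hle ψ) θ ≠ 0 ∧
      resTo H hle ψ = (e : ℂ) • θ := by
    intro ψ hψ
    obtain ⟨h1, h2⟩ := (hOver ψ).mp hψ
    exact ⟨h1, h2, (resTo_eq_of_over H hθ hTi hle hab h1 hψ₀ h2 hover₀).trans hres₀⟩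
  have hθ1 : θ 1 ≠ 0 := IsIrrCharacter.apply_one_ne_zero hθ
  have he0' : (e : ℂ) ≠ 0 := by exact_mod_cast he0.ne'
  -- the degree of a character over `θ`
  have hdeg : ∀ ψ ∈ Over, ψ 1 = (e : ℂ) * θ 1 := by
    intro ψ hψ
    have h := congrFun (hres ψ hψ).2.2 1
    simp only [Pi.smul_apply, smul_eq_mul] at h
    exact h
  -- the inner products
  have hinner : ∀ ψ : IrrCharacter T, classInner (indFun N' θ') (ψ : T → ℂ) =
      if (ψ : T → ℂ) ∈ Over then (e : ℂ) else 0 := by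
    intro ψ
    have hcl := IsCharacter.isClassFunction (IsIrrCharacter.isCharacter ψ.2)
    have h0 := classInner_indFun_subgroupOf H hle θ hcl
    change classInner (indFun N' θ') (ψ : T → ℂ) = _ at h0
    rw [h0]
    split_ifs with h
    · rw [(hres _ h).2.2, classInner_conj_symm, classInner_smul_left, classInner_irr_self hθ]
      simp
    · rw [classInner_conj_symm]
      have : classInner (resTo H hle (ψ : T → ℂ)) θ = 0 := by
        by_contra hc
        exact h ((hOver _).mpr ⟨ψ.2, hc⟩)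
      rw [this, map_zero]
  have hΦ : indFun N' θ' = (e : ℂ) • ∑ ψ ∈ Over, ψ := by
    rw [classFunction_eq_sum (indFun N' θ') (isClassFunction_indFun N' θ')]
    simp only [hinner]
    have h2 : ∀ ψ : IrrCharacter T, (if (ψ : T → ℂ) ∈ Over then (e : ℂ) else 0) • (ψ : T → ℂ) =
        (e : ℂ) • (if (ψ : T → ℂ) ∈ Over then (ψ : T → ℂ) else 0) := by
      intro ψ
      split_ifs <;> simp
    simp only [h2]
    rw [← Finset.smul_sum]
    congr 1
    rw [Finset.sum_image (fun a _ b _ h => Subtype.ext h), Finset.sum_filter]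
    refine Finset.sum_congr rfl fun ψ _ => ?_
    by_cases h : classInner (resTo H hle (ψ : T → ℂ)) θ ≠ 0
    · rw [if_pos h, if_pos ((hOver _).mpr ⟨ψ.2, h⟩)]
    · rw [if_neg h, if_neg (fun h' => h ((hOver _).mp h').2)]
  refine ⟨e, Over, he0, hres, fun ψ h1 h2 => (hOver ψ).mpr ⟨h1, h2⟩, ?_, ?_, ?_⟩
  · -- the numerical relation
    have h1 := congrFun hΦ 1
    rw [indFun_one] at h1
    simp only [Pi.smul_apply, Finset.sum_apply, smul_eq_mul] at h1
    rw [Finset.sum_congr rfl hdeg, Finset.sum_const, nsmul_eq_mul] at h1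
    have h2 : θ' 1 = θ 1 := rfl
    rw [h2] at h1
    have h3 : (N'.index : ℂ) = (e : ℂ) ^ 2 * (Over.card : ℂ) := by
      apply mul_right_cancel₀ hθ1
      rw [h1]
      ring
    have h4 : N'.index = e ^ 2 * Over.card := by exact_mod_cast h3
    rw [← h4]
    have h5 : Nat.card N' = Nat.card H :=
      Nat.card_congr (Subgroup.subgroupOfEquivOfLe hle).toEquiv
    rw [← h5, mul_comm]
    exact Subgroup.card_mul_index N'
  · -- transitivity
    rw [← indFun_indFun H T hle θ]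
    change indFun T (indFun N' θ') = _
    rw [hΦ, indFun_smul, indFun_sum]
  · intro ψ hψ
    rw [indFun_one, hdeg ψ hψ]
    ring

end Main

end Cfsg.Agent.Lib.OddChar
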