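import Cfsg.Agent.Lib.OddChar.ConstDeg
import Cfsg.Agent.Lib.OddChar.PowSub
import Cfsg.Agent.S1492
import Cfsg.Agent.Lib.OddLocal.Sup

/-! # Coherence for Frobenius kernels, real characters allowed. -/

set_option autoImplicit false

namespace Cfsg.Agent.Lib.OddChar

open Cfsg Cfsg.Agent.Lib.Char
open scoped commutatorElement

private theorem degree_bound_aux {t e m cC cD c r cK : ℕ} (ht : t ^ 2 * cC * cD ≤ cK ^ 2)
    (hcK : cK = c * cC) (hcC : cC = r * cD) (hC : 0 < cC) (hD : 0 < cD)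
    (hlt : 4 * (c * e) ^ 2 * r < m ^ 2) : 2 * e * t < m := by
  subst hcK
  have h1 : t ^ 2 * cC * cD ≤ (c ^ 2 * r) * cC * cD := by
    calc t ^ 2 * cC * cD ≤ (c * cC) ^ 2 := ht
      _ = c ^ 2 * cC * cC := by ring
      _ = c ^ 2 * cC * (r * cD) := by rw [← hcC]
      _ = (c ^ 2 * r) * cC * cD := by ring
  have h2 : t ^ 2 ≤ c ^ 2 * r :=
    Nat.le_of_mul_le_mul_right (Nat.le_of_mul_le_mul_right h1 hD) hC
  have h3 : (2 * e * t) ^ 2 < m ^ 2 := by
    calc (2 * e * t) ^ 2 = 4 * e ^ 2 * t ^ 2 := by ring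
      _ ≤ 4 * e ^ 2 * (c ^ 2 * r) := Nat.mul_le_mul_left _ h2
      _ = 4 * (c * e) ^ 2 * r := by ring
      _ < m ^ 2 := hlt
  exact lt_of_pow_lt_pow_left₀ 2 (Nat.zero_le _) h3

variable {L G : Type*} [Group L] [Fintype L] [Group G] [Fintype G]

/-- The version of the descent S1519 for irreducible induced characters, without a coherence system. -/
theorem coh_descent_irr (K : Subgroup L) [hK : K.Normal] (hsolv : Group.IsSolvable K)
    (hfpf : ∀ x : L, x ∉ K → ∀ k ∈ K, x * k = k * x → k = 1) (τ : (L → ℂ) → (G → ℂ))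
    (hτ : IsLinearIsometryOn (zspanOn (inducedIrrAbove K ⊥) {1}ᶜ) τ)
    (hτ1 : ∀ α ∈ zspanOn (inducedIrrAbove K ⊥) {1}ᶜ, τ α 1 = 0)
    (A B C D : Subgroup L) [A.Normal] [B.Normal] [C.Normal] [D.Normal] (hAK : A < K) (hBA : B ≤ A)
    (hBD : B ≤ D) (hDC : D ≤ C) (hCK : C ≤ K) (hcent : ∀ x ∈ D, ∀ y ∈ C, x * y * x⁻¹ * y⁻¹ ∈ B)
    (hA : IsCoherent (inducedIrrAbove K A) {1}ᶜ τ)
    (hlt : 4 * C.index ^ 2 * D.relIndex C < (A.relIndex K - 1) ^ 2) :
    IsCoherent (inducedIrrAbove K B) {1}ᶜ τ := by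
  classical
  haveI : Fintype K := Fintype.ofFinite _
  haveI := hsolv
  have hsubS : ∀ X : Subgroup L, inducedIrrAbove K X ⊆ inducedIrrAbove K ⊥ :=
    fun X => inducedIrrAbove_mono K bot_le
  have hirrS : ∀ φ ∈ inducedIrrAbove K ⊥, IsIrrCharacter L φ := fun φ hφ => frob_irr K hfpf hφ
  have hdeg_ex : ∀ φ ∈ inducedIrrAbove K ⊥, ∃ n : ℕ, φ 1 = n := fun φ hφ =>
    IsCharacter.apply_one (IsIrrCharacter.isCharacter (hirrS φ hφ))
  choose! d hd using hdeg_ex
  let T₀ : Finset (L → ℂ) := (inducedIrrAbove_finite K A).toFinset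
  have hT₀ : ∀ φ, φ ∈ T₀ ↔ φ ∈ inducedIrrAbove K A := fun φ => Set.Finite.mem_toFinset _
  have hT₀c : (↑T₀ : Set (L → ℂ)) = inducedIrrAbove K A := Set.Finite.coe_toFinset _
  have hAS : ∀ φ ∈ T₀, φ ∈ inducedIrrAbove K ⊥ := fun φ hφ => hsubS A ((hT₀ φ).mp hφ)
  have hsum := sum_induced_above K A T₀ hT₀
    (fun φ hφ φ' hφ' h => classInner_irr_of_ne (hirrS φ (hAS φ hφ)) (hirrS φ' (hAS φ' hφ')) h)
    (fun φ hφ => by rw [classInner_irr_self (hirrS φ (hAS φ hφ))]; exact one_ne_zero)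
  have hAindex : 1 < A.relIndex K := by
    have hne : A.subgroupOf K ≠ ⊤ := by
      intro h
      exact absurd (Subgroup.subgroupOf_eq_top.mp h) (not_le_of_gt hAK)
    have h2 : (A.subgroupOf K).index ≠ 1 := fun h => hne (Subgroup.index_eq_one.mp h)
    have h3 : (A.subgroupOf K).index ≠ 0 := Subgroup.index_ne_zero_of_finite
    show 1 < (A.subgroupOf K).index
    omega
  have hDT₀ : ∑ φ ∈ T₀, d φ ^ 2 = K.index * (A.relIndex K - 1) := by
    have h1 : ((∑ φ ∈ T₀, d φ ^ 2 : ℕ) : ℂ) = ((K.index * (A.relIndex K - 1) : ℕ) : ℂ) := by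
      rw [Nat.cast_mul, Nat.cast_sub hAindex.le, Nat.cast_one, ← hsum]
      push_cast
      refine Finset.sum_congr rfl fun φ hφ => ?_
      rw [classInner_irr_self (hirrS φ (hAS φ hφ)), hd φ (hAS φ hφ)]
      simp
    exact_mod_cast h1
  have hKindex : 0 < K.index := Nat.pos_of_ne_zero Subgroup.index_ne_zero_of_finite
  have hAne : A.subgroupOf K ≠ ⊤ := by
    intro h
    exact absurd (Subgroup.subgroupOf_eq_top.mp h) (not_le_of_gt hAK)
  obtain ⟨lam, hlam, hlamA⟩ := exists_linear_trivial_on (A.subgroupOf K) hAne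
  let θ₁ : K → ℂ := fun k => (lam k : ℂ)
  have hθ₁irr : IsIrrCharacter K θ₁ := isIrrCharacter_of_monoidHom lam
  have hθ₁ne : θ₁ ≠ fun _ => 1 := by
    intro h
    apply hlam
    ext k
    have := congrFun h k
    simpa [θ₁] using this
  let χ₁ : L → ℂ := indFun K θ₁
  have hχ₁A : χ₁ ∈ inducedIrrAbove K A := by
    refine ⟨θ₁, hθ₁irr, hθ₁ne, fun a ha => ?_, rfl⟩
    simp only [θ₁]
    rw [hlamA a (Subgroup.mem_subgroupOf.mpr ha)]
    simp
  have hχ₁1 : χ₁ 1 = (K.index : ℂ) := by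
    simp only [χ₁, indFun_one, θ₁]
    simp
  have hdχ₁ : d χ₁ = K.index := by
    have h1 := hd χ₁ (hsubS A hχ₁A)
    rw [hχ₁1] at h1
    exact_mod_cast h1.symm
  have hATB : (↑T₀ : Set (L → ℂ)) ⊆ inducedIrrAbove K B := by
    rw [hT₀c]
    exact inducedIrrAbove_mono K hBA
  -- the degree bound
  have hbd : ∀ χ ∈ inducedIrrAbove K B, 2 * d χ₁ * d χ < K.index * (A.relIndex K - 1) ∧ d χ₁ ∣ d χ := by
    intro χ hχ
    have hχS := hsubS B hχ
    obtain ⟨θ, hθ, -, hθB, rfl⟩ := hχ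
    obtain ⟨t, ht0, ht⟩ := IsIrrCharacter.apply_one hθ
    have hχ1 : indFun K θ 1 = ((K.index * t : ℕ) : ℂ) := by
      rw [indFun_one, ht]
      push_cast
      ring
    have hdχ : d (indFun K θ) = K.index * t := by
      have h1 := hd _ hχS
      rw [hχ1] at h1
      exact_mod_cast h1.symm
    have hbound := Cfsg.Agent.S1492.result (G := K) θ hθ (B.subgroupOf K) (C.subgroupOf K) (D.subgroupOf K)
      (fun x hx => Subgroup.mem_subgroupOf.mpr (hBD (Subgroup.mem_subgroupOf.mp hx)))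
      (fun x hx => Subgroup.mem_subgroupOf.mpr (hDC (Subgroup.mem_subgroupOf.mp hx)))
      (fun c _ b hb => Subgroup.mem_subgroupOf.mpr (by
        have := (inferInstance : B.Normal).conj_mem _ (Subgroup.mem_subgroupOf.mp hb) (c : L)
        simpa using this))
      (fun x hx y hy => Subgroup.mem_subgroupOf.mpr (by
        have := hcent _ (Subgroup.mem_subgroupOf.mp hx) _ (Subgroup.mem_subgroupOf.mp hy)
        simpa using this))
      (fun b hb => hθB b (Subgroup.mem_subgroupOf.mp hb))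
    rw [Cfsg.Agent.Lib.OddLocal.card_subgroupOf_of_le hCK, Cfsg.Agent.Lib.OddLocal.card_subgroupOf_of_le (hDC.trans hCK),
      ht, Complex.norm_natCast] at hbound
    have hbound' : t ^ 2 * Nat.card C * Nat.card D ≤ Nat.card K ^ 2 := by
      exact_mod_cast hbound
    have hcK : Nat.card K = C.relIndex K * Nat.card C := by
      have h1 := (C.subgroupOf K).card_mul_index
      rw [Cfsg.Agent.Lib.OddLocal.card_subgroupOf_of_le hCK] at h1
      rw [← h1, mul_comm]
      rfl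
    have hcC : Nat.card C = D.relIndex C * Nat.card D := by
      have h1 := (D.subgroupOf C).card_mul_index
      rw [Cfsg.Agent.Lib.OddLocal.card_subgroupOf_of_le hDC] at h1
      rw [← h1, mul_comm]
      rfl
    have hCidx : C.index = C.relIndex K * K.index := (Subgroup.relIndex_mul_index hCK).symm
    rw [hCidx] at hlt
    have hbd2 := degree_bound_aux (e := K.index) (m := A.relIndex K - 1) hbound' hcK hcC Nat.card_pos Nat.card_pos hlt
    rw [hdχ₁, hdχ]
    refine ⟨?_, Nat.dvd_mul_right _ _⟩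
    calc 2 * K.index * (K.index * t) = K.index * (2 * K.index * t) := by ring
      _ < K.index * (A.relIndex K - 1) := Nat.mul_lt_mul_of_pos_left hbd2 hKindex
  -- the induction
  have hstep : ∀ X : Finset (L → ℂ), (∀ χ ∈ X, χ ∈ inducedIrrAbove K B ∧ χ ∉ T₀) →
      IsCoherent (↑(T₀ ∪ X) : Set (L → ℂ)) {1}ᶜ τ := by
    intro X
    induction X using Finset.induction_on with
    | empty =>
      intro _
      rw [Finset.union_empty, hT₀c]
      exact hA
    | insert χ X hχX ih =>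
      intro hX
      have ih' := ih fun ξ hξ => hX ξ (Finset.mem_insert_of_mem hξ)
      obtain ⟨hχB, hχT⟩ := hX χ (Finset.mem_insert_self _ _)
      have hXB : ∀ ξ ∈ X, ξ ∈ inducedIrrAbove K B := fun ξ hξ => (hX ξ (Finset.mem_insert_of_mem hξ)).1
      have hS₀S : ∀ ξ ∈ T₀ ∪ X, ξ ∈ inducedIrrAbove K ⊥ := by
        intro ξ hξ
        rcases Finset.mem_union.mp hξ with h | h
        · exact hAS ξ h
        · exact hsubS B (hXB ξ h)
      have hχS := hsubS B hχB
      have hinsS : ∀ ξ ∈ insert χ (T₀ ∪ X), ξ ∈ inducedIrrAbove K ⊥ := by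
        intro ξ hξ
        rcases Finset.mem_insert.mp hξ with rfl | h
        · exact hχS
        · exact hS₀S ξ h
      have hinsset : (↑(insert χ (T₀ ∪ X)) : Set (L → ℂ)) ⊆ inducedIrrAbove K ⊥ := fun ξ hξ => hinsS ξ hξ
      have hne : χ ∉ T₀ ∪ X := by
        intro h
        rcases Finset.mem_union.mp h with h | h
        · exact hχT h
        · exact hχX h
      rw [Finset.union_insert]
      obtain ⟨hb1, hb2⟩ := hbd χ hχB
      refine feit_extend (T₀ ∪ X) χ (fun ξ hξ => hirrS ξ (hS₀S ξ hξ)) (hirrS χ hχS) hne d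
        (fun ξ hξ => hd ξ (hinsS ξ hξ)) τ (isLinearIsometryOn_mono (zspanOn_mono hinsset) hτ)
        (fun α hα => hτ1 α (zspanOn_mono hinsset hα)) ih' χ₁
        (Finset.mem_union_left _ ((hT₀ _).mpr hχ₁A)) hb2 ?_
      refine lt_of_lt_of_le hb1 ?_
      rw [← hDT₀]
      exact Finset.sum_le_sum_of_subset_of_nonneg Finset.subset_union_left fun _ _ _ => Nat.zero_le _
  -- conclusion
  let U : Finset (L → ℂ) := (inducedIrrAbove_finite K B).toFinset.filter (fun χ => χ ∉ T₀)
  have hU := hstep U (fun χ hχ => ⟨(Set.Finite.mem_toFinset _).mp (Finset.mem_filter.mp hχ).1,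
    (Finset.mem_filter.mp hχ).2⟩)
  have heq : (↑(T₀ ∪ U) : Set (L → ℂ)) = inducedIrrAbove K B := by
    ext χ
    simp only [Finset.coe_union, Set.mem_union, Finset.mem_coe]
    constructor
    · rintro (h | h)
      · exact hATB h
      · exact (Set.Finite.mem_toFinset _).mp (Finset.mem_filter.mp h).1
    · intro h
      by_cases h1 : χ ∈ T₀
      · exact Or.inl h1
      · exact Or.inr (Finset.mem_filter.mpr ⟨(Set.Finite.mem_toFinset _).mpr h, h1⟩)
  rwa [heq] at hU

private def chainY (A K : Subgroup L) : ℕ → Subgroup L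
  | 0 => A
  | i + 1 => ⁅chainY A K i, K⁆

private theorem chain_arith (u e : ℕ) (hu : 4 * e ^ 2 + 1 < u) :
    4 * e ^ 2 * u < (u - 1) ^ 2 := by
  obtain ⟨w, rfl⟩ : ∃ w, u = w + 1 := ⟨u - 1, by omega⟩
  simp only [Nat.add_sub_cancel]
  have h3 : 4 * e ^ 2 + 1 ≤ w := by omega
  rw [sq w]
  nlinarith

/-- From a large coherent level to the whole set. -/
theorem coh_chain_irr (K : Subgroup L) [hK : K.Normal] (hnil : Group.IsNilpotent K)
    (hfpf : ∀ x : L, x ∉ K → ∀ k ∈ K, x * k = k * x → k = 1) (τ : (L → ℂ) → (G → ℂ))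
    (hτ : IsLinearIsometryOn (zspanOn (inducedIrrAbove K ⊥) {1}ᶜ) τ)
    (hτ1 : ∀ α ∈ zspanOn (inducedIrrAbove K ⊥) {1}ᶜ, τ α 1 = 0)
    (A : Subgroup L) [A.Normal] (hAK : A ≤ K) (hA : IsCoherent (inducedIrrAbove K A) {1}ᶜ τ)
    (hbig : 4 * K.index ^ 2 + 1 < A.relIndex K) : IsCoherent (inducedIrrAbove K ⊥) {1}ᶜ τ := by
  classical
  haveI := hnil
  have hsolv : Group.IsSolvable K := inferInstance
  have hAlt : A < K := by
    refine lt_of_le_of_ne hAK ?_
    intro h
    have h2 : A.relIndex K = 1 := Subgroup.relIndex_eq_one.mpr (by rw [h])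
    omega
  obtain ⟨n, hn⟩ := (Subgroup.isNilpotent_iff_lowerCentralSeries K).mp hnil
  have hnorm : ∀ i, (chainY A K i).Normal := by
    intro i
    induction i with
    | zero => exact (inferInstance : A.Normal)
    | succ i ih =>
      haveI := ih
      show (⁅chainY A K i, K⁆).Normal
      infer_instance
  have hdec : ∀ i, chainY A K (i + 1) ≤ chainY A K i := by
    intro i
    haveI := hnorm i
    exact Subgroup.commutator_le_left _ _
  have hleA : ∀ i, chainY A K i ≤ A := by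
    intro i
    induction i with
    | zero => exact le_rfl
    | succ i ih => exact (hdec i).trans ih
  have hcoh' : ∀ i, IsCoherent (inducedIrrAbove K (chainY A K i)) {1}ᶜ τ := by
    intro i
    induction i with
    | zero => exact hA
    | succ i ih =>
      haveI := hnorm i
      haveI := hnorm (i + 1)
      refine coh_descent_irr K hsolv hfpf τ hτ hτ1 (chainY A K i) (chainY A K (i + 1)) K (chainY A K i)
        (lt_of_le_of_lt (hleA i) hAlt) (hdec i) (hdec i) ((hleA i).trans hAK) le_rfl ?_ ih ?_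
      · intro x hx y hy
        exact Subgroup.commutator_mem_commutator hx hy
      · have h3 : (chainY A K i).relIndex K = (chainY A K i).relIndex A * A.relIndex K :=
          (Subgroup.relIndex_mul_relIndex _ _ _ (hleA i) hAK).symm
        have h4 : 1 ≤ (chainY A K i).relIndex A := Nat.pos_of_ne_zero (Subgroup.index_ne_zero_of_finite)
        have h5 : 4 * K.index ^ 2 + 1 < (chainY A K i).relIndex K := by
          rw [h3]
          exact lt_of_lt_of_le hbig (Nat.le_mul_of_pos_left _ h4)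
        exact chain_arith _ _ h5
  have hseries : ∀ i, chainY A K i ≤ K.lowerCentralSeries i := by
    intro i
    induction i with
    | zero => exact hAK
    | succ i ih => exact Subgroup.commutator_mono ih le_rfl
  have hend : chainY A K n = ⊥ := by
    rw [eq_bot_iff, ← hn]
    exact hseries n
  have := hcoh' n
  rwa [hend] at this

/-- An irreducible character trivial on a subgroup with abelian quotient is linear. -/
theorem degree_one_of_trivial {K₀ : Type*} [Group K₀] [Fintype K₀] (N : Subgroup K₀) [N.Normal]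
    (hcomm : ∀ a b : K₀, a * b * a⁻¹ * b⁻¹ ∈ N) {θ : K₀ → ℂ} (hθ : IsIrrCharacter K₀ θ)
    (htriv : ∀ n ∈ N, θ n = θ 1) : θ 1 = 1 := by
  classical
  haveI : Fintype N := Fintype.ofFinite _
  haveI : Fintype (K₀ ⧸ N) := Fintype.ofFinite _
  have hle : N ≤ charKer θ := fun n hn => (mem_charKer (IsIrrCharacter.isCharacter hθ)).mpr (htriv n hn)
  obtain ⟨β, hβ, rfl⟩ := exists_deflate N hθ hle
  have hQ : ∀ a b : K₀ ⧸ N, a * b = b * a := by
    intro a b
    induction a using QuotientGroup.induction_on with | H x => ?_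
    induction b using QuotientGroup.induction_on with | H y => ?_
    rw [← QuotientGroup.mk_mul, ← QuotientGroup.mk_mul, QuotientGroup.eq]
    have h1 := hcomm y⁻¹ x⁻¹
    have e : (x * y)⁻¹ * (y * x) = y⁻¹ * x⁻¹ * y⁻¹⁻¹ * x⁻¹⁻¹ := by group
    rw [e]
    exact h1
  have h2 := comm_iff_irr_degree_one.mp hQ ⟨β, hβ⟩
  exact h2

/-- The base of the descent: the linear level is coherent. -/
theorem coh_base_irr (K : Subgroup L) [hK : K.Normal] (hsolv : Group.IsSolvable K)
    (hfpf : ∀ x : L, x ∉ K → ∀ k ∈ K, x * k = k * x → k = 1) (τ : (L → ℂ) → (G → ℂ))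
    (hτ : IsLinearIsometryOn (zspanOn (inducedIrrAbove K ⊥) {1}ᶜ) τ)
    (hτ1 : ∀ α ∈ zspanOn (inducedIrrAbove K ⊥) {1}ᶜ, τ α 1 = 0)
    (H₁ : Subgroup L) [H₁.Normal] (hH₁ : H₁ < K) (hcomm : ∀ a ∈ K, ∀ b ∈ K, a * b * a⁻¹ * b⁻¹ ∈ H₁)
    (hne : H₁.relIndex K ≠ K.index + 1) : IsCoherent (inducedIrrAbove K H₁) {1}ᶜ τ := by
  classical
  haveI : Fintype K := Fintype.ofFinite _
  haveI := hsolv
  have hsubS : ∀ X : Subgroup L, inducedIrrAbove K X ⊆ inducedIrrAbove K ⊥ :=
    fun X => inducedIrrAbove_mono K bot_le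
  have hirrS : ∀ φ ∈ inducedIrrAbove K ⊥, IsIrrCharacter L φ := fun φ hφ => frob_irr K hfpf hφ
  let T₀ : Finset (L → ℂ) := (inducedIrrAbove_finite K H₁).toFinset
  have hT₀ : ∀ φ, φ ∈ T₀ ↔ φ ∈ inducedIrrAbove K H₁ := fun φ => Set.Finite.mem_toFinset _
  have hT₀c : (↑T₀ : Set (L → ℂ)) = inducedIrrAbove K H₁ := Set.Finite.coe_toFinset _
  have hAS : ∀ φ ∈ T₀, φ ∈ inducedIrrAbove K ⊥ := fun φ hφ => hsubS H₁ ((hT₀ φ).mp hφ)
  have hdeg : ∀ φ ∈ T₀, φ 1 = ((K.index : ℕ) : ℂ) := by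
    intro φ hφ
    obtain ⟨θ, hθ, -, htriv, rfl⟩ := (hT₀ φ).mp hφ
    rw [indFun_one, degree_one_of_trivial (H₁.subgroupOf K) (fun a b => Subgroup.mem_subgroupOf.mpr
      (by simpa using hcomm a a.2 b b.2)) hθ (fun n hn => htriv n (Subgroup.mem_subgroupOf.mp hn)), mul_one]
  have hsum := sum_induced_above K H₁ T₀ hT₀
    (fun φ hφ φ' hφ' h => classInner_irr_of_ne (hirrS φ (hAS φ hφ)) (hirrS φ' (hAS φ' hφ')) h)
    (fun φ hφ => by rw [classInner_irr_self (hirrS φ (hAS φ hφ))]; exact one_ne_zero)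
  have h1lt : 1 < H₁.relIndex K := by
    have h1 : H₁.relIndex K ≠ 1 := fun h => absurd (Subgroup.relIndex_eq_one.mp h) (not_le_of_gt hH₁)
    have h2 : H₁.relIndex K ≠ 0 := Subgroup.index_ne_zero_of_finite
    omega
  have hKindex : 0 < K.index := Nat.pos_of_ne_zero Subgroup.index_ne_zero_of_finite
  have hcardeq : T₀.card * K.index = H₁.relIndex K - 1 := by
    have h1 : ((T₀.card * K.index ^ 2 : ℕ) : ℂ) = ((K.index * (H₁.relIndex K - 1) : ℕ) : ℂ) := by
      rw [Nat.cast_mul, Nat.cast_mul, Nat.cast_sub h1lt.le]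
      push_cast
      rw [← hsum]
      have : ∀ φ ∈ T₀, φ 1 ^ 2 / classInner φ φ = (K.index : ℂ) ^ 2 := by
        intro φ hφ
        rw [classInner_irr_self (hirrS φ (hAS φ hφ)), hdeg φ hφ, div_one]
      rw [Finset.sum_congr rfl this, Finset.sum_const, nsmul_eq_mul]
    have h2 : T₀.card * K.index ^ 2 = K.index * (H₁.relIndex K - 1) := by exact_mod_cast h1
    have h3 : K.index * (T₀.card * K.index) = K.index * (H₁.relIndex K - 1) := by
      rw [← h2]
      ring
    exact Nat.eq_of_mul_eq_mul_left hKindex h3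
  have hcard : 2 ≤ T₀.card := by
    by_contra hc
    have h0 : T₀.card = 0 ∨ T₀.card = 1 := by omega
    rcases h0 with h0 | h0
    · rw [h0, zero_mul] at hcardeq
      omega
    · rw [h0, one_mul] at hcardeq
      omega
  have hset : (↑T₀ : Set (L → ℂ)) ⊆ inducedIrrAbove K ⊥ := fun φ hφ => hAS φ hφ
  have := coherent_const_degree τ K.index T₀ hcard (fun ξ hξ => hirrS ξ (hAS ξ hξ)) hdeg
    (isLinearIsometryOn_mono (zspanOn_mono hset) hτ) (fun α hα => hτ1 α (zspanOn_mono hset hα))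
  rwa [hT₀c] at this

end Cfsg.Agent.Lib.OddChar
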