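import Mathlib

/-! # Elementary group theory for the descent of coherence. -/

set_option autoImplicit false

namespace Cfsg.Agent.Lib.OddChar

/-- In a nilpotent group every maximal subgroup contains all commutators. -/
theorem comm_mem_of_isCoatom {X : Type*} [Group X] [hnil : Group.IsNilpotent X] {Y : Subgroup X}
    (hY : IsCoatom Y) (a b : X) : a * b * a⁻¹ * b⁻¹ ∈ Y := by
  classical
  have hlt : Y < ⊤ := lt_top_iff_ne_top.mpr hY.1
  have hnorm : Subgroup.normalizer (Y : Set X) = ⊤ := by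
    have h1 : Y < Subgroup.normalizer (Y : Set X) := (normalizerCondition_of_isNilpotent (G := X)) Y hlt
    exact hY.2 _ h1
  haveI : Y.Normal := Subgroup.normalizer_eq_top_iff.mp hnorm
  obtain ⟨x, hx⟩ : ∃ x, x ∉ Y := by
    by_contra h
    push Not at h
    exact hY.1 (eq_top_iff.mpr fun x _ => h x)
  have hsup : Subgroup.zpowers x ⊔ Y = ⊤ := by
    rw [sup_comm]
    refine hY.2 _ (lt_of_le_of_ne le_sup_left ?_)
    intro h
    apply hx
    rw [h]
    exact Subgroup.mem_sup_right (Subgroup.mem_zpowers x)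
  let π := QuotientGroup.mk' Y
  have hmem : ∀ g : X, π g ∈ Subgroup.zpowers (π x) := by
    intro g
    have h1 : g ∈ Subgroup.zpowers x ⊔ Y := by
      rw [hsup]
      exact Subgroup.mem_top g
    have h2 := Subgroup.mem_map_of_mem π h1
    rw [Subgroup.map_sup, MonoidHom.map_zpowers] at h2
    have h3 : Y.map π = ⊥ := QuotientGroup.map_mk'_self Y
    rwa [h3, sup_bot_eq] at h2
  obtain ⟨i, hi⟩ := Subgroup.mem_zpowers_iff.mp (hmem a)
  obtain ⟨j, hj⟩ := Subgroup.mem_zpowers_iff.mp (hmem b)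
  have h1 : π (a * b * a⁻¹ * b⁻¹) = 1 := by
    simp only [map_mul, map_inv]
    rw [← hi, ← hj]
    have : Commute ((π x) ^ i) ((π x) ^ j) := (Commute.refl (π x)).zpow_zpow i j
    rw [this.eq]
    group
  exact (QuotientGroup.eq_one_iff _).mp h1

section Quot

variable {K₀ : Type*} [Group K₀] [Finite K₀] (M' H' : Subgroup K₀) [M'.Normal]

/-- A prime power index of `[K₀, K₀] M'` makes `K₀ / M'` a `p`-group, if `K₀ / M'` is nilpotent. -/
theorem exists_index_eq_prime_pow (hnil : Group.IsNilpotent (K₀ ⧸ M'))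
    (hH' : ∀ Z : Subgroup K₀, (∀ a b, a * b * a⁻¹ * b⁻¹ ∈ Z) → M' ≤ Z → H' ≤ Z)
    {p a : ℕ} (hp : p.Prime) (hidx : H'.index = p ^ a) : ∃ b, M'.index = p ^ b := by
  classical
  haveI : Fact p.Prime := ⟨hp⟩
  haveI := hnil
  let π := QuotientGroup.mk' M'
  obtain ⟨P⟩ : Nonempty (Sylow p (K₀ ⧸ M')) := inferInstance
  have hP : (P : Subgroup (K₀ ⧸ M')) = ⊤ := by
    rcases eq_top_or_exists_le_coatom (P : Subgroup (K₀ ⧸ M')) with h | ⟨Y, hY, hPY⟩
    · exact h
    · exfalso
      let Z := Y.comap π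
      have hZ : H' ≤ Z := by
        apply hH'
        · intro x y
          show π _ ∈ Y
          have : π (x * y * x⁻¹ * y⁻¹) = π x * π y * (π x)⁻¹ * (π y)⁻¹ := by
            simp only [map_mul, map_inv]
          rw [this]
          exact comm_mem_of_isCoatom hY _ _
        · intro m hm
          show π m ∈ Y
          have : π m = 1 := (QuotientGroup.eq_one_iff m).mpr hm
          rw [this]
          exact Y.one_mem
      have h1 : Z.index = Y.index := by
        exact Subgroup.index_comap_of_surjective _ (QuotientGroup.mk'_surjective M')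
      have h2 : Z.index ∣ H'.index := Subgroup.index_dvd_of_le hZ
      rw [hidx] at h2
      obtain ⟨c, -, hc⟩ := (Nat.dvd_prime_pow hp).mp h2
      have h3 : Y.index ∣ (P : Subgroup (K₀ ⧸ M')).index := Subgroup.index_dvd_of_le hPY
      have h4 : ¬ p ∣ (P : Subgroup (K₀ ⧸ M')).index := P.not_dvd_index
      have h5 : c ≠ 0 := by
        rintro rfl
        rw [pow_zero, h1] at hc
        exact hY.1 (Subgroup.index_eq_one.mp hc)
      apply h4
      refine dvd_trans ?_ h3
      rw [← h1, hc]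
      exact dvd_pow_self p h5
  obtain ⟨n, hn⟩ := IsPGroup.iff_card.mp P.isPGroup'
  refine ⟨n, ?_⟩
  have h1 : M'.index = Nat.card (K₀ ⧸ M') := rfl
  rw [h1, ← hn, hP, Subgroup.card_top]

/-- A prime index of `[K₀, K₀] M'` makes `K₀ / M'` abelian, if `K₀ / M'` is nilpotent. -/
theorem comm_mem_of_index_prime (hnil : Group.IsNilpotent (K₀ ⧸ M'))
    (hH' : ∀ Z : Subgroup K₀, (∀ a b, a * b * a⁻¹ * b⁻¹ ∈ Z) → M' ≤ Z → H' ≤ Z)
    {p : ℕ} (hp : p.Prime) (hidx : H'.index = p) (a b : K₀) : a * b * a⁻¹ * b⁻¹ ∈ M' := by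
  classical
  haveI := hnil
  let π := QuotientGroup.mk' M'
  obtain ⟨k, hk⟩ : ∃ k, k ∉ H' := by
    by_contra h
    push Not at h
    have h1 : H' = ⊤ := eq_top_iff.mpr fun x _ => h x
    rw [h1, Subgroup.index_top] at hidx
    exact hp.one_lt.ne hidx
  have htop : Subgroup.zpowers (π k) = ⊤ := by
    rcases eq_top_or_exists_le_coatom (Subgroup.zpowers (π k)) with h | ⟨Y, hY, hPY⟩
    · exact h
    · exfalso
      let Z := Y.comap π
      have hZ : H' ≤ Z := by
        apply hH'
        · intro x y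
          show π _ ∈ Y
          have : π (x * y * x⁻¹ * y⁻¹) = π x * π y * (π x)⁻¹ * (π y)⁻¹ := by
            simp only [map_mul, map_inv]
          rw [this]
          exact comm_mem_of_isCoatom hY _ _
        · intro m hm
          show π m ∈ Y
          have : π m = 1 := (QuotientGroup.eq_one_iff m).mpr hm
          rw [this]
          exact Y.one_mem
      have hkZ : k ∈ Z := hPY (Subgroup.mem_zpowers (π k))
      have h1 : Z.index = Y.index := Subgroup.index_comap_of_surjective _ (QuotientGroup.mk'_surjective M')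
      have h2 := Subgroup.relIndex_mul_index hZ
      rw [hidx] at h2
      have h3 : H'.relIndex Z ≠ 1 := by
        intro h
        rw [Subgroup.relIndex_eq_one] at h
        exact hk (h hkZ)
      have h4 : H'.relIndex Z ∣ p := ⟨Z.index, h2.symm⟩
      have h5 : H'.relIndex Z = p := ((Nat.dvd_prime hp).mp h4).resolve_left h3
      have h6 : Z.index = 1 := by
        rw [h5] at h2
        exact Nat.eq_of_mul_eq_mul_left hp.pos (by rw [h2, mul_one])
      rw [h1] at h6
      exact hY.1 (Subgroup.index_eq_one.mp h6)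
  have hmem : ∀ g : K₀, π g ∈ Subgroup.zpowers (π k) := fun g => by
    rw [htop]
    exact Subgroup.mem_top _
  obtain ⟨i, hi⟩ := Subgroup.mem_zpowers_iff.mp (hmem a)
  obtain ⟨j, hj⟩ := Subgroup.mem_zpowers_iff.mp (hmem b)
  have h1 : π (a * b * a⁻¹ * b⁻¹) = 1 := by
    simp only [map_mul, map_inv]
    rw [← hi, ← hj]
    have : Commute ((π k) ^ i) ((π k) ^ j) := (Commute.refl (π k)).zpow_zpow i j
    rw [this.eq]
    group
  exact (QuotientGroup.eq_one_iff _).mp h1

end Quot

/-- If all stabilizers equal `K`, then the index of `K` divides the size of the set. -/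
theorem index_dvd_card_of_stabilizer {L X : Type*} [Group L] [Finite L] [MulAction L X] [Finite X]
    (K : Subgroup L) (h : ∀ x : X, MulAction.stabilizer L x = K) : K.index ∣ Nat.card X := by
  classical
  haveI : Fintype (MulAction.orbitRel.Quotient L X) := Fintype.ofFinite _
  rw [Nat.card_congr (MulAction.selfEquivSigmaOrbitsQuotientStabilizer L X), Nat.card_sigma]
  refine Finset.dvd_sum fun ω _ => ?_
  rw [h]
  exact dvd_refl _

section Frob

variable {L : Type*} [Group L] [Finite L] {K H₁ N : Subgroup L}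

/-- The Frobenius action on a factor `N / H₁` has all its orbits of length `[L : K]`. -/
theorem index_dvd_relIndex_sub_one [H₁.Normal] [N.Normal] (hH₁N : H₁ ≤ N) (hNK : N ≤ K)
    (hcomm : ∀ a ∈ K, ∀ b ∈ K, a * b * a⁻¹ * b⁻¹ ∈ H₁)
    (hfrob : ∀ k ∈ K, k ∉ H₁ → ∀ x : L, x * k * x⁻¹ * k⁻¹ ∈ H₁ → x ∈ K) :
    K.index ∣ H₁.relIndex N - 1 := by
  classical
  let H' : Subgroup N := H₁.subgroupOf N
  haveI : H'.Normal := inferInstance
  let Q := N ⧸ H'
  have hcompat : ∀ x : L, H' ≤ H'.comap ((MulAut.conjNormal (H := N) x).toMonoidHom) := by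
    intro x k hk
    show _ ∈ H₁
    have hk' : (k : L) ∈ H₁ := hk
    have := (inferInstance : H₁.Normal).conj_mem _ hk' x
    simpa using this
  let conjQ : L → Q →* Q := fun x => QuotientGroup.map H' H' _ (hcompat x)
  have hconjQ : ∀ (x : L) (k : N), conjQ x (k : Q) = ((⟨x * k * x⁻¹, (inferInstance : N.Normal).conj_mem _ k.2 x⟩ : N) : Q) := by
    intro x k
    rfl
  have hone : ∀ q : Q, conjQ 1 q = q := by
    intro q
    induction q using QuotientGroup.induction_on with
    | H k =>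
      rw [hconjQ]
      congr 1
      apply Subtype.ext
      simp
  have hmul : ∀ (a b : L) (q : Q), conjQ (a * b) q = conjQ a (conjQ b q) := by
    intro a b q
    induction q using QuotientGroup.induction_on with
    | H k =>
      rw [hconjQ, hconjQ, hconjQ]
      congr 1
      apply Subtype.ext
      simp only [Subgroup.coe_mk]
      group
  have hne : ∀ (x : L) (q : Q), q ≠ 1 → conjQ x q ≠ 1 := by
    intro x q hq h
    apply hq
    rw [← hone q, ← inv_mul_cancel x, hmul, h, map_one]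
  letI : MulAction L {q : Q // q ≠ 1} :=
    { smul := fun x q => ⟨conjQ x q.1, hne x q.1 q.2⟩
      one_smul := fun q => Subtype.ext (hone q.1)
      mul_smul := fun a b q => Subtype.ext (hmul a b q.1) }
  have hstab : ∀ q : {q : Q // q ≠ 1}, MulAction.stabilizer L q = K := by
    rintro ⟨q, hq⟩
    induction q using QuotientGroup.induction_on with
    | H k =>
    have hkH : (k : L) ∉ H₁ := by
      intro h
      exact hq ((QuotientGroup.eq_one_iff k).mpr h)
    have hkK : (k : L) ∈ K := hNK k.2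
    ext x
    have hiff : x ∈ MulAction.stabilizer L (⟨(k : Q), hq⟩ : {q : Q // q ≠ 1}) ↔
        x * k * x⁻¹ * (k : L)⁻¹ ∈ H₁ := by
      rw [MulAction.mem_stabilizer_iff]
      constructor
      · intro h
        have h1 : conjQ x (k : Q) = (k : Q) := congrArg Subtype.val h
        rw [hconjQ, QuotientGroup.eq] at h1
        have h3 : (x * k * x⁻¹)⁻¹ * (k : L) ∈ H₁ := h1
        have h4 := (inferInstance : H₁.Normal).mem_comm h3
        have h5 := H₁.inv_mem h4
        rwa [mul_inv_rev, inv_inv] at h5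
      · intro h
        apply Subtype.ext
        show conjQ x (k : Q) = (k : Q)
        rw [hconjQ, QuotientGroup.eq]
        have h5 := H₁.inv_mem h
        rw [mul_inv_rev, inv_inv] at h5
        exact (inferInstance : H₁.Normal).mem_comm h5
    rw [hiff]
    exact ⟨fun h => hfrob k hkK hkH x h, fun h => hcomm x h k hkK⟩
  have h1 := index_dvd_card_of_stabilizer (X := {q : Q // q ≠ 1}) K hstab
  have h2 : Nat.card {q : Q // q ≠ 1} = H₁.relIndex N - 1 := by
    have h3 : H₁.relIndex N = Nat.card Q := rfl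
    rw [h3]
    haveI : Fintype Q := Fintype.ofFinite _
    rw [Nat.card_eq_fintype_card, Nat.card_eq_fintype_card, Fintype.card_subtype_compl]
    simp
  rwa [h2] at h1

end Frob

/-- Arithmetic: two factors congruent to `1` modulo the odd number `e`. -/
theorem big_of_two_factors {a b e : ℕ} (he : Odd e) (ha : Odd a) (hb : Odd b) (ha1 : 1 < a) (hb1 : 1 < b)
    (h1 : e ∣ a - 1) (h2 : e ∣ a * b - 1) : 4 * e ^ 2 + 1 < a * b := by
  have hcop : Nat.Coprime e a := by
    have h3 : Nat.gcd e a ∣ a - 1 := (Nat.gcd_dvd_left e a).trans h1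
    have h4 : Nat.gcd e a ∣ a := Nat.gcd_dvd_right e a
    have h5 : Nat.gcd e a ∣ 1 := by
      have := Nat.dvd_sub h4 h3
      have e1 : a - (a - 1) = 1 := by omega
      rwa [e1] at this
    exact Nat.dvd_one.mp h5
  have h3 : e ∣ b - 1 := by
    have e1 : a * b - 1 = a * (b - 1) + (a - 1) := by
      obtain ⟨b', rfl⟩ : ∃ b', b = b' + 1 := ⟨b - 1, by omega⟩
      obtain ⟨a', rfl⟩ : ∃ a', a = a' + 1 := ⟨a - 1, by omega⟩
      simp only [Nat.add_sub_cancel]
      have : (a' + 1) * (b' + 1) = (a' + 1) * b' + a' + 1 := by ring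
      omega
    rw [e1] at h2
    have h4 : e ∣ a * (b - 1) := (Nat.dvd_add_left h1).mp h2
    exact hcop.dvd_of_dvd_mul_left h4
  have hlarge : ∀ x : ℕ, Odd x → 1 < x → e ∣ x - 1 → 2 * e + 1 ≤ x := by
    intro x hx hx1 hd
    have h4 : 2 ∣ x - 1 := by
      obtain ⟨y, rfl⟩ := hx
      simp
    have h5 : Nat.Coprime 2 e := (Nat.coprime_two_left).mpr he
    have h6 : 2 * e ∣ x - 1 := h5.mul_dvd_of_dvd_of_dvd h4 hd
    have h7 := Nat.le_of_dvd (by omega) h6
    omega
  have h4 := hlarge a ha ha1 h1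
  have h5 := hlarge b hb hb1 h3
  have h6 : 0 < e := he.pos
  calc 4 * e ^ 2 + 1 < (2 * e + 1) * (2 * e + 1) := by nlinarith
    _ ≤ a * b := Nat.mul_le_mul h4 h5

/-- A factor group that is abelian of non prime power order has a characteristic subgroup. -/
theorem exists_between_of_not_prime_power {L : Type*} [Group L] [Finite L] {K H₁ : Subgroup L}
    [K.Normal] [H₁.Normal] (hle : H₁ ≤ K) (hcomm : ∀ a ∈ K, ∀ b ∈ K, a * b * a⁻¹ * b⁻¹ ∈ H₁)
    (h : ¬ ∃ p m : ℕ, p.Prime ∧ H₁.relIndex K = p ^ m) : ∃ N : Subgroup L, N.Normal ∧ H₁ < N ∧ N < K := by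
  classical
  have hn0 : H₁.relIndex K ≠ 0 := Subgroup.index_ne_zero_of_finite
  have hn1 : H₁.relIndex K ≠ 1 := fun e => h ⟨2, 0, Nat.prime_two, by rw [e, pow_zero]⟩
  let p := (H₁.relIndex K).minFac
  have hp : p.Prime := Nat.minFac_prime hn1
  have hpd : p ∣ H₁.relIndex K := Nat.minFac_dvd _
  obtain ⟨r, hr, hrd, hrp⟩ : ∃ r : ℕ, r.Prime ∧ r ∣ H₁.relIndex K ∧ r ≠ p := by
    by_contra hcon
    push Not at hcon
    exact h ⟨p, _, hp, Nat.eq_prime_pow_of_unique_prime_dvd hn0 (fun {d} h1 h2 => hcon d h1 h2)⟩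
  let H' : Subgroup K := H₁.subgroupOf K
  haveI : H'.Normal := inferInstance
  have hcard : Nat.card (K ⧸ H') = H₁.relIndex K := rfl
  let N : Subgroup L :=
    { carrier := {x | x ∈ K ∧ x ^ p ∈ H₁}
      one_mem' := ⟨K.one_mem, by simp [H₁.one_mem]⟩
      inv_mem' := by
        rintro x ⟨h1, h2⟩
        refine ⟨K.inv_mem h1, ?_⟩
        rw [inv_pow]
        exact H₁.inv_mem h2
      mul_mem' := by
        rintro x y ⟨h1, h2⟩ ⟨h3, h4⟩
        refine ⟨K.mul_mem h1 h3, ?_⟩
        have hc : Commute (x : L ⧸ H₁) (y : L ⧸ H₁) := by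
          show (x : L ⧸ H₁) * y = y * x
          rw [← QuotientGroup.mk_mul, ← QuotientGroup.mk_mul, QuotientGroup.eq]
          have h5 := hcomm _ (K.inv_mem h3) _ (K.inv_mem h1)
          have e : (x * y)⁻¹ * (y * x) = y⁻¹ * x⁻¹ * y⁻¹⁻¹ * x⁻¹⁻¹ := by
            group
          rw [e]
          exact h5
        apply (QuotientGroup.eq_one_iff _).mp
        rw [QuotientGroup.mk_pow, QuotientGroup.mk_mul, hc.mul_pow, ← QuotientGroup.mk_pow, ← QuotientGroup.mk_pow,
          (QuotientGroup.eq_one_iff _).mpr h2, (QuotientGroup.eq_one_iff _).mpr h4, one_mul] }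
  have hNmem : ∀ x, x ∈ N ↔ x ∈ K ∧ x ^ p ∈ H₁ := fun x => Iff.rfl
  have hcauchy : ∀ q : ℕ, q.Prime → q ∣ H₁.relIndex K → ∃ k : K, (k : L) ∉ H₁ ∧ (k : L) ^ q ∈ H₁ ∧
      ∀ m : ℕ, (k : L) ^ m ∈ H₁ → q ∣ m := by
    intro q hq hqd
    haveI : Fact q.Prime := ⟨hq⟩
    obtain ⟨x, hx⟩ := exists_prime_orderOf_dvd_card' (G := K ⧸ H') q (by rw [hcard]; exact hqd)
    induction x using QuotientGroup.induction_on with
    | H k =>
    have hiff : ∀ m : ℕ, ((k : K ⧸ H') ^ m = 1 ↔ (k : L) ^ m ∈ H₁) := by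
      intro m
      rw [← QuotientGroup.mk_pow, QuotientGroup.eq_one_iff, Subgroup.mem_subgroupOf]
      simp
    refine ⟨k, ?_, ?_, ?_⟩
    · intro h
      have h1 : (k : K ⧸ H') ^ 1 = 1 := (hiff 1).mpr (by simpa using h)
      rw [pow_one] at h1
      rw [h1, orderOf_one] at hx
      exact hq.one_lt.ne hx
    · rw [← hiff, ← hx]
      exact pow_orderOf_eq_one _
    · intro m hm
      rw [← hx]
      exact orderOf_dvd_of_pow_eq_one ((hiff m).mpr hm)
  obtain ⟨k₁, hk₁, hk₁p, -⟩ := hcauchy p hp hpd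
  obtain ⟨k₂, hk₂, -, hk₂m⟩ := hcauchy r hr hrd
  refine ⟨N, ⟨?_⟩, ?_, ?_⟩
  · rintro x ⟨h1, h2⟩ g
    refine ⟨(inferInstance : K.Normal).conj_mem _ h1 g, ?_⟩
    rw [conj_pow]
    exact (inferInstance : H₁.Normal).conj_mem _ h2 g
  · refine SetLike.lt_iff_le_and_exists.mpr ⟨fun x hx => (hNmem x).mpr ⟨hle hx, H₁.pow_mem hx p⟩, (k₁ : L), (hNmem _).mpr ⟨k₁.2, hk₁p⟩, hk₁⟩
  · refine SetLike.lt_iff_le_and_exists.mpr ⟨fun x hx => hx.1, (k₂ : L), k₂.2, ?_⟩
    rintro ⟨-, h⟩
    have h1 := hk₂m p h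
    exact hrp ((Nat.prime_dvd_prime_iff_eq hr hp).mp h1)

end Cfsg.Agent.Lib.OddChar
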