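import Cfsg.Agent.Lib.OddChar.FrobMain
import Cfsg.Agent.S1524
import Cfsg.Agent.Lib.Basic.Frobenius2

/-! # Trivial-intersection Frobenius kernels in a finite group. -/

set_option autoImplicit false

namespace Cfsg.Agent.Lib.OddChar

open Cfsg Cfsg.Agent.Lib.Char
open scoped commutatorElement

section Abstract

variable {L : Type*} [Group L] [Fintype L] (K : Subgroup L) [hK : K.Normal]

theorem relevant_eq_above (hfpf : ∀ x : L, x ∉ K → ∀ k ∈ K, x * k = k * x → k = 1) :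
    {χ : L → ℂ | IsIrrCharacter L χ ∧ ∃ k : L, k ∈ K ∧ χ k ≠ χ 1} = inducedIrrAbove K ⊥ := by
  classical
  haveI : Fintype K := Fintype.ofFinite _
  ext χ
  constructor
  · rintro ⟨hχ, hrel⟩
    obtain ⟨θ, hθ, hθ1, hov⟩ := exists_constituent_ne_one K hχ hrel
    refine ⟨θ, hθ, hθ1, fun a ha => ?_, eq_indFun_of_fpf K hfpf hχ hθ hθ1 hov⟩
    have h1 : a = 1 := Subtype.ext (Subgroup.mem_bot.mp ha)
    rw [h1]
  · intro h
    have hirr := frob_irr K hfpf h
    obtain ⟨θ, hθ, hθ1, -, rfl⟩ := h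
    exact ⟨hirr, indFun_relevant K hθ hθ1 (isClassFunction_indFun K _) hirr⟩

include hK in
theorem regular_conj (hfpf : ∀ x : L, x ∉ K → ∀ k ∈ K, x * k = k * x → k = 1) (he : Nat.card K = K.index + 1)
    {k₁ k₂ : L} (h1 : k₁ ∈ K) (h1' : k₁ ≠ 1) (h2 : k₂ ∈ K) (h2' : k₂ ≠ 1) : ∃ x : L, x * k₁ * x⁻¹ = k₂ := by
  classical
  let X := {k : L // k ∈ K ∧ k ≠ 1}
  have hne : ∀ g : L, g * k₁ * g⁻¹ ≠ 1 := by
    intro g h
    apply h1'
    have : g⁻¹ * (g * k₁ * g⁻¹) * g = k₁ := by group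
    rw [← this, h]
    group
  let f : L ⧸ K → X := fun q => ⟨q.out * k₁ * q.out⁻¹, hK.conj_mem _ h1 _, hne _⟩
  have hinj : Function.Injective f := by
    intro q q' h
    have h3 : q.out * k₁ * q.out⁻¹ = q'.out * k₁ * q'.out⁻¹ := congrArg Subtype.val h
    by_contra hqq
    have hy : q'.out⁻¹ * q.out ∉ K := by
      intro hy
      apply hqq
      have h4 : (q'.out : L ⧸ K) = (q.out : L ⧸ K) := QuotientGroup.eq.mpr hy
      rw [QuotientGroup.out_eq', QuotientGroup.out_eq'] at h4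
      exact h4.symm
    apply h1'
    apply hfpf _ hy k₁ h1
    have e1 : q'.out⁻¹ * q.out * k₁ = q'.out⁻¹ * (q.out * k₁ * q.out⁻¹) * q.out := by group
    rw [e1, h3]
    group
  have hcard : Nat.card X = Nat.card K - 1 := by
    haveI : Fintype K := Fintype.ofFinite _
    have e1 : Nat.card K = (Finset.univ.filter (· ∈ K) : Finset L).card := by
      rw [Nat.card_eq_fintype_card, Fintype.card_subtype]
    have e2 : Nat.card X = ((Finset.univ.filter (· ∈ K) : Finset L).erase 1).card := by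
      rw [Nat.card_eq_fintype_card, Fintype.card_subtype]
      congr 1
      ext x
      simp only [Finset.mem_filter, Finset.mem_univ, true_and, Finset.mem_erase]
      tauto
    rw [e1, e2, Finset.card_erase_of_mem (by simp [K.one_mem])]
  have hb := hinj.bijective_of_nat_card_le (by
    rw [hcard, he]
    show K.index + 1 - 1 ≤ K.index
    omega)
  obtain ⟨q, hq⟩ := hb.2 ⟨k₂, h2, h2'⟩
  exact ⟨q.out, congrArg Subtype.val hq⟩

theorem regular_structure (hK1 : K ≠ ⊥) (hfpf : ∀ x : L, x ∉ K → ∀ k ∈ K, x * k = k * x → k = 1)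
    (he : Nat.card K = K.index + 1) :
    (∀ a ∈ K, ∀ b ∈ K, a * b = b * a) ∧ ∃ q : ℕ, q.Prime ∧ ∀ a ∈ K, a ^ q = 1 := by
  classical
  obtain ⟨k₀, hk₀, hk₀1⟩ := (Subgroup.bot_or_exists_ne_one K).resolve_left hK1
  haveI : Nontrivial K := ⟨⟨⟨k₀, hk₀⟩, 1, fun h => hk₀1 (congrArg Subtype.val h)⟩⟩
  have hcard : 1 < Nat.card K := Finite.one_lt_card
  let q := (Nat.card K).minFac
  have hq : q.Prime := Nat.minFac_prime (by omega)
  haveI : Fact q.Prime := ⟨hq⟩
  obtain ⟨t, ht⟩ := exists_prime_orderOf_dvd_card' (G := K) q (Nat.minFac_dvd _)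
  have htq : (t : L) ^ q = 1 := by
    have := pow_orderOf_eq_one t
    rw [ht] at this
    simpa using congrArg Subtype.val this
  have ht1 : (t : L) ≠ 1 := by
    intro h
    have : t = 1 := Subtype.ext h
    rw [this, orderOf_one] at ht
    exact hq.one_lt.ne ht
  have hexp : ∀ a ∈ K, a ^ q = 1 := by
    intro a ha
    by_cases ha1 : a = 1
    · rw [ha1, one_pow]
    · obtain ⟨x, rfl⟩ := regular_conj K hfpf he t.2 ht1 ha ha1
      rw [conj_pow, htq]
      group
  refine ⟨?_, q, hq, hexp⟩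
  have hP : IsPGroup q K := by
    intro g
    refine ⟨1, ?_⟩
    apply Subtype.ext
    simpa using hexp g g.2
  have hcent := hP.center_nontrivial
  obtain ⟨z, hz⟩ := exists_ne (1 : Subgroup.center K)
  have hz1 : ((z : K) : L) ≠ 1 := by
    intro h
    apply hz
    apply Subtype.ext
    exact Subtype.ext h
  have hzc : ∀ y ∈ K, y * ((z : K) : L) = ((z : K) : L) * y := by
    intro y hy
    have := (Subgroup.mem_center_iff.mp z.2) ⟨y, hy⟩
    exact congrArg Subtype.val this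
  intro a ha b hb
  by_cases ha1 : a = 1
  · rw [ha1, one_mul, mul_one]
  obtain ⟨x, rfl⟩ := regular_conj K hfpf he (z : K).2 hz1 ha ha1
  have h1 : x⁻¹ * b * x ∈ K := by
    have := hK.conj_mem b hb x⁻¹
    simpa using this
  have h2 := hzc _ h1
  calc x * ((z : K) : L) * x⁻¹ * b = x * (((z : K) : L) * (x⁻¹ * b * x)) * x⁻¹ := by group
    _ = x * ((x⁻¹ * b * x) * ((z : K) : L)) * x⁻¹ := by rw [h2]
    _ = b * (x * ((z : K) : L) * x⁻¹) := by group

theorem regular_unique (hK1 : K ≠ ⊥) (hfpf : ∀ x : L, x ∉ K → ∀ k ∈ K, x * k = k * x → k = 1)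
    (he : Nat.card K = K.index + 1) :
    Nat.card {χ : L → ℂ // IsIrrCharacter L χ ∧ ∃ k : L, k ∈ K ∧ χ k ≠ χ 1} = 1 := by
  classical
  haveI : Fintype K := Fintype.ofFinite _
  have hset := relevant_eq_above K hfpf
  have hmem : ∀ χ : L → ℂ, (IsIrrCharacter L χ ∧ ∃ k : L, k ∈ K ∧ χ k ≠ χ 1) ↔ χ ∈ inducedIrrAbove K ⊥ := by
    intro χ
    rw [← hset]
    rfl
  have hK0 : 0 < K.index := Nat.pos_of_ne_zero Subgroup.index_ne_zero_of_finite
  rw [Nat.card_eq_one_iff_unique]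
  constructor
  · constructor
    rintro ⟨χ, hχ⟩ ⟨ξ, hξ⟩
    apply Subtype.ext
    by_contra hne
    simp only at hne
    have hχ' := (hmem χ).mp hχ
    have hξ' := (hmem ξ).mp hξ
    let T₀ : Finset (L → ℂ) := (inducedIrrAbove_finite K ⊥).toFinset
    have hT₀ : ∀ φ, φ ∈ T₀ ↔ φ ∈ inducedIrrAbove K ⊥ := fun φ => Set.Finite.mem_toFinset _
    have hirrS : ∀ φ ∈ inducedIrrAbove K ⊥, IsIrrCharacter L φ := fun φ hφ => frob_irr K hfpf hφ
    have hsum := sum_induced_above K ⊥ T₀ hT₀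
      (fun φ hφ φ' hφ' h => classInner_irr_of_ne (hirrS φ ((hT₀ φ).mp hφ)) (hirrS φ' ((hT₀ φ').mp hφ')) h)
      (fun φ hφ => by rw [classInner_irr_self (hirrS φ ((hT₀ φ).mp hφ))]; exact one_ne_zero)
    have hdeg : ∀ φ ∈ inducedIrrAbove K ⊥, ∃ t : ℕ, 0 < t ∧ φ 1 = ((K.index * t : ℕ) : ℂ) := by
      rintro φ ⟨θ, hθ, -, -, rfl⟩
      obtain ⟨t, ht0, ht⟩ := IsIrrCharacter.apply_one hθ
      refine ⟨t, ht0, ?_⟩
      rw [indFun_one, ht]
      push_cast
      ring
    choose! t ht0 ht using hdeg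
    have hS : ∑ φ ∈ T₀, (K.index * t φ) ^ 2 = K.index * K.index := by
      have h1 : ((∑ φ ∈ T₀, (K.index * t φ) ^ 2 : ℕ) : ℂ) = ((K.index * K.index : ℕ) : ℂ) := by
        rw [Subgroup.relIndex_bot_left, he] at hsum
        push_cast at hsum ⊢
        simp only [add_sub_cancel_right] at hsum
        rw [← hsum]
        refine Finset.sum_congr rfl fun φ hφ => ?_
        rw [classInner_irr_self (hirrS φ ((hT₀ φ).mp hφ)), ht φ ((hT₀ φ).mp hφ)]
        push_cast
        simp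
      exact_mod_cast h1
    have hsub : ({χ, ξ} : Finset (L → ℂ)) ⊆ T₀ := by
      intro φ hφ
      rcases Finset.mem_insert.mp hφ with rfl | h
      · exact (hT₀ _).mpr hχ'
      · rw [Finset.mem_singleton.mp h]
        exact (hT₀ _).mpr hξ'
    have h2 : ∑ φ ∈ ({χ, ξ} : Finset (L → ℂ)), (K.index * t φ) ^ 2 ≤ ∑ φ ∈ T₀, (K.index * t φ) ^ 2 :=
      Finset.sum_le_sum_of_subset_of_nonneg hsub fun _ _ _ => Nat.zero_le _
    rw [Finset.sum_pair hne, hS] at h2
    have h3 : K.index ≤ K.index * t χ := Nat.le_mul_of_pos_right _ (ht0 χ hχ')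
    have h4 : K.index ≤ K.index * t ξ := Nat.le_mul_of_pos_right _ (ht0 ξ hξ')
    have h5 : K.index ^ 2 ≤ (K.index * t χ) ^ 2 := Nat.pow_le_pow_left h3 2
    have h6 : K.index ^ 2 ≤ (K.index * t ξ) ^ 2 := Nat.pow_le_pow_left h4 2
    nlinarith
  · -- nonempty
    have h1 := sum_above_degree_sq K (⊥ : Subgroup L)
    rw [Subgroup.relIndex_bot_left] at h1
    have h2 : 1 < Nat.card K := by
      obtain ⟨k, hk, hk1⟩ := (Subgroup.bot_or_exists_ne_one K).resolve_left hK1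
      haveI : Nontrivial K := ⟨⟨⟨k, hk⟩, 1, fun h => hk1 (congrArg Subtype.val h)⟩⟩
      exact Finite.one_lt_card
    have h3 : (aboveFin K (⊥ : Subgroup L)).Nonempty := by
      rw [Finset.nonempty_iff_ne_empty]
      intro h
      rw [h, Finset.sum_empty] at h1
      have h4 : ((Nat.card K : ℤ) - 1 : ℤ) = 0 := by
        have : (((Nat.card K : ℤ) - 1 : ℤ) : ℂ) = 0 := by
          push_cast
          exact h1.symm
        exact_mod_cast this
      omega
    obtain ⟨θ, hθ⟩ := h3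
    exact ⟨⟨_, (hmem _).mpr (indFun_mem_above K hθ)⟩⟩

/-- An involution forces a Frobenius kernel of odd order to be abelian. -/
theorem odd_card_of_nonabelian (hKodd : ¬ 2 ∣ Nat.card K) (hna : ¬ IsMulCommutative K)
    (hfpf : ∀ x : L, x ∉ K → ∀ k ∈ K, x * k = k * x → k = 1) : Odd (Nat.card L) := by
  by_contra hev
  rw [Nat.not_odd_iff_even] at hev
  obtain ⟨t, ht⟩ := exists_prime_orderOf_dvd_card' 2 hev.two_dvd
  have ht2 : t * t = 1 := by
    rw [← pow_two, ← ht]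
    exact pow_orderOf_eq_one t
  have htK : t ∉ K := by
    intro h
    apply hKodd
    have h1 : orderOf (⟨t, h⟩ : K) = 2 := by
      rw [← ht]
      exact Subgroup.orderOf_mk t h
    rw [← h1]
    exact orderOf_dvd_natCard _
  have hinf : K ⊓ Subgroup.centralizer {t} = ⊥ := by
    rw [eq_bot_iff]
    intro k hk
    obtain ⟨hk1, hk2⟩ := Subgroup.mem_inf.mp hk
    have h3 := Subgroup.mem_centralizer_iff.mp hk2 t (Set.mem_singleton t)
    exact hfpf t htK k hk1 h3
  have hinv : ∀ k ∈ K, t * k * t⁻¹ = k⁻¹ := fun k hk =>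
    Cfsg.Agent.Lib.Basic.inverts_of_fpf_involution ht2 hinf hk
  apply hna
  refine ⟨⟨fun a b => ?_⟩⟩
  have h1 := hinv _ a.2
  have h2 := hinv _ b.2
  have h3 := hinv _ (K.mul_mem a.2 b.2)
  apply Subtype.ext
  show (a : L) * b = b * a
  have e : t * ((a : L) * b) * t⁻¹ = (t * a * t⁻¹) * (t * b * t⁻¹) := by group
  rw [e, h1, h2, mul_inv_rev] at h3
  have := congrArg (fun x => x⁻¹) h3
  simpa using this.symm

end Abstract

theorem numeric_two {x e j : ℕ} (hx : x = 2 ^ j) (hx1 : 1 < x) (he2 : 2 ≤ e) (hd : e ∣ x - 1)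
    (hle : x ≤ 4 * e ^ 2 + 1) : x < 4 * e ^ 2 := by
  by_contra hc
  push Not at hc
  have h : x = 4 * e ^ 2 ∨ x = 4 * e ^ 2 + 1 := by omega
  rcases h with h | h
  · have h1 : e ∣ x := by
      rw [h]
      exact ⟨4 * e, by ring⟩
    have h2 : e ∣ x - (x - 1) := Nat.dvd_sub h1 hd
    have h3 : x - (x - 1) = 1 := by omega
    rw [h3, Nat.dvd_one] at h2
    omega
  · have hj : j ≠ 0 := by
      rintro rfl
      simp at hx
      omega
    obtain ⟨i, rfl⟩ := Nat.exists_eq_succ_of_ne_zero hj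
    rw [pow_succ] at hx
    omega

section TI

variable {G : Type*} [Group G] [Fintype G]

/-- The first part of the final trichotomy. -/
theorem ti_main (P₀ N : Subgroup G) [Fintype N] (hP1 : P₀ ≠ ⊥) (hnil : Group.IsNilpotent P₀)
    (hTI : ∀ g : G, g ∉ N → ∀ t ∈ P₀, g * t * g⁻¹ ∈ P₀ → t = 1) (hle : P₀ ≤ N)
    (hnorm : ∀ x ∈ N, ∀ k ∈ P₀, x * k * x⁻¹ ∈ P₀)
    (hC : ∀ k ∈ P₀, k ≠ 1 → Subgroup.centralizer ({k} : Set G) ≤ P₀) :
    (Nat.card {χ : N → ℂ // IsIrrCharacter N χ ∧ ∃ k : N, (k : G) ∈ P₀ ∧ χ k ≠ χ 1} = 1 ∧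
        Nat.card P₀ = (P₀.subgroupOf N).index + 1 ∧ (∀ a ∈ P₀, ∀ b ∈ P₀, a * b = b * a) ∧
        ∃ q : ℕ, q.Prime ∧ ∀ a ∈ P₀, a ^ q = 1) ∨
      IsCoherent {χ : N → ℂ | IsIrrCharacter N χ ∧ ∃ k : N, (k : G) ∈ P₀ ∧ χ k ≠ χ 1} {1}ᶜ
        (fun α => indFun N α) ∨
      ∃ r : ℕ, r.Prime ∧ (∃ m : ℕ, Nat.card P₀ = r ^ m) ∧ ¬ IsMulCommutative P₀ ∧
        (⁅P₀, P₀⁆.subgroupOf P₀).index ≤ 4 * (P₀.subgroupOf N).index ^ 2 + 1 := by
  classical
  let K : Subgroup N := P₀.subgroupOf N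
  haveI hKn : K.Normal := by
    constructor
    intro n hn g
    rw [Subgroup.mem_subgroupOf] at hn ⊢
    exact hnorm g g.2 n hn
  have hfpf : ∀ x : N, x ∉ K → ∀ k ∈ K, x * k = k * x → k = 1 := by
    intro x hx k hk hcomm
    by_contra hk1
    apply hx
    rw [Subgroup.mem_subgroupOf]
    have hkK : (k : G) ∈ P₀ := Subgroup.mem_subgroupOf.mp hk
    have hk1' : (k : G) ≠ 1 := fun h => hk1 (Subtype.ext h)
    apply hC k hkK hk1'
    rw [Subgroup.mem_centralizer_iff]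
    intro y hy
    have hy' : y = k := by simpa using hy
    rw [hy']
    exact (congrArg Subtype.val hcomm).symm
  have hcardK : Nat.card K = Nat.card P₀ := Nat.card_congr (Subgroup.subgroupOfEquivOfLe hle).toEquiv
  have hK1 : K ≠ ⊥ := by
    intro h
    apply hP1
    rw [eq_bot_iff]
    intro x hx
    have : (⟨x, hle hx⟩ : N) ∈ K := hx
    rw [h] at this
    have h2 : (⟨x, hle hx⟩ : N) = 1 := this
    exact congrArg Subtype.val h2
  have hnilK : Group.IsNilpotent K :=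
    nilpotent_of_surjective (Subgroup.subgroupOfEquivOfLe hle).symm.toMonoidHom
      (Subgroup.subgroupOfEquivOfLe hle).symm.surjective
  have hset : {χ : N → ℂ | IsIrrCharacter N χ ∧ ∃ k : N, (k : G) ∈ P₀ ∧ χ k ≠ χ 1} = inducedIrrAbove K ⊥ :=
    relevant_eq_above K hfpf
  by_cases he : Nat.card K = K.index + 1
  · left
    obtain ⟨h1, q, hq, h2⟩ := regular_structure K hK1 hfpf he
    refine ⟨regular_unique K hK1 hfpf he, hcardK ▸ he, ?_, q, hq, ?_⟩
    · intro a ha b hb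
      have := h1 ⟨a, hle ha⟩ ha ⟨b, hle hb⟩ hb
      exact congrArg Subtype.val this
    · intro a ha
      have := h2 ⟨a, hle ha⟩ ha
      exact congrArg Subtype.val this
  · right
    rw [hset]
    rcases frob_main K hK1 hnilK hfpf he (fun α => indFun N α) (frob_isometry (K := K) (P₀ : Set G) (fun x => Iff.rfl) hTI)
      (fun α hα => frob_map_one hα) with h | ⟨r, hr, ⟨m, hm⟩, hna, hx⟩
    · exact Or.inl h
    · right
      refine ⟨r, hr, ⟨m, hcardK ▸ hm⟩, ?_, ?_⟩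
      · intro h
        apply hna
        refine ⟨⟨fun a b => ?_⟩⟩
        apply Subtype.ext
        apply Subtype.ext
        have := h.is_comm.comm ⟨a.1.1, a.2⟩ ⟨b.1.1, b.2⟩
        have h3 := congrArg (Subtype.val : P₀ → G) this
        exact h3
      · have e : K.map N.subtype = P₀ := Subgroup.map_subgroupOf_eq_of_le hle
        have h1 := Subgroup.relIndex_map_map_of_injective ⁅K, K⁆ K N.subtype_injective
        rw [Subgroup.map_commutator, e] at h1
        have h2 : (⁅P₀, P₀⁆.subgroupOf P₀).index = (⁅K, K⁆.subgroupOf K).index := h1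
        rw [h2]
        exact hx

/-- The odd case of the trichotomy. -/
theorem ti_odd (P₀ N : Subgroup G) [Fintype N] (hP1 : P₀ ≠ ⊥) (hnil : Group.IsNilpotent P₀)
    (hTIs : IsTISubset (P₀ : Set G)) (hN : Subgroup.normalizer (P₀ : Set G) = N) (hlt : P₀ < N)
    (hC : ∀ k ∈ P₀, k ≠ 1 → Subgroup.centralizer ({k} : Set G) ≤ P₀)
    (hKodd : ¬ 2 ∣ Nat.card P₀) (hna : ¬ IsMulCommutative P₀) :
    IsCoherent {χ : N → ℂ | IsIrrCharacter N χ ∧ ∃ k : N, (k : G) ∈ P₀ ∧ χ k ≠ χ 1} {1}ᶜ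
      (fun α => indFun N α) := by
  classical
  have hle := hlt.le
  have hnorm : ∀ x ∈ N, ∀ k ∈ P₀, x * k * x⁻¹ ∈ P₀ := by
    intro x hx k hk
    rw [← hN] at hx
    exact (Subgroup.mem_normalizer_iff.mp hx k).mp hk
  let K : Subgroup N := P₀.subgroupOf N
  haveI hKn : K.Normal := by
    constructor
    intro n hn g
    rw [Subgroup.mem_subgroupOf] at hn ⊢
    exact hnorm g g.2 n hn
  have hfpf : ∀ x : N, x ∉ K → ∀ k ∈ K, x * k = k * x → k = 1 := by
    intro x hx k hk hcomm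
    by_contra hk1
    apply hx
    rw [Subgroup.mem_subgroupOf]
    have hkK : (k : G) ∈ P₀ := Subgroup.mem_subgroupOf.mp hk
    have hk1' : (k : G) ≠ 1 := fun h => hk1 (Subtype.ext h)
    apply hC k hkK hk1'
    rw [Subgroup.mem_centralizer_iff]
    intro y hy
    have hy' : y = k := by simpa using hy
    rw [hy']
    exact (congrArg Subtype.val hcomm).symm
  have hcardK : Nat.card K = Nat.card P₀ := Nat.card_congr (Subgroup.subgroupOfEquivOfLe hle).toEquiv
  have hset : {χ : N → ℂ | IsIrrCharacter N χ ∧ ∃ k : N, (k : G) ∈ P₀ ∧ χ k ≠ χ 1} = inducedIrrAbove K ⊥ :=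
    relevant_eq_above K hfpf
  have hnaK : ¬ IsMulCommutative K := by
    intro h
    apply hna
    refine ⟨⟨fun a b => ?_⟩⟩
    have := h.is_comm.comm ⟨⟨a, hle a.2⟩, a.2⟩ ⟨⟨b, hle b.2⟩, b.2⟩
    apply Subtype.ext
    have h2 := congrArg (fun x : K => ((x : N) : G)) this
    exact h2
  have hodd : Odd (Nat.card N) := odd_card_of_nonabelian K (hcardK ▸ hKodd) hnaK hfpf
  obtain ⟨W, hW⟩ := Subgroup.exists_right_complement'_of_coprime (coprime_index_of_fpf hfpf)
  have hdisj := hW.disjoint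
  have hsup := hW.sup_eq_top
  have hKtop : K ≠ ⊤ := by
    intro h
    obtain ⟨x, hx, hx'⟩ := SetLike.exists_of_lt hlt
    apply hx'
    have : (⟨x, hx⟩ : N) ∈ K := by rw [h]; trivial
    exact this
  let W₁ : Subgroup G := W.map N.subtype
  have hW₁N : W₁ ≤ N := Subgroup.map_subtype_le W
  have hW1 : W₁ ≠ ⊥ := by
    intro h
    have h1 : W = ⊥ := (Subgroup.map_eq_bot_iff_of_injective W N.subtype_injective).mp h
    rw [h1, sup_bot_eq] at hsup
    exact hKtop hsup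
  have hinf : P₀ ⊓ W₁ = ⊥ := by
    rw [eq_bot_iff]
    rintro x ⟨hx1, w, hw, rfl⟩
    have h1 : w ∈ K ⊓ W := ⟨hx1, hw⟩
    rw [hdisj.eq_bot] at h1
    have h2 : w = 1 := h1
    rw [h2]
    exact Subgroup.one_mem _
  have hsup' : P₀ ⊔ W₁ = N := by
    have e : K.map N.subtype = P₀ := Subgroup.map_subgroupOf_eq_of_le hle
    have h1 := congrArg (Subgroup.map N.subtype) hsup
    rw [Subgroup.map_sup, e, ← MonoidHom.range_eq_map, Subgroup.range_subtype] at h1
    exact h1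
  have hfpf' : ∀ w ∈ W₁, w ≠ 1 → ∀ h ∈ P₀, w * h = h * w → h = 1 := by
    rintro _ ⟨w, hw, rfl⟩ hw1 h hh hcomm
    have hwK : w ∉ K := by
      intro hk
      have h1 : w ∈ K ⊓ W := ⟨hk, hw⟩
      rw [hdisj.eq_bot] at h1
      have h2 : w = 1 := h1
      apply hw1
      rw [h2]
      rfl
    have := hfpf w hwK ⟨h, hle hh⟩ hh (Subtype.ext hcomm)
    exact congrArg Subtype.val this
  rw [hset]
  exact Cfsg.Agent.S1524.result P₀ N W₁ hodd hle hW₁N hP1 hW1 hnil hnorm hinf hsup' hfpf' hTIs hN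

/-- The even case of the trichotomy: a Frobenius kernel which is a `2`-group is a Sylow subgroup. -/
theorem ti_two (P₀ N : Subgroup G) [Fintype N] (hP1 : P₀ ≠ ⊥) (hN : Subgroup.normalizer (P₀ : Set G) = N)
    (hlt : P₀ < N) (hC : ∀ k ∈ P₀, k ≠ 1 → Subgroup.centralizer ({k} : Set G) ≤ P₀) {m : ℕ}
    (hm : Nat.card P₀ = 2 ^ m)
    (hx : (⁅P₀, P₀⁆.subgroupOf P₀).index ≤ 4 * (P₀.subgroupOf N).index ^ 2 + 1) (hne : ⁅P₀, P₀⁆ < P₀) :
    Nat.card P₀ = 2 ^ (Nat.card G).factorization 2 ∧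
      (⁅P₀, P₀⁆.subgroupOf P₀).index < 4 * (P₀.subgroupOf N).index ^ 2 := by
  classical
  have hle := hlt.le
  have hnorm : ∀ x ∈ N, ∀ k ∈ P₀, x * k * x⁻¹ ∈ P₀ := by
    intro x hx k hk
    rw [← hN] at hx
    exact (Subgroup.mem_normalizer_iff.mp hx k).mp hk
  let K : Subgroup N := P₀.subgroupOf N
  haveI hKn : K.Normal := by
    constructor
    intro n hn g
    rw [Subgroup.mem_subgroupOf] at hn ⊢
    exact hnorm g g.2 n hn
  have hfpf : ∀ x : N, x ∉ K → ∀ k ∈ K, x * k = k * x → k = 1 := by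
    intro x hx k hk hcomm
    by_contra hk1
    apply hx
    rw [Subgroup.mem_subgroupOf]
    have hkK : (k : G) ∈ P₀ := Subgroup.mem_subgroupOf.mp hk
    have hk1' : (k : G) ≠ 1 := fun h => hk1 (Subtype.ext h)
    apply hC k hkK hk1'
    rw [Subgroup.mem_centralizer_iff]
    intro y hy
    have hy' : y = k := by simpa using hy
    rw [hy']
    exact (congrArg Subtype.val hcomm).symm
  have hcardK : Nat.card K = Nat.card P₀ := Nat.card_congr (Subgroup.subgroupOfEquivOfLe hle).toEquiv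
  have hm0 : m ≠ 0 := by
    rintro rfl
    rw [pow_zero, Subgroup.card_eq_one] at hm
    exact hP1 hm
  have heodd : Odd K.index := by
    have h1 : K.index ∣ Nat.card K - 1 := index_dvd_card_sub_one_of_fpf hfpf
    rw [hcardK, hm] at h1
    refine Odd.of_dvd_nat ?_ h1
    obtain ⟨i, rfl⟩ := Nat.exists_eq_succ_of_ne_zero hm0
    rw [pow_succ]
    have : 0 < 2 ^ i := by positivity
    exact ⟨2 ^ i - 1, by omega⟩
  have hK2 : 2 ≤ K.index := by
    have h1 : K.index ≠ 0 := Subgroup.index_ne_zero_of_finite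
    have h2 : K.index ≠ 1 := by
      intro h
      have h3 : K = ⊤ := Subgroup.index_eq_one.mp h
      obtain ⟨x, hx, hx'⟩ := SetLike.exists_of_lt hlt
      apply hx'
      have : (⟨x, hx⟩ : N) ∈ K := by rw [h3]; trivial
      exact this
    omega
  have hP : IsPGroup 2 P₀ := IsPGroup.of_card hm
  obtain ⟨Q, hQ⟩ := hP.exists_le_sylow
  have hPQ : P₀ = Q := by
    by_contra hne'
    have hlt' : P₀ < Q := lt_of_le_of_ne hQ hne'
    let R : Subgroup Q := P₀.subgroupOf Q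
    have hRtop : R < ⊤ := by
      refine lt_top_iff_ne_top.mpr fun h => ?_
      obtain ⟨x, hx, hx'⟩ := SetLike.exists_of_lt hlt'
      apply hx'
      have : (⟨x, hx⟩ : Q) ∈ R := by rw [h]; trivial
      exact this
    haveI hnQ : Group.IsNilpotent Q := Q.isPGroup'.isNilpotent
    have h1 : R < Subgroup.normalizer (R : Set Q) := (Group.normalizerCondition_of_isNilpotent (G := Q)) R hRtop
    obtain ⟨y, hy, hy'⟩ := SetLike.exists_of_lt h1
    have hyN : (y : G) ∈ N := by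
      rw [← hN, Subgroup.mem_normalizer_iff]
      intro g
      constructor
      · intro hg
        have := (Subgroup.mem_normalizer_iff.mp hy ⟨g, hQ hg⟩).mp hg
        exact this
      · intro hg
        have hgQ : g ∈ (Q : Subgroup G) := by
          have h2 : (y : G) * g * (y : G)⁻¹ ∈ (Q : Subgroup G) := hQ hg
          have h3 := (Q : Subgroup G).mul_mem ((Q : Subgroup G).mul_mem ((Q : Subgroup G).inv_mem y.2) h2) y.2
          simpa [mul_assoc] using h3
        exact (Subgroup.mem_normalizer_iff.mp hy ⟨g, hgQ⟩).mpr hg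
    have hyK : (⟨y, hyN⟩ : N) ∉ K := hy'
    have h2 := orderOf_dvd_index_of_fpf hfpf hyK
    have h3 : orderOf ((⟨y, hyN⟩ : N)) = orderOf y := by
      rw [Subgroup.orderOf_mk]
      exact (Subgroup.orderOf_coe y)
    rw [h3] at h2
    obtain ⟨i, hi⟩ := IsPGroup.iff_orderOf.mp Q.isPGroup' y
    rw [hi] at h2
    have h4 : 2 ^ i = 1 := by
      have hco : Nat.Coprime (2 ^ i) K.index := by
        apply Nat.Coprime.pow_left
        exact (Nat.coprime_two_left).mpr heodd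
      exact Nat.Coprime.eq_one_of_dvd hco h2
    rw [h4, orderOf_eq_one_iff] at hi
    apply hy'
    rw [hi]
    exact Subgroup.one_mem _
  refine ⟨by rw [hPQ]; exact Q.card_eq_multiplicity, ?_⟩
  have hxdvd : (⁅P₀, P₀⁆.subgroupOf P₀).index ∣ 2 ^ m := by
    rw [← hm]
    exact Subgroup.index_dvd_card _
  obtain ⟨j, -, hj⟩ := (Nat.dvd_prime_pow Nat.prime_two).mp hxdvd
  have hx1 : 1 < (⁅P₀, P₀⁆.subgroupOf P₀).index := by
    have h1 : (⁅P₀, P₀⁆).relIndex P₀ ≠ 1 := fun h => absurd (Subgroup.relIndex_eq_one.mp h) (not_le_of_gt hne)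
    have h2 : (⁅P₀, P₀⁆).relIndex P₀ ≠ 0 := Subgroup.index_ne_zero_of_finite
    show 1 < (⁅P₀, P₀⁆).relIndex P₀
    omega
  have hdvd : K.index ∣ (⁅P₀, P₀⁆.subgroupOf P₀).index - 1 := by
    have e : K.map N.subtype = P₀ := Subgroup.map_subgroupOf_eq_of_le hle
    have h1 := Subgroup.relIndex_map_map_of_injective ⁅K, K⁆ K N.subtype_injective
    rw [Subgroup.map_commutator, e] at h1
    have h2 : (⁅P₀, P₀⁆.subgroupOf P₀).index = (⁅K, K⁆.subgroupOf K).index := h1
    rw [h2]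
    exact index_dvd_relIndex_sub_one (Subgroup.commutator_le_left _ _) le_rfl
      (fun a ha b hb => Subgroup.commutator_mem_commutator ha hb) (frob_quotient hfpf ⁅K, K⁆ (Subgroup.commutator_le_left _ _))
  exact numeric_two hj hx1 hK2 hdvd hx

end TI

end Cfsg.Agent.Lib.OddChar
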