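import Cfsg.Agent.Lib.OddChar.FrobCoh

/-! # Coherence for nilpotent Frobenius kernels, real characters allowed. -/

set_option autoImplicit false

namespace Cfsg.Agent.Lib.OddChar

open Cfsg Cfsg.Agent.Lib.Char
open scoped commutatorElement

theorem comm_pow_of_central {Q : Type*} [Group Q] (u v : Q) (hwu : Commute (u * v * u⁻¹ * v⁻¹) u) (n : ℕ) :
    u ^ n * v * (u ^ n)⁻¹ * v⁻¹ = (u * v * u⁻¹ * v⁻¹) ^ n := by
  induction n with
  | zero => simp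
  | succ n ih =>
    have h1 : u ^ (n + 1) * v * (u ^ (n + 1))⁻¹ * v⁻¹ = u * (u ^ n * v * (u ^ n)⁻¹ * v⁻¹) * (v * u⁻¹ * v⁻¹) := by
      rw [pow_succ']
      group
    rw [h1, ih]
    have h2 := (hwu.pow_left n).eq
    rw [pow_succ]
    calc u * (u * v * u⁻¹ * v⁻¹) ^ n * (v * u⁻¹ * v⁻¹)
        = (u * (u * v * u⁻¹ * v⁻¹) ^ n) * (v * u⁻¹ * v⁻¹) := rfl
      _ = ((u * v * u⁻¹ * v⁻¹) ^ n * u) * (v * u⁻¹ * v⁻¹) := by rw [h2]
      _ = (u * v * u⁻¹ * v⁻¹) ^ n * (u * v * u⁻¹ * v⁻¹) := by group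

/-- A nontrivial normal subgroup of a nilpotent group is not its own commutator with the group. -/
theorem commutator_ne_self_of_nilpotent {L : Type*} [Group L] {K A : Subgroup L} (hnil : Group.IsNilpotent K)
    (hAK : A ≤ K) (hA : A ≠ ⊥) : ⁅A, K⁆ ≠ A := by
  intro h
  obtain ⟨n, hn⟩ := (Subgroup.isNilpotent_iff_lowerCentralSeries K).mp hnil
  have hle : ∀ i, A ≤ K.lowerCentralSeries i := by
    intro i
    induction i with
    | zero => exact hAK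
    | succ i ih =>
      rw [← h]
      exact Subgroup.commutator_mono ih le_rfl
  apply hA
  rw [eq_bot_iff, ← hn]
  exact hle n

variable {L G : Type*} [Group L] [Fintype L] [Group G] [Fintype G]

theorem commutator_lt_of_nilpotent {K A : Subgroup L} [A.Normal] (hnil : Group.IsNilpotent K)
    (hAK : A ≤ K) (hA : A ≠ ⊥) : ⁅A, K⁆ < A :=
  lt_of_le_of_ne (Subgroup.commutator_le_left _ _) (commutator_ne_self_of_nilpotent hnil hAK hA)

/-- The case of a Frobenius kernel of non prime power order. -/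
theorem frob_not_prime_power (K : Subgroup L) [hK : K.Normal] (hnil : Group.IsNilpotent K)
    (hfpf : ∀ x : L, x ∉ K → ∀ k ∈ K, x * k = k * x → k = 1) (τ : (L → ℂ) → (G → ℂ))
    (hτ : IsLinearIsometryOn (zspanOn (inducedIrrAbove K ⊥) {1}ᶜ) τ)
    (hτ1 : ∀ α ∈ zspanOn (inducedIrrAbove K ⊥) {1}ᶜ, τ α 1 = 0)
    (hna : ⁅K, K⁆ ≠ ⊥) (hpp : ¬ ∃ p m : ℕ, p.Prime ∧ Nat.card K = p ^ m) :
    IsCoherent (inducedIrrAbove K ⊥) {1}ᶜ τ := by
  classical
  haveI := hnil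
  have hsolv : Group.IsSolvable K := inferInstance
  have hK₂K : ⁅K, K⁆ ≤ K := Subgroup.commutator_le_left _ _
  have hK1 : K ≠ ⊥ := by
    rintro rfl
    exact hna (by simp)
  have hK₂lt : ⁅K, K⁆ < K := commutator_lt_of_nilpotent hnil le_rfl hK1
  have hK₃lt : ⁅⁅K, K⁆, K⁆ < ⁅K, K⁆ := commutator_lt_of_nilpotent hnil hK₂K hna
  have hK₃le := hK₃lt.le
  have hy1 : 1 < (⁅⁅K, K⁆, K⁆).relIndex ⁅K, K⁆ := by
    have h1 : (⁅⁅K, K⁆, K⁆).relIndex ⁅K, K⁆ ≠ 1 := fun h => absurd (Subgroup.relIndex_eq_one.mp h) (not_le_of_gt hK₃lt)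
    have h2 : (⁅⁅K, K⁆, K⁆).relIndex ⁅K, K⁆ ≠ 0 := Subgroup.index_ne_zero_of_finite
    omega
  set y := (⁅⁅K, K⁆, K⁆).relIndex ⁅K, K⁆ with hy
  let p := y.minFac
  have hp : p.Prime := Nat.minFac_prime (by omega)
  have hpy : p ∣ y := Nat.minFac_dvd _
  have hcomm₂ : ∀ a ∈ ⁅K, K⁆, ∀ b ∈ ⁅K, K⁆, a * b * a⁻¹ * b⁻¹ ∈ ⁅⁅K, K⁆, K⁆ := fun a ha b hb =>
    Subgroup.commutator_mem_commutator ha (hK₂K hb)
  have hcomm : ∀ a ∈ K, ∀ b ∈ K, a * b * a⁻¹ * b⁻¹ ∈ ⁅K, K⁆ := fun a ha b hb =>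
    Subgroup.commutator_mem_commutator ha hb
  let B : Subgroup L := powSub ⁅K, K⁆ ⁅⁅K, K⁆, K⁆ hcomm₂ (ordCompl[p] y)
  haveI hBn : B.Normal := powSub_normal
  have hBK₂ : B ≤ ⁅K, K⁆ := powSub_le
  have hK₃B : ⁅⁅K, K⁆, K⁆ ≤ B := le_powSub hK₃le
  have hBlt : B < ⁅K, K⁆ := by
    obtain ⟨u, hu, -, -, hum⟩ := exists_cauchy_rel hp hpy
    refine lt_of_le_of_ne hBK₂ fun h => ?_
    have hmem : u ∈ B := by
      rw [h]
      exact hu
    have h1 := hum _ hmem.2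
    exact Nat.not_dvd_ordCompl hp (by omega) h1
  have hx1 : 1 < (⁅K, K⁆).relIndex K := by
    have h1 : (⁅K, K⁆).relIndex K ≠ 1 := fun h => absurd (Subgroup.relIndex_eq_one.mp h) (not_le_of_gt hK₂lt)
    have h2 : (⁅K, K⁆).relIndex K ≠ 0 := Subgroup.index_ne_zero_of_finite
    omega
  set x := (⁅K, K⁆).relIndex K with hx
  let D : Subgroup L := powSub K ⁅K, K⁆ hcomm (ordCompl[p] x)
  haveI hDn : D.Normal := powSub_normal
  have hDK : D ≤ K := powSub_le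
  have hK₂D : ⁅K, K⁆ ≤ D := le_powSub hK₂K
  have hmcop : Nat.Coprime (ordCompl[p] x) p := (Nat.coprime_ordCompl hp (by omega)).symm
  -- the central step
  have hcent : ∀ d ∈ D, ∀ c ∈ K, d * c * d⁻¹ * c⁻¹ ∈ B := by
    intro d hd c hc
    have hdK : d ∈ K := hDK hd
    have hdc : d * c * d⁻¹ * c⁻¹ ∈ ⁅K, K⁆ := hcomm d hdK c hc
    have hP : (d * c * d⁻¹ * c⁻¹) ^ (ordProj[p] y) ∈ B := pow_ordProj_mem_powSub hcomm₂ hdc
    have hcentral : ∀ u ∈ ⁅K, K⁆, ∀ c ∈ K, (u : L ⧸ B) * c = c * u := by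
      intro u hu c hc
      rw [← QuotientGroup.mk_mul, ← QuotientGroup.mk_mul, QuotientGroup.eq]
      have e : (u * c)⁻¹ * (c * u) = c⁻¹ * u⁻¹ * c * u := by group
      rw [e]
      have h4 := hK₃B (Subgroup.commutator_mem_commutator (Subgroup.inv_mem _ hu) (K.inv_mem hc) :
        ⁅u⁻¹, c⁻¹⁆ ∈ ⁅⁅K, K⁆, K⁆)
      have e3 : (⁅u⁻¹, c⁻¹⁆)⁻¹ = c⁻¹ * u⁻¹ * c * u := by
        rw [commutatorElement_def]
        group
      rw [← e3]
      exact B.inv_mem h4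
    have hwu : Commute (((d : L ⧸ B)) * c * (d : L ⧸ B)⁻¹ * (c : L ⧸ B)⁻¹) (d : L ⧸ B) := by
      have e : ((d : L ⧸ B)) * c * (d : L ⧸ B)⁻¹ * (c : L ⧸ B)⁻¹ = ((d * c * d⁻¹ * c⁻¹ : L) : L ⧸ B) := by
        simp only [QuotientGroup.mk_mul, QuotientGroup.mk_inv]
      rw [e]
      exact hcentral _ hdc d hdK
    have hw := comm_pow_of_central (d : L ⧸ B) (c : L ⧸ B) hwu (ordCompl[p] x)
    have hdm : d ^ (ordCompl[p] x) ∈ ⁅K, K⁆ := hd.2
    have h1 : ((d : L ⧸ B) ^ (ordCompl[p] x)) * c * ((d : L ⧸ B) ^ (ordCompl[p] x))⁻¹ * (c : L ⧸ B)⁻¹ = 1 := by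
      rw [← QuotientGroup.mk_pow, hcentral _ hdm c hc]
      group
    rw [h1] at hw
    have h2 : (d * c * d⁻¹ * c⁻¹) ^ (ordCompl[p] x) ∈ B := by
      rw [← QuotientGroup.eq_one_iff]
      simp only [QuotientGroup.mk_pow, QuotientGroup.mk_mul, QuotientGroup.mk_inv]
      exact hw.symm
    refine mem_of_pow_mem_of_coprime B h2 hP ?_
    exact (Nat.Coprime.pow_right _ hmcop)
  -- the two factors
  have hDK' : D.relIndex K ≠ 1 := by
    intro h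
    have h1 : K ≤ D := Subgroup.relIndex_eq_one.mp h
    have h2 : ⁅K, K⁆ ≤ B := by
      rw [Subgroup.commutator_le]
      intro a ha b hb
      exact hcent a (h1 ha) b hb
    exact absurd h2 (not_le_of_gt hBlt)
  have ha1 : 1 < D.relIndex K := by
    have h2 : D.relIndex K ≠ 0 := Subgroup.index_ne_zero_of_finite
    omega
  obtain ⟨r, hr⟩ : ∃ r, D.relIndex K = p ^ r := relIndex_powSub_eq_pow hcomm hp
  have hr0 : r ≠ 0 := by
    rintro rfl
    rw [pow_zero] at hr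
    omega
  have hpa : p ∣ D.relIndex K := by
    rw [hr]
    exact dvd_pow_self p hr0
  have hpb : ¬ p ∣ (⁅K, K⁆).relIndex D := not_dvd_relIndex_powSub hcomm hp hmcop
  have hmul : (⁅K, K⁆).relIndex D * D.relIndex K = x := Subgroup.relIndex_mul_relIndex _ _ _ hK₂D hDK
  have hb1 : 1 < (⁅K, K⁆).relIndex D := by
    have h2 : (⁅K, K⁆).relIndex D ≠ 0 := Subgroup.index_ne_zero_of_finite
    refine lt_of_le_of_ne (by omega) fun h => hpp ?_
    rw [← h, one_mul, hr] at hmul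
    -- `[K : K'] = p ^ r` so `K` is a `p`-group
    have hH' : ∀ Z : Subgroup K, (∀ a b, a * b * a⁻¹ * b⁻¹ ∈ Z) → (⊥ : Subgroup K) ≤ Z →
        (⁅K, K⁆).subgroupOf K ≤ Z := by
      intro Z h1 _ z hz
      have hz' : (z : L) ∈ ⁅K, K⁆ := Subgroup.mem_subgroupOf.mp hz
      have hle : ⁅K, K⁆ ≤ Z.map K.subtype := by
        rw [Subgroup.commutator_le]
        intro a ha b hb
        exact ⟨_, h1 ⟨a, ha⟩ ⟨b, hb⟩, rfl⟩
      obtain ⟨w, hw, hwz⟩ := hle hz'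
      have : w = z := Subtype.ext hwz
      rwa [← this]
    have hnilq : Group.IsNilpotent (K ⧸ (⊥ : Subgroup K)) :=
      nilpotent_of_surjective (QuotientGroup.mk' _) (QuotientGroup.mk'_surjective _)
    obtain ⟨b, hb⟩ := exists_index_eq_prime_pow (⊥ : Subgroup K) ((⁅K, K⁆).subgroupOf K) hnilq hH' hp hmul.symm
    rw [Subgroup.index_bot] at hb
    exact ⟨p, b, hp, hb⟩
  have hab : D.relIndex K ≠ (⁅K, K⁆).relIndex D := fun h => hpb (h ▸ hpa)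
  have he0 : 0 < K.index := Nat.pos_of_ne_zero Subgroup.index_ne_zero_of_finite
  have hd1 : K.index ∣ D.relIndex K - 1 :=
    index_dvd_relIndex_sub_one hDK le_rfl (fun a ha b hb => hK₂D (hcomm a ha b hb)) (frob_quotient hfpf D hDK)
  have hd2 : K.index ∣ (⁅K, K⁆).relIndex D - 1 :=
    index_dvd_relIndex_sub_one hK₂D hDK hcomm (frob_quotient hfpf ⁅K, K⁆ hK₂K)
  have hlarge := two_factors_large ha1 hb1 hab hd1 hd2 he0
  have hxab : x = D.relIndex K * (⁅K, K⁆).relIndex D := by rw [← hmul, mul_comm]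
  have hxlarge : (K.index + 1) * (2 * K.index + 1) ≤ x := by rw [hxab]; exact hlarge
  have hbase := coh_base_irr K hsolv hfpf τ hτ hτ1 ⁅K, K⁆ hK₂lt hcomm (by
    intro h
    rw [← hx] at h
    nlinarith)
  have ha' : K.index + 1 ≤ D.relIndex K := by
    have := Nat.le_of_dvd (by omega) hd1
    omega
  have hb' : K.index + 1 ≤ (⁅K, K⁆).relIndex D := by
    have := Nat.le_of_dvd (by omega) hd2
    omega
  have hstep := coh_descent_irr K hsolv hfpf τ hτ hτ1 ⁅K, K⁆ B K D hK₂lt hBK₂ (hBK₂.trans hK₂D) hDK le_rfl hcent hbase (by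
    rw [← hx, hxab]
    exact special_arith ha' hb' he0)
  refine coh_chain_irr K hnil hfpf τ hτ hτ1 B (hBK₂.trans hK₂K) hstep ?_
  have h1 : B.relIndex ⁅K, K⁆ * x = B.relIndex K := Subgroup.relIndex_mul_relIndex _ _ _ hBK₂ hK₂K
  have h2 : 2 ≤ B.relIndex ⁅K, K⁆ := by
    have h3 : B.relIndex ⁅K, K⁆ ≠ 1 := fun h => absurd (Subgroup.relIndex_eq_one.mp h) (not_le_of_gt hBlt)
    have h4 : B.relIndex ⁅K, K⁆ ≠ 0 := Subgroup.index_ne_zero_of_finite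
    omega
  rw [← h1]
  have h3 : 2 * ((K.index + 1) * (2 * K.index + 1)) ≤ B.relIndex ⁅K, K⁆ * x := Nat.mul_le_mul h2 hxlarge
  nlinarith

/-- **The main theorem on coherence of nilpotent Frobenius kernels.** -/
theorem frob_main (K : Subgroup L) [hK : K.Normal] (hK1 : K ≠ ⊥) (hnil : Group.IsNilpotent K)
    (hfpf : ∀ x : L, x ∉ K → ∀ k ∈ K, x * k = k * x → k = 1)
    (he : Nat.card K ≠ K.index + 1) (τ : (L → ℂ) → (G → ℂ))
    (hτ : IsLinearIsometryOn (zspanOn (inducedIrrAbove K ⊥) {1}ᶜ) τ)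
    (hτ1 : ∀ α ∈ zspanOn (inducedIrrAbove K ⊥) {1}ᶜ, τ α 1 = 0) :
    IsCoherent (inducedIrrAbove K ⊥) {1}ᶜ τ ∨
      ∃ p : ℕ, p.Prime ∧ (∃ m : ℕ, Nat.card K = p ^ m) ∧ ¬ IsMulCommutative K ∧
        (⁅K, K⁆.subgroupOf K).index ≤ 4 * K.index ^ 2 + 1 := by
  classical
  haveI := hnil
  have hsolv : Group.IsSolvable K := inferInstance
  have hK₂K : ⁅K, K⁆ ≤ K := Subgroup.commutator_le_left _ _
  have hcomm : ∀ a ∈ K, ∀ b ∈ K, a * b * a⁻¹ * b⁻¹ ∈ ⁅K, K⁆ := fun a ha b hb =>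
    Subgroup.commutator_mem_commutator ha hb
  have he0 : 0 < K.index := Nat.pos_of_ne_zero Subgroup.index_ne_zero_of_finite
  by_cases hab : ⁅K, K⁆ = ⊥
  · left
    have h1 : (⊥ : Subgroup L) < K := bot_lt_iff_ne_bot.mpr hK1
    refine coh_base_irr K hsolv hfpf τ hτ hτ1 ⊥ h1 (fun a ha b hb => ?_) ?_
    · rw [← hab]
      exact hcomm a ha b hb
    · rwa [Subgroup.relIndex_bot_left]
  have hna : ¬ IsMulCommutative K := by
    intro h
    apply hab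
    rw [eq_bot_iff, Subgroup.commutator_le]
    intro a ha b hb
    have h1 := h.is_comm.comm ⟨a, ha⟩ ⟨b, hb⟩
    have h2 : a * b = b * a := congrArg Subtype.val h1
    rw [Subgroup.mem_bot, commutatorElement_def, h2]
    group
  by_cases hpp : ∃ p m : ℕ, p.Prime ∧ Nat.card K = p ^ m
  · obtain ⟨p, m, hp, hm⟩ := hpp
    by_cases hx : (⁅K, K⁆.subgroupOf K).index ≤ 4 * K.index ^ 2 + 1
    · exact Or.inr ⟨p, hp, ⟨m, hm⟩, hna, hx⟩
    · left
      push Not at hx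
      have hx' : 4 * K.index ^ 2 + 1 < (⁅K, K⁆).relIndex K := hx
      have hK₂lt : ⁅K, K⁆ < K := commutator_lt_of_nilpotent hnil le_rfl hK1
      refine coh_chain_irr K hnil hfpf τ hτ hτ1 ⁅K, K⁆ hK₂K ?_ hx'
      refine coh_base_irr K hsolv hfpf τ hτ hτ1 ⁅K, K⁆ hK₂lt hcomm ?_
      intro h
      rw [h] at hx'
      nlinarith
  · exact Or.inl (frob_not_prime_power K hnil hfpf τ hτ hτ1 hab hpp)

end Cfsg.Agent.Lib.OddChar
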