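import Cfsg.Agent.Lib.OddChar.FrobSys
import Cfsg.Agent.Lib.Char.Galois
import Cfsg.Agent.Lib.Char.IndNormal
import Cfsg.Agent.Lib.Char.Exceptional

/-! # Groups partitioned by Frobenius kernels: abstract lemmas (parity, constancy, integrality). -/

set_option autoImplicit false

namespace Cfsg.Agent.Lib.OddChar

open Cfsg Cfsg.Agent.Lib.Char
open scoped ComplexConjugate

section Parity

variable {G : Type*} [Group G] [Fintype G]

private theorem classInner_conj_irr {R : G → ℂ} (hre : ∀ g, (R g).im = 0) (ψ : G → ℂ) :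
    classInner R (fun g => conj (ψ g)) = conj (classInner R ψ) := by
  have hR : ∀ g, conj (R g) = R g := fun g => Complex.conj_eq_iff_im.mpr (hre g)
  simp only [classInner, map_mul, map_sum, map_inv₀, Complex.conj_natCast, Complex.conj_conj, hR]

/-- In a group of odd order, real-valued virtual characters `R`, `R'` satisfy
`(R, R') ≡ (R, 1)(R', 1)` modulo `2`. -/
theorem parity_inner (hodd : Odd (Nat.card G)) {R R' : G → ℂ} (hR : IsGeneralizedCharacter G R)
    (hR' : IsGeneralizedCharacter G R') (hre : ∀ g, (R g).im = 0) (hre' : ∀ g, (R' g).im = 0) :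
    ∃ a b c : ℤ, classInner R (fun _ => 1) = a ∧ classInner R' (fun _ => 1) = b ∧ classInner R R' = c ∧
      Even (c - a * b) := by
  classical
  obtain ⟨c₁, hc₁, -⟩ := IsGeneralizedCharacter.exists_int_coeffs hR
  obtain ⟨c₂, hc₂, -⟩ := IsGeneralizedCharacter.exists_int_coeffs hR'
  let ψ₁ : IrrCharacter G := ⟨fun _ => 1, isIrrCharacter_one⟩
  let inv : IrrCharacter G → IrrCharacter G := fun ψ => ⟨fun g => conj ((ψ : G → ℂ) g), IsIrrCharacter.conj ψ.2⟩
  have hinv₁ : ∀ ψ, c₁ (inv ψ) = c₁ ψ := by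
    intro ψ
    have h1 := hc₁ (inv ψ)
    have h2 : classInner R ((inv ψ : IrrCharacter G) : G → ℂ) = conj (classInner R (ψ : G → ℂ)) :=
      classInner_conj_irr hre _
    rw [h2, hc₁ ψ] at h1
    rw [map_intCast] at h1
    exact_mod_cast h1.symm
  have hinv₂ : ∀ ψ, c₂ (inv ψ) = c₂ ψ := by
    intro ψ
    have h1 := hc₂ (inv ψ)
    have h2 : classInner R' ((inv ψ : IrrCharacter G) : G → ℂ) = conj (classInner R' (ψ : G → ℂ)) :=
      classInner_conj_irr hre' _
    rw [h2, hc₂ ψ] at h1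
    rw [map_intCast] at h1
    exact_mod_cast h1.symm
  have hsum : classInner R R' = ((∑ ψ : IrrCharacter G, c₁ ψ * c₂ ψ : ℤ) : ℂ) := by
    rw [classInner_eq_sum_coeffs R R' (IsGeneralizedCharacter.isClassFunction hR)
      (IsGeneralizedCharacter.isClassFunction hR')]
    push_cast
    refine Finset.sum_congr rfl fun ψ _ => ?_
    rw [hc₁ ψ, hc₂ ψ, map_intCast]
  refine ⟨c₁ ψ₁, c₂ ψ₁, _, hc₁ ψ₁, hc₂ ψ₁, hsum, ?_⟩
  have hsplit : ∑ ψ : IrrCharacter G, c₁ ψ * c₂ ψ =
      c₁ ψ₁ * c₂ ψ₁ + ∑ ψ ∈ Finset.univ.erase ψ₁, c₁ ψ * c₂ ψ := by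
    exact (Finset.add_sum_erase _ (fun ψ => c₁ ψ * c₂ ψ) (Finset.mem_univ ψ₁)).symm
  rw [hsplit, add_sub_cancel_left, even_iff_two_dvd]
  have h2 : ((2 : ℕ) : ℤ) ∣ ∑ ψ ∈ Finset.univ.erase ψ₁, c₁ ψ * c₂ ψ := by
    rw [← ZMod.intCast_zmod_eq_zero_iff_dvd]
    push_cast
    refine Finset.sum_involution (fun ψ _ => inv ψ) ?_ ?_ ?_ ?_
    · intro ψ _
      rw [hinv₁, hinv₂, ← two_mul]
      have : (2 : ZMod 2) = 0 := rfl
      rw [this, zero_mul]
    · intro ψ hψ _ he
      have hre2 : ∀ g, ((ψ : G → ℂ) g).im = 0 := by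
        intro g
        have h3 := congrFun (congrArg Subtype.val he) g
        exact Complex.conj_eq_iff_im.mp h3
      have h4 := eq_one_of_real_of_odd hodd ψ.2 hre2
      exact (Finset.mem_erase.mp hψ).1 (Subtype.ext h4)
    · intro ψ hψ
      refine Finset.mem_erase.mpr ⟨fun he => ?_, Finset.mem_univ _⟩
      apply (Finset.mem_erase.mp hψ).1
      apply Subtype.ext
      funext g
      have h3 := congrFun (congrArg Subtype.val he) g
      have h4 : conj ((ψ : G → ℂ) g) = 1 := h3
      have h5 := congrArg conj h4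
      simpa using h5
    · intro ψ _
      apply Subtype.ext
      funext g
      simp [inv]
  exact_mod_cast h2

end Parity

section Const

variable {L : Type*} [Group L] [Fintype L]

/-- A class function on a finite group with inner products against non-principal irreducible
characters proportional to degrees is constant off the identity. -/
theorem const_of_inner_degree {K : Type*} [Group K] [Fintype K] (f : K → ℂ) (hf : IsClassFunction K f)
    (C : ℂ) (hC : ∀ θ : IrrCharacter K, (θ : K → ℂ) ≠ (fun _ => 1) → classInner f (θ : K → ℂ) = C * (θ : K → ℂ) 1)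
    (x : K) (hx : x ≠ 1) : f x = classInner f (fun _ => 1) - C := by
  classical
  have h1 := congrFun (classFunction_eq_sum f hf) x
  have h2 := sum_irr_degree_mul_apply x
  rw [if_neg hx] at h2
  let θ₁ : IrrCharacter K := ⟨fun _ => 1, isIrrCharacter_one⟩
  rw [Finset.sum_apply] at h1
  simp only [Pi.smul_apply, smul_eq_mul] at h1
  rw [← Finset.add_sum_erase _ _ (Finset.mem_univ θ₁)] at h1 h2
  have h3 : ∑ θ ∈ Finset.univ.erase θ₁, classInner f (θ : K → ℂ) * (θ : K → ℂ) x =
      C * ∑ θ ∈ Finset.univ.erase θ₁, (θ : K → ℂ) 1 * (θ : K → ℂ) x := by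
    rw [Finset.mul_sum]
    refine Finset.sum_congr rfl fun θ hθ => ?_
    have hne : (θ : K → ℂ) ≠ (fun _ => 1) := fun h => (Finset.mem_erase.mp hθ).1 (Subtype.ext h)
    rw [hC θ hne, mul_assoc]
  rw [h3] at h1
  have h4 : ((θ₁ : K → ℂ) 1) * ((θ₁ : K → ℂ) x) = 1 := by simp [θ₁]
  have h5 : ((θ₁ : K → ℂ) x) = 1 := rfl
  rw [h4] at h2
  rw [h5, mul_one] at h1
  have h6 : (θ₁ : K → ℂ) = fun _ => 1 := rfl
  rw [h6] at h1
  rw [h1]
  linear_combination C * h2

/-- A virtual character constant off the identity has integral constant value, congruent to the degree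
modulo the group order. -/
theorem const_int {K : Type*} [Group K] [Fintype K] (f : K → ℂ) (hf : IsGeneralizedCharacter K f)
    (c : ℂ) (hc : ∀ x : K, x ≠ 1 → f x = c) (hK : Nontrivial K) :
    ∃ n m : ℤ, c = n ∧ f 1 = n + m * (Nat.card K : ℂ) := by
  classical
  obtain ⟨m, hm⟩ := IsGeneralizedCharacter.classInner_int hf
    (IsIrrCharacter.isGeneralizedCharacter (isIrrCharacter_one (G := K)))
  obtain ⟨x, hx⟩ := exists_ne (1 : K)
  have hcard : (Nat.card K : ℂ) ≠ 0 := by exact_mod_cast Nat.card_pos.ne'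
  have hsum : ∑ g : K, f g = f 1 + ((Nat.card K : ℂ) - 1) * c := by
    rw [← Finset.add_sum_erase _ _ (Finset.mem_univ (1 : K))]
    congr 1
    rw [Finset.sum_congr rfl (fun g hg => hc g (Finset.mem_erase.mp hg).1), Finset.sum_const,
      Finset.card_erase_of_mem (Finset.mem_univ _), Finset.card_univ, nsmul_eq_mul,
      Nat.card_eq_fintype_card]
    have : 1 ≤ Fintype.card K := Fintype.card_pos
    push_cast [this]
    ring
  have hm' : f 1 + ((Nat.card K : ℂ) - 1) * c = m * (Nat.card K : ℂ) := by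
    rw [← hsum]
    have : classInner f (fun _ => 1) = (Nat.card K : ℂ)⁻¹ * ∑ g : K, f g := by
      simp [classInner]
    rw [this] at hm
    field_simp at hm
    linear_combination hm
  obtain ⟨d, hd⟩ : ∃ d : ℤ, f 1 = d := by
    obtain ⟨a, b, ha, hb, e⟩ := hf
    obtain ⟨p, hp⟩ := IsCharacter.apply_one ha
    obtain ⟨q, hq⟩ := IsCharacter.apply_one hb
    refine ⟨(p : ℤ) - q, ?_⟩
    rw [e, Pi.sub_apply, hp, hq]
    push_cast
    rfl
  have hint : IsIntegral ℤ c := by
    rw [← hc x hx]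
    obtain ⟨a, b, ha, hb, e⟩ := hf
    rw [e, Pi.sub_apply]
    exact (IsCharacter.isIntegral ha x).sub (IsCharacter.isIntegral hb x)
  have hk2 : 1 < Nat.card K := Finite.one_lt_card
  have hne : ((Nat.card K : ℂ) - 1) ≠ 0 := by
    intro h
    have h1 : (Nat.card K : ℂ) = ((1 : ℕ) : ℂ) := by
      push_cast
      linear_combination h
    have h2 : Nat.card K = 1 := by exact_mod_cast h1
    omega
  have hq : ∃ q : ℚ, c = q := by
    refine ⟨((m : ℚ) * (Nat.card K : ℚ) - d) / ((Nat.card K : ℚ) - 1), ?_⟩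
    push_cast
    rw [eq_div_iff hne]
    rw [hd] at hm'
    linear_combination hm'
  obtain ⟨n, hn⟩ := int_of_isIntegral_of_rat hint hq
  refine ⟨n, m - n, hn, ?_⟩
  push_cast
  rw [hn] at hm'
  linear_combination hm'

end Const

end Cfsg.Agent.Lib.OddChar
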