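import Cfsg.Agent.Lib.OddChar.PartA
import Cfsg.Agent.Lib.OddChar.FrobEnd
import Cfsg.Agent.Lib.OddChar.ThompsonFpf
import Cfsg.Agent.S1529

/-! # Groups partitioned by Frobenius kernels: the coherent data attached to one kernel. -/

set_option autoImplicit false

namespace Cfsg.Agent.Lib.OddChar

open Cfsg Cfsg.Agent.Lib.Char
open scoped ComplexConjugate

section Abstract

variable {L : Type*} [Group L] [Fintype L] (K : Subgroup L) [hK : K.Normal]

/-- A class function on `L` orthogonal to the virtual characters of degree zero in `ℤ S(⊥)` is constant on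
`K` minus the identity. -/
theorem const_of_orth (f : L → ℂ) (hf : IsClassFunction L f)
    (h : ∀ β ∈ Cfsg.zspan (Cfsg.inducedIrrAbove K ⊥), β 1 = 0 → classInner f β = 0) :
    ∃ c : ℂ, ∀ x ∈ K, x ≠ 1 → f x = c := by
  classical
  haveI : Fintype K := Fintype.ofFinite _
  let fK : K → ℂ := fun k => f k
  have hfK : IsClassFunction K fK := by
    intro g k
    show f ((k * g * k⁻¹ : K) : L) = f g
    have := hf g k
    simpa using this
  have hmem : ∀ θ : IrrCharacter K, (θ : K → ℂ) ≠ (fun _ => 1) → indFun K (θ : K → ℂ) ∈ Cfsg.inducedIrrAbove K ⊥ := by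
    intro θ hθ
    refine ⟨θ, θ.2, hθ, fun a ha => ?_, rfl⟩
    have h1 : a = 1 := Subtype.ext (Subgroup.mem_bot.mp ha)
    rw [h1]
  have hz : ∀ θ : IrrCharacter K, (θ : K → ℂ) ≠ (fun _ => 1) → indFun K (θ : K → ℂ) ∈ Cfsg.zspan (Cfsg.inducedIrrAbove K ⊥) :=
    fun θ hθ => Submodule.subset_span (hmem θ hθ)
  have key : ∃ C : ℂ, ∀ θ : IrrCharacter K, (θ : K → ℂ) ≠ (fun _ => 1) → classInner fK (θ : K → ℂ) = C * (θ : K → ℂ) 1 := by
    by_cases hex : ∃ θ₀ : IrrCharacter K, (θ₀ : K → ℂ) ≠ (fun _ => 1)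
    · obtain ⟨θ₀, hθ₀⟩ := hex
      obtain ⟨b, hb0, hb⟩ := IsIrrCharacter.apply_one θ₀.2
      have hbne : (b : ℂ) ≠ 0 := by exact_mod_cast hb0.ne'
      refine ⟨classInner fK (θ₀ : K → ℂ) / b, fun θ hθ => ?_⟩
      obtain ⟨a, ha0, ha⟩ := IsIrrCharacter.apply_one θ.2
      have hβ := h ((b : ℤ) • indFun K (θ : K → ℂ) + (-(a : ℤ)) • indFun K (θ₀ : K → ℂ))
        (Submodule.add_mem _ (Submodule.smul_mem _ _ (hz θ hθ)) (Submodule.smul_mem _ _ (hz θ₀ hθ₀)))
        (by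
          have hz' : ∀ (n : ℤ) (f : L → ℂ) (x : L), (n • f) x = (n : ℂ) * f x := by
            intro n f x
            simp
          rw [Pi.add_apply, hz', hz', indFun_one, indFun_one, ha, hb]
          push_cast
          ring)
      rw [classInner_add_right, classInner_zsmul_right, classInner_zsmul_right,
        classInner_indFun_right K _ f hf, classInner_indFun_right K _ f hf] at hβ
      rw [ha]
      push_cast at hβ
      field_simp
      linear_combination hβ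
    · push Not at hex
      exact ⟨0, fun θ hθ => absurd (hex θ) hθ⟩
  obtain ⟨C, hC⟩ := key
  refine ⟨classInner fK (fun _ => 1) - C, fun x hx hx1 => ?_⟩
  exact const_of_inner_degree fK hfK C hC ⟨x, hx⟩ (fun h => hx1 (congrArg Subtype.val h))

omit hK in
/-- Members of `S(⊥)` are orthogonal to the principal character. -/
theorem above_inner_one {φ : L → ℂ} (hφ : φ ∈ Cfsg.inducedIrrAbove K ⊥) : classInner φ (fun _ => 1) = 0 := by
  classical
  haveI : Fintype K := Fintype.ofFinite _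
  obtain ⟨θ, hθ, hθ1, -, rfl⟩ := hφ
  rw [classInner_indFun_left K θ _ (fun _ _ => rfl)]
  exact classInner_irr_of_ne hθ isIrrCharacter_one hθ1

end Abstract

section Geom

variable {G : Type*} [Group G]

/-- The geometric hypotheses on one kernel. -/
structure FrobGeom (H L : Subgroup G) : Prop where
  lt : H < L
  ne_bot : H ≠ ⊥
  norm : ∀ x ∈ L, ∀ h ∈ H, x * h * x⁻¹ ∈ H
  frob : ∀ h ∈ H, h ≠ 1 → L ⊓ Subgroup.centralizer ({h} : Set G) ≤ H
  ti : IsTISubset (H : Set G)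
  nrm : Subgroup.normalizer (H : Set G) = L

variable {H L : Subgroup G}

theorem FrobGeom.normal (g : FrobGeom H L) : (H.subgroupOf L).Normal := by
  constructor
  intro n hn x
  rw [Subgroup.mem_subgroupOf] at hn ⊢
  exact g.norm x x.2 n hn

theorem FrobGeom.fpf (g : FrobGeom H L) :
    ∀ x : L, x ∉ H.subgroupOf L → ∀ k ∈ H.subgroupOf L, x * k = k * x → k = 1 := by
  intro x hx k hk hcomm
  by_contra hk1
  apply hx
  rw [Subgroup.mem_subgroupOf]
  have hkK : (k : G) ∈ H := Subgroup.mem_subgroupOf.mp hk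
  have hk1' : (k : G) ≠ 1 := fun h => hk1 (Subtype.ext h)
  apply g.frob k hkK hk1'
  refine ⟨x.2, Subgroup.mem_centralizer_iff.mpr ?_⟩
  intro y hy
  have hy' : y = k := by simpa using hy
  rw [hy']
  exact (congrArg Subtype.val hcomm).symm

theorem FrobGeom.ti' (g : FrobGeom H L) : ∀ x : G, x ∉ L → ∀ t ∈ (H : Set G), x * t * x⁻¹ ∈ (H : Set G) → t = 1 := by
  intro x hx t ht h
  rw [← g.nrm] at hx
  exact g.ti x hx t ht h

theorem FrobGeom.nilpotent [Finite G] (g : FrobGeom H L) : Group.IsNilpotent H := by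
  classical
  haveI := g.normal
  have hfpf := g.fpf
  have hle := g.lt.le
  obtain ⟨x, hx, hx'⟩ := SetLike.exists_of_lt g.lt
  have hxK : (⟨x, hx⟩ : L) ∉ H.subgroupOf L := by
    rw [Subgroup.mem_subgroupOf]
    exact hx'
  have hdvd := orderOf_dvd_index_of_fpf hfpf hxK
  have hcop := coprime_index_of_fpf hfpf
  have hord : orderOf (⟨x, hx⟩ : L) ≠ 1 := by
    intro h
    apply hxK
    rw [orderOf_eq_one_iff.mp h]
    exact Subgroup.one_mem _
  let p := (orderOf (⟨x, hx⟩ : L)).minFac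
  have hp : p.Prime := Nat.minFac_prime hord
  have hpd : p ∣ orderOf (⟨x, hx⟩ : L) := Nat.minFac_dvd _
  let k : L := (⟨x, hx⟩ : L) ^ (orderOf (⟨x, hx⟩ : L) / p)
  have hko : orderOf k = p := orderOf_pow_orderOf_div (orderOf_pos _).ne' hpd
  have hkp : k ^ p = 1 := by rw [← hko]; exact pow_orderOf_eq_one k
  have hkK : k ∉ H.subgroupOf L := by
    intro hk
    have h1 : orderOf k ∣ Nat.card (H.subgroupOf L) := Subgroup.orderOf_dvd_natCard _ hk
    rw [hko] at h1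
    have h2 : p ∣ (H.subgroupOf L).index := hpd.trans hdvd
    exact hp.one_lt.ne' (Nat.eq_one_of_dvd_coprimes hcop h1 h2)
  have hnil : Group.IsNilpotent (H.subgroupOf L) :=
    nilpotent_of_fpf_element (H.subgroupOf L) hp hkp (fun h hh hc => hfpf k hkK h hh hc)
  exact nilpotent_of_surjective (Subgroup.subgroupOfEquivOfLe hle).toMonoidHom
    (Subgroup.subgroupOfEquivOfLe hle).surjective

variable [Fintype G]

theorem FrobGeom.coherent [Fintype L] (hodd : Odd (Nat.card G)) (g : FrobGeom H L) :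
    IsCoherent (Cfsg.inducedIrrAbove (H.subgroupOf L) ⊥) {1}ᶜ (fun α => indFun L α) := by
  classical
  haveI hKn := g.normal
  have hfpf := g.fpf
  have hle := g.lt.le
  have hlt := g.lt
  let K : Subgroup L := H.subgroupOf L
  have hnil := g.nilpotent
  have hoddL : Odd (Nat.card L) := Odd.of_dvd_nat hodd (Subgroup.card_subgroup_dvd_card L)
  obtain ⟨W, hW⟩ := Subgroup.exists_right_complement'_of_coprime (coprime_index_of_fpf hfpf)
  have hdisj := hW.disjoint
  have hsup := hW.sup_eq_top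
  have hKtop : K ≠ ⊤ := by
    intro h
    obtain ⟨x, hx, hx'⟩ := SetLike.exists_of_lt hlt
    apply hx'
    have : (⟨x, hx⟩ : L) ∈ K := by rw [h]; trivial
    exact this
  let W₁ : Subgroup G := W.map L.subtype
  have hW₁N : W₁ ≤ L := Subgroup.map_subtype_le W
  have hW1 : W₁ ≠ ⊥ := by
    intro h
    have h1 : W = ⊥ := (Subgroup.map_eq_bot_iff_of_injective W L.subtype_injective).mp h
    rw [h1, sup_bot_eq] at hsup
    exact hKtop hsup
  have hinf : H ⊓ W₁ = ⊥ := by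
    rw [eq_bot_iff]
    rintro x ⟨hx1, w, hw, rfl⟩
    have h1 : w ∈ K ⊓ W := ⟨hx1, hw⟩
    rw [hdisj.eq_bot] at h1
    have h2 : w = 1 := h1
    rw [h2]
    exact Subgroup.one_mem _
  have hsup' : H ⊔ W₁ = L := by
    have e : K.map L.subtype = H := Subgroup.map_subgroupOf_eq_of_le hle
    have h1 := congrArg (Subgroup.map L.subtype) hsup
    rw [Subgroup.map_sup, e, ← MonoidHom.range_eq_map, Subgroup.range_subtype] at h1
    exact h1
  have hfpf' : ∀ w ∈ W₁, w ≠ 1 → ∀ h ∈ H, w * h = h * w → h = 1 := by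
    rintro _ ⟨w, hw, rfl⟩ hw1 h hh hcomm
    have hwK : w ∉ K := by
      intro hk
      have h1 : w ∈ K ⊓ W := ⟨hk, hw⟩
      rw [hdisj.eq_bot] at h1
      have h2 : w = 1 := h1
      apply hw1
      rw [h2]
      rfl
    have := hfpf w hwK ⟨h, hle hh⟩ hh (Subtype.ext hcomm)
    exact congrArg Subtype.val this
  exact Cfsg.Agent.S1524.result H L W₁ hoddL hle hW₁N g.ne_bot hW1 hnil g.norm hinf hsup' hfpf' g.ti g.nrm

/-- The coherent data attached to one kernel. -/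
structure Piece (H L : Subgroup G) [Fintype L] where
  τ : (L → ℂ) → (G → ℂ)
  ε : ℂ
  χ₀ : L → ℂ
  hε : ε = 1 ∨ ε = -1
  iso : IsLinearIsometryOn (Cfsg.zspan (Cfsg.inducedIrrAbove (H.subgroupOf L) ⊥)) τ
  agree : ∀ α ∈ Cfsg.zspanOn (Cfsg.inducedIrrAbove (H.subgroupOf L) ⊥) {1}ᶜ, τ α = indFun L α
  irr : ∀ χ ∈ Cfsg.inducedIrrAbove (H.subgroupOf L) ⊥, IsIrrCharacter G (ε • τ χ)
  inj : ∀ χ ∈ Cfsg.inducedIrrAbove (H.subgroupOf L) ⊥, ∀ ψ ∈ Cfsg.inducedIrrAbove (H.subgroupOf L) ⊥, τ χ = τ ψ → χ = ψ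
  mem : χ₀ ∈ Cfsg.inducedIrrAbove (H.subgroupOf L) ⊥
  deg : χ₀ 1 = ((H.subgroupOf L).index : ℂ)
  geom : FrobGeom H L
  other : ∀ χ ∈ Cfsg.inducedIrrAbove (H.subgroupOf L) ⊥, ∃ χ₁ ∈ Cfsg.inducedIrrAbove (H.subgroupOf L) ⊥, χ₁ ≠ χ

theorem exists_conj_ne {L' : Type*} [Group L'] [Fintype L'] (K : Subgroup L') [K.Normal] (hodd : Odd (Nat.card L'))
    (hfpf : ∀ x : L', x ∉ K → ∀ k ∈ K, x * k = k * x → k = 1) {χ : L' → ℂ} (hχ : χ ∈ Cfsg.inducedIrrAbove K ⊥) :
    Cfsg.conjFun χ ∈ Cfsg.inducedIrrAbove K ⊥ ∧ Cfsg.conjFun χ ≠ χ := by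
  refine ⟨inducedIrrAbove_conj K hχ, fun h => ?_⟩
  have hirr := frob_irr K hfpf hχ
  have hre : ∀ g, (χ g).im = 0 := by
    intro g
    exact Complex.conj_eq_iff_im.mp (congrFun h g)
  have h1 := eq_one_of_real_of_odd hodd hirr hre
  have h2 := above_inner_one K hχ
  rw [h1, classInner_irr_self isIrrCharacter_one] at h2
  exact one_ne_zero h2

theorem FrobGeom.exists_piece [Fintype L] (hodd : Odd (Nat.card G)) (g : FrobGeom H L) : Nonempty (Piece H L) := by
  classical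
  haveI hKn := g.normal
  have hfpf := g.fpf
  have hoddL : Odd (Nat.card L) := Odd.of_dvd_nat hodd (Subgroup.card_subgroup_dvd_card L)
  obtain ⟨-, τ, hτ, hag⟩ := g.coherent hodd
  haveI : Fintype (H.subgroupOf L) := Fintype.ofFinite _
  haveI hnil : Group.IsNilpotent H := g.nilpotent
  haveI hnilK : Group.IsNilpotent (H.subgroupOf L) :=
    nilpotent_of_surjective (Subgroup.subgroupOfEquivOfLe g.lt.le).symm.toMonoidHom
      (Subgroup.subgroupOfEquivOfLe g.lt.le).symm.surjective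
  have hKnt : (⊥ : Subgroup (H.subgroupOf L)) ≠ ⊤ := by
    intro h
    apply g.ne_bot
    rw [eq_bot_iff]
    intro x hx
    have h1 : (⟨⟨x, g.lt.le hx⟩, hx⟩ : H.subgroupOf L) ∈ (⊥ : Subgroup (H.subgroupOf L)) := by
      rw [h]; trivial
    have h2 := Subgroup.mem_bot.mp h1
    have h3 := congrArg (fun y : H.subgroupOf L => ((y : L) : G)) h2
    exact Subgroup.mem_bot.mpr h3
  obtain ⟨lam, hlam, -⟩ := exists_linear_trivial_on (K := H.subgroupOf L) ⊥ hKnt
  let θ₀ : H.subgroupOf L → ℂ := fun k => (lam k : ℂ)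
  have hθ₀ : IsIrrCharacter (H.subgroupOf L) θ₀ := isIrrCharacter_of_monoidHom lam
  have hθ₀1 : θ₀ ≠ fun _ => 1 := by
    intro h
    apply hlam
    ext k
    have := congrFun h k
    simpa [θ₀] using this
  let χ₀ : L → ℂ := indFun (H.subgroupOf L) θ₀
  have hχ₀ : χ₀ ∈ Cfsg.inducedIrrAbove (H.subgroupOf L) ⊥ := by
    refine ⟨θ₀, hθ₀, hθ₀1, fun a ha => ?_, rfl⟩
    have h1 : a = 1 := Subtype.ext (Subgroup.mem_bot.mp ha)
    rw [h1]
  have hdeg : χ₀ 1 = ((H.subgroupOf L).index : ℂ) := by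
    show indFun (H.subgroupOf L) θ₀ 1 = _
    rw [indFun_one]
    simp [θ₀]
  obtain ⟨hconj, hne⟩ := exists_conj_ne (H.subgroupOf L) hoddL hfpf hχ₀
  have h0 : ∀ α ∈ Cfsg.zspan (Cfsg.inducedIrrAbove (H.subgroupOf L) ⊥), α 1 = 0 → τ α 1 = 0 := by
    intro α hα hα1
    have hmem : α ∈ Cfsg.zspanOn (Cfsg.inducedIrrAbove (H.subgroupOf L) ⊥) {1}ᶜ := by
      refine ⟨hα, fun x hx => ?_⟩
      have : x = 1 := by simpa using hx
      rw [this, hα1]
    rw [hag α hmem]
    show indFun L α 1 = 0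
    rw [indFun_one, hα1, mul_zero]
  obtain ⟨ε, hε, hirr, hinj⟩ := Cfsg.Agent.S1529.result L (Cfsg.inducedIrrAbove (H.subgroupOf L) ⊥)
    (fun χ hχ => frob_irr _ hfpf hχ) ⟨χ₀, hχ₀, _, hconj, hne.symm⟩ τ hτ h0
  exact ⟨⟨τ, ε, χ₀, hε, hτ, hag, hirr, hinj, hχ₀, hdeg, g, fun χ hχ =>
    ⟨_, (exists_conj_ne (H.subgroupOf L) hoddL hfpf hχ).1, (exists_conj_ne (H.subgroupOf L) hoddL hfpf hχ).2⟩⟩⟩

end Geom

end Cfsg.Agent.Lib.OddChar
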