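import Cfsg.Agent.Lib.OddChar.PartB

/-! # Groups partitioned by Frobenius kernels: orthogonality and constancy for the coherent data. -/

set_option autoImplicit false

namespace Cfsg.Agent.Lib.OddChar

open Cfsg Cfsg.Agent.Lib.Char
open scoped ComplexConjugate

section

variable {G : Type*} [Group G] [Fintype G] {H L H' L' : Subgroup G} [Fintype L] [Fintype L']

theorem zspan_inner_one {L₀ : Type*} [Group L₀] [Fintype L₀] (K : Subgroup L₀) {α : L₀ → ℂ}
    (hα : α ∈ Cfsg.zspan (Cfsg.inducedIrrAbove K ⊥)) : classInner α (fun _ => 1) = 0 := by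
  have hα' : α ∈ (Submodule.span ℤ (Cfsg.inducedIrrAbove K ⊥) : Submodule ℤ (L₀ → ℂ)) := hα
  induction hα' using Submodule.span_induction with
  | mem y hy => exact above_inner_one K hy
  | zero => exact classInner_zero_left _
  | add a b _ _ ha hb =>
    rw [classInner_add_left, ha (by assumption), hb (by assumption), add_zero]
  | smul n a _ ha =>
    rw [classInner_zsmul_left, ha (by assumption), mul_zero]

namespace Piece

variable (P : Piece H L) (P' : Piece H' L')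

theorem ε_mul : P.ε * P.ε = 1 := by
  rcases P.hε with h | h <;> simp [h]

theorem ε_conj : conj P.ε = P.ε := by
  rcases P.hε with h | h <;> simp [h]

theorem ε_ne : P.ε ≠ 0 := by
  rcases P.hε with h | h <;> simp [h]

include P in
theorem memz {χ : L → ℂ} (hχ : χ ∈ Cfsg.inducedIrrAbove (H.subgroupOf L) ⊥) :
    χ ∈ Cfsg.zspan (Cfsg.inducedIrrAbove (H.subgroupOf L) ⊥) := Submodule.subset_span hχ

include P in
theorem irrL {χ : L → ℂ} (hχ : χ ∈ Cfsg.inducedIrrAbove (H.subgroupOf L) ⊥) : IsIrrCharacter L χ := by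
  haveI := P.geom.normal
  exact frob_irr _ P.geom.fpf hχ

theorem smul_smul_tau (χ : L → ℂ) : P.ε • (P.ε • P.τ χ) = P.τ χ := by
  rw [smul_smul, P.ε_mul, one_smul]

theorem smul_cancel {χ ψ : L → ℂ} (h : P.ε • P.τ χ = P.ε • P.τ ψ) : P.τ χ = P.τ ψ := by
  rw [← P.smul_smul_tau χ, h, P.smul_smul_tau]

theorem inner_left (χ : L → ℂ) (ψ : G → ℂ) :
    classInner (P.τ χ) ψ = P.ε * classInner (P.ε • P.τ χ) ψ := by
  rw [classInner_smul_left, ← mul_assoc, P.ε_mul, one_mul]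

theorem inner_scaled (χ : L → ℂ) (χ' : L' → ℂ) :
    classInner (P.τ χ) (P'.τ χ') = P.ε * P'.ε * classInner (P.ε • P.τ χ) (P'.ε • P'.τ χ') := by
  rw [classInner_smul_left, classInner_smul_right, P'.ε_conj]
  linear_combination (-(classInner (P.τ χ) (P'.τ χ')) * (P'.ε * P'.ε)) * P.ε_mul - classInner (P.τ χ) (P'.τ χ') * P'.ε_mul

/-- `τ` on a degree-zero combination of two members. -/
theorem tau_comb {χ₁ χ₂ : L → ℂ} (h₁ : χ₁ ∈ Cfsg.inducedIrrAbove (H.subgroupOf L) ⊥)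
    (h₂ : χ₂ ∈ Cfsg.inducedIrrAbove (H.subgroupOf L) ⊥) (a₁ a₂ : ℤ) (e₁ : χ₁ 1 = a₁) (e₂ : χ₂ 1 = a₂) :
    a₂ • P.τ χ₁ + (-a₁) • P.τ χ₂ = indFun L (a₂ • χ₁ + (-a₁) • χ₂) := by
  obtain ⟨hadd, hsmul, -, -⟩ := P.iso
  have hz : ∀ (n : ℤ) (f : L → ℂ) (x : L), (n • f) x = (n : ℂ) * f x := by
    intro n f x
    simp
  have hmem : a₂ • χ₁ + (-a₁) • χ₂ ∈ Cfsg.zspanOn (Cfsg.inducedIrrAbove (H.subgroupOf L) ⊥) {1}ᶜ := by
    refine ⟨Submodule.add_mem _ (Submodule.smul_mem _ _ (P.memz h₁)) (Submodule.smul_mem _ _ (P.memz h₂)), fun x hx => ?_⟩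
    have hx1 : x = 1 := by simpa using hx
    rw [hx1, Pi.add_apply, hz, hz, e₁, e₂]
    push_cast
    ring
  rw [← P.agree _ hmem, hadd _ (Submodule.smul_mem _ _ (P.memz h₁)) _ (Submodule.smul_mem _ _ (P.memz h₂)),
    hsmul _ (P.memz h₁), hsmul _ (P.memz h₂)]

include P in
theorem exists_degree {χ : L → ℂ} (hχ : χ ∈ Cfsg.inducedIrrAbove (H.subgroupOf L) ⊥) :
    ∃ a : ℕ, 0 < a ∧ χ 1 = a := IsIrrCharacter.apply_one (P.irrL hχ)

/-- Orthogonality to an irreducible character follows from orthogonality to the degree-zero part. -/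
theorem inner_eq_zero_of_orth {ψ : G → ℂ} (hψ : IsIrrCharacter G ψ)
    (h : ∀ α ∈ Cfsg.zspan (Cfsg.inducedIrrAbove (H.subgroupOf L) ⊥), α 1 = 0 → classInner (indFun L α) ψ = 0)
    {χ : L → ℂ} (hχ : χ ∈ Cfsg.inducedIrrAbove (H.subgroupOf L) ⊥) : classInner (P.τ χ) ψ = 0 := by
  by_contra hne
  have hμ : P.ε • P.τ χ = ψ := by
    by_contra hc
    apply hne
    rw [P.inner_left, classInner_irr_of_ne (P.irr χ hχ) hψ hc, mul_zero]
  obtain ⟨χ₁, hχ₁, hne₁⟩ := P.other χ hχ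
  have h2 : P.ε • P.τ χ₁ ≠ ψ := by
    intro hc
    rw [← hμ] at hc
    exact hne₁ (P.inj _ hχ₁ _ hχ (P.smul_cancel hc))
  have h3 : classInner (P.τ χ₁) ψ = 0 := by
    rw [P.inner_left, classInner_irr_of_ne (P.irr χ₁ hχ₁) hψ h2, mul_zero]
  have h4 : classInner (P.τ χ) ψ = P.ε := by
    rw [P.inner_left, hμ, classInner_irr_self hψ, mul_one]
  obtain ⟨a, ha0, ha⟩ := P.exists_degree hχ
  obtain ⟨a₁, ha₁0, ha₁⟩ := P.exists_degree hχ₁
  have hc := P.tau_comb hχ hχ₁ a a₁ (by simpa using ha) (by simpa using ha₁)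
  have hz : ∀ (n : ℤ) (f : L → ℂ) (x : L), (n • f) x = (n : ℂ) * f x := by
    intro n f x
    simp
  have h5 := h ((a₁ : ℤ) • χ + (-(a : ℤ)) • χ₁)
    (Submodule.add_mem _ (Submodule.smul_mem _ _ (P.memz hχ)) (Submodule.smul_mem _ _ (P.memz hχ₁)))
    (by
      rw [Pi.add_apply, hz, hz, ha, ha₁]
      push_cast
      ring)
  rw [← hc, classInner_add_left, classInner_zsmul_left, classInner_zsmul_left, h3, h4, mul_zero, add_zero] at h5
  have h6 : (a₁ : ℂ) ≠ 0 := by exact_mod_cast ha₁0.ne'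
  exact (mul_ne_zero (by simpa using h6) P.ε_ne) h5

/-- `τ` of a member is orthogonal to the principal character. -/
theorem inner_one {χ : L → ℂ} (hχ : χ ∈ Cfsg.inducedIrrAbove (H.subgroupOf L) ⊥) :
    classInner (P.τ χ) (fun _ => 1) = 0 := by
  refine P.inner_eq_zero_of_orth isIrrCharacter_one (fun α hα _ => ?_) hχ
  rw [classInner_indFun_left L α _ (fun _ _ => rfl)]
  exact zspan_inner_one _ hα

/-- Orthogonality of the coherent images of two kernels. -/
theorem cross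
    (hdisj : ∀ α ∈ Cfsg.zspan (Cfsg.inducedIrrAbove (H.subgroupOf L) ⊥), α 1 = 0 →
      ∀ β ∈ Cfsg.zspan (Cfsg.inducedIrrAbove (H'.subgroupOf L') ⊥), β 1 = 0 → classInner (indFun L α) (indFun L' β) = 0)
    {χ : L → ℂ} (hχ : χ ∈ Cfsg.inducedIrrAbove (H.subgroupOf L) ⊥)
    {χ' : L' → ℂ} (hχ' : χ' ∈ Cfsg.inducedIrrAbove (H'.subgroupOf L') ⊥) :
    classInner (P.τ χ) (P'.τ χ') = 0 := by
  by_cases hM : P.ε • P.τ χ = P'.ε • P'.τ χ'
  · exfalso
    obtain ⟨χ₁, hχ₁, hne₁⟩ := P.other χ hχ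
    obtain ⟨χ₁', hχ₁', hne₁'⟩ := P'.other χ' hχ'
    have hs : P.ε * P'.ε ≠ 0 := mul_ne_zero P.ε_ne P'.ε_ne
    have h1 : classInner (P.τ χ) (P'.τ χ') = P.ε * P'.ε := by
      rw [P.inner_scaled P', hM, classInner_irr_self (P'.irr χ' hχ'), mul_one]
    have h2 : classInner (P.τ χ) (P'.τ χ₁') = 0 := by
      rw [P.inner_scaled P', hM, classInner_irr_of_ne (P'.irr χ' hχ') (P'.irr χ₁' hχ₁') ?_, mul_zero]
      intro hc
      exact hne₁' (P'.inj _ hχ₁' _ hχ' (P'.smul_cancel hc.symm))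
    have h3 : classInner (P.τ χ₁) (P'.τ χ') = 0 := by
      rw [P.inner_scaled P', ← hM, classInner_irr_of_ne (P.irr χ₁ hχ₁) (P.irr χ hχ) ?_, mul_zero]
      intro hc
      exact hne₁ (P.inj _ hχ₁ _ hχ (P.smul_cancel hc))
    have h4 : ∃ d : ℕ, classInner (P.τ χ₁) (P'.τ χ₁') = P.ε * P'.ε * d := by
      rw [P.inner_scaled P']
      by_cases hc : P.ε • P.τ χ₁ = P'.ε • P'.τ χ₁'
      · refine ⟨1, ?_⟩
        rw [hc, classInner_irr_self (P'.irr χ₁' hχ₁')]
        simp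
      · refine ⟨0, ?_⟩
        rw [classInner_irr_of_ne (P.irr χ₁ hχ₁) (P'.irr χ₁' hχ₁') hc]
        simp
    obtain ⟨d, hd⟩ := h4
    obtain ⟨a, ha0, ha⟩ := P.exists_degree hχ
    obtain ⟨a₁, ha₁0, ha₁⟩ := P.exists_degree hχ₁
    obtain ⟨b, hb0, hb⟩ := P'.exists_degree hχ'
    obtain ⟨b₁, hb₁0, hb₁⟩ := P'.exists_degree hχ₁'
    have hc := P.tau_comb hχ hχ₁ a a₁ (by simpa using ha) (by simpa using ha₁)
    have hc' := P'.tau_comb hχ' hχ₁' b b₁ (by simpa using hb) (by simpa using hb₁)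
    have hz : ∀ {X : Type _} (n : ℤ) (f : X → ℂ) (x : X), (n • f) x = (n : ℂ) * f x := by
      intro X n f x
      simp
    have h5 := hdisj ((a₁ : ℤ) • χ + (-(a : ℤ)) • χ₁)
      (Submodule.add_mem _ (Submodule.smul_mem _ _ (P.memz hχ)) (Submodule.smul_mem _ _ (P.memz hχ₁)))
      (by
        rw [Pi.add_apply, hz, hz, ha, ha₁]
        push_cast
        ring)
      ((b₁ : ℤ) • χ' + (-(b : ℤ)) • χ₁')
      (Submodule.add_mem _ (Submodule.smul_mem _ _ (P'.memz hχ')) (Submodule.smul_mem _ _ (P'.memz hχ₁')))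
      (by
        rw [Pi.add_apply, hz, hz, hb, hb₁]
        push_cast
        ring)
    rw [← hc, ← hc'] at h5
    simp only [classInner_add_left, classInner_add_right, classInner_zsmul_left, classInner_zsmul_right] at h5
    rw [h1, h2, h3, hd] at h5
    push_cast at h5
    have h6 : ((a₁ * b₁ + a * b * d : ℕ) : ℂ) = 0 := by
      apply mul_left_cancel₀ hs
      push_cast
      linear_combination h5
    have h7 : a₁ * b₁ + a * b * d = 0 := by exact_mod_cast h6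
    have h8 : 0 < a₁ * b₁ := Nat.mul_pos ha₁0 hb₁0
    omega
  · rw [P.inner_scaled P', classInner_irr_of_ne (P.irr χ hχ) (P'.irr χ' hχ') hM, mul_zero]

/-- `τ` is additive on `ℤ S`: a functional vanishing on `τ S` vanishes on `τ (ℤ S)`. -/
theorem inner_tau_zspan (u : G → ℂ) (hu : ∀ χ ∈ Cfsg.inducedIrrAbove (H.subgroupOf L) ⊥, classInner u (P.τ χ) = 0)
    {β : L → ℂ} (hβ : β ∈ Cfsg.zspan (Cfsg.inducedIrrAbove (H.subgroupOf L) ⊥)) : classInner u (P.τ β) = 0 := by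
  obtain ⟨hadd, hsmul, -, -⟩ := P.iso
  have hβ' : β ∈ (Submodule.span ℤ (Cfsg.inducedIrrAbove (H.subgroupOf L) ⊥) : Submodule ℤ (L → ℂ)) := hβ
  induction hβ' using Submodule.span_induction with
  | mem y hy => exact hu y hy
  | zero =>
    have h1 := hsmul 0 (Submodule.zero_mem _) 0
    rw [zero_smul, zero_smul] at h1
    rw [h1, classInner_zero_right]
  | add a b ha' hb' ha hb =>
    rw [hadd a ha' b hb', classInner_add_right, ha ha', hb hb', add_zero]
  | smul n a ha' ha =>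
    rw [hsmul a ha' n, classInner_zsmul_right, ha ha', mul_zero]

/-- A class function orthogonal to `τ S` is constant on the kernel minus the identity. -/
theorem const_of_inner (u : G → ℂ) (hucl : IsClassFunction G u)
    (hu : ∀ χ ∈ Cfsg.inducedIrrAbove (H.subgroupOf L) ⊥, classInner u (P.τ χ) = 0) :
    ∃ c : ℂ, ∀ x ∈ H, x ≠ 1 → u x = c := by
  haveI := P.geom.normal
  have hle := P.geom.lt.le
  have hf : IsClassFunction L (fun x : L => u x) := by
    intro g k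
    show u ((k * g * k⁻¹ : L) : G) = u g
    have := hucl g k
    simpa using this
  obtain ⟨c, hc⟩ := const_of_orth (H.subgroupOf L) (fun x : L => u x) hf (by
    intro β hβ hβ1
    have hmem : β ∈ Cfsg.zspanOn (Cfsg.inducedIrrAbove (H.subgroupOf L) ⊥) {1}ᶜ := by
      refine ⟨hβ, fun x hx => ?_⟩
      have hx1 : x = 1 := by simpa using hx
      rw [hx1, hβ1]
    rw [← classInner_indFun_right L β u hucl, ← P.agree β hmem]
    exact P.inner_tau_zspan u hu hβ)
  refine ⟨c, fun x hx hx1 => ?_⟩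
  exact hc ⟨x, hle hx⟩ hx (fun h => hx1 (congrArg Subtype.val h))

/-- On the kernel minus the identity, `τ χ₀ - χ₀` is constant. -/
theorem const_self : ∃ c : ℂ, ∀ x : L, (x : G) ∈ H → x ≠ 1 → P.τ P.χ₀ x - P.χ₀ x = c := by
  haveI := P.geom.normal
  have hvirt := P.iso.2.2.2 _ (P.memz P.mem)
  have hucl : IsClassFunction G (P.τ P.χ₀) := IsGeneralizedCharacter.isClassFunction hvirt
  have hres : IsClassFunction L (fun x : L => P.τ P.χ₀ x) := by
    intro g k
    show P.τ P.χ₀ ((k * g * k⁻¹ : L) : G) = P.τ P.χ₀ g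
    have := hucl g k
    simpa using this
  have hχcl : IsClassFunction L P.χ₀ := IsCharacter.isClassFunction (IsIrrCharacter.isCharacter (P.irrL P.mem))
  have hf : IsClassFunction L (fun x : L => P.τ P.χ₀ x - P.χ₀ x) := IsClassFunction.sub hres hχcl
  obtain ⟨c, hc⟩ := const_of_orth (H.subgroupOf L) (fun x : L => P.τ P.χ₀ x - P.χ₀ x) hf (by
    intro β hβ hβ1
    have hmem : β ∈ Cfsg.zspanOn (Cfsg.inducedIrrAbove (H.subgroupOf L) ⊥) {1}ᶜ := by
      refine ⟨hβ, fun x hx => ?_⟩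
      have hx1 : x = 1 := by simpa using hx
      rw [hx1, hβ1]
    have e1 : (fun x : L => P.τ P.χ₀ x - P.χ₀ x) = (fun x : L => P.τ P.χ₀ x) - P.χ₀ := rfl
    rw [e1, classInner_sub_left, ← classInner_indFun_right L β _ hucl, ← P.agree β hmem,
      P.iso.2.2.1 _ (P.memz P.mem) _ hβ, sub_self])
  refine ⟨c, fun x hx hx1 => hc x (Subgroup.mem_subgroupOf.mpr hx) hx1⟩

end Piece

end

end Cfsg.Agent.Lib.OddChar
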