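import Cfsg.Agent.Lib.OddChar.PartC

/-! # Groups partitioned by Frobenius kernels: the rational virtual characters `R`. -/

set_option autoImplicit false

namespace Cfsg.Agent.Lib.OddChar

open Cfsg Cfsg.Agent.Lib.Char
open scoped ComplexConjugate

section

variable {G : Type*} [Group G] [Fintype G]

theorem IsGeneralizedCharacter.comp' {X : Type*} [Group X] {θ : G → ℂ} (hθ : IsGeneralizedCharacter G θ) (f : X →* G) :
    IsGeneralizedCharacter X (θ ∘ f) := by
  obtain ⟨a, b, ha, hb, rfl⟩ := hθ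
  exact ⟨a ∘ f, b ∘ f, IsCharacter.comp ha f, IsCharacter.comp hb f, rfl⟩

theorem no_conj_of_coprime {H H' : Subgroup G} (hc : Nat.Coprime (Nat.card H) (Nat.card H')) {y : G}
    (hy : y ∈ H') (hy1 : y ≠ 1) (g : G) : g⁻¹ * y * g ∉ H := by
  intro h
  have h1 : orderOf (g⁻¹ * y * g) ∣ Nat.card H := Subgroup.orderOf_dvd_natCard H h
  have h2 : orderOf (g⁻¹ * y * g) = orderOf y := by
    have : g⁻¹ * y * g = MulAut.conj g⁻¹ y := by simp [MulAut.conj_apply]
    rw [this]
    exact orderOf_injective (MulAut.conj g⁻¹).toMonoidHom (MulAut.conj g⁻¹).injective _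
  rw [h2] at h1
  have h3 : orderOf y ∣ Nat.card H' := Subgroup.orderOf_dvd_natCard H' hy
  exact hy1 (orderOf_eq_one_iff.mp (Nat.eq_one_of_dvd_coprimes hc h1 h3))

theorem indFun_eq_zero_of_no_conj {H L : Subgroup G} (α : L → ℂ) (hα : ∀ x : L, (x : G) ∉ H → α x = 0) {y : G}
    (hy : ∀ g : G, g⁻¹ * y * g ∉ H) : indFun L α y = 0 := by
  rw [indFun_apply]
  have : ∀ g : G, extendByZero L α (g⁻¹ * y * g) = 0 := by
    intro g
    by_cases hg : g⁻¹ * y * g ∈ L
    · rw [extendByZero_of_mem _ _ hg]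
      exact hα _ (hy g)
    · exact extendByZero_of_notMem _ _ hg
  simp [this]

variable {H L H' L' : Subgroup G} [Fintype L] [Fintype L']

open Classical in
/-- The indicator on `L` of the kernel minus the identity. -/
noncomputable def kerInd (H L : Subgroup G) : L → ℂ := fun x => if (x : G) ∈ H ∧ x ≠ 1 then 1 else 0

theorem kerInd_of_mem {x : L} (hx : (x : G) ∈ H) (hx1 : x ≠ 1) : kerInd H L x = 1 := by
  simp [kerInd, hx, hx1]

theorem kerInd_of_notMem {x : L} (hx : (x : G) ∉ H) : kerInd H L x = 0 := by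
  simp [kerInd, hx]

theorem kerInd_one : kerInd H L 1 = 0 := by
  simp [kerInd]

theorem kerInd_isClass (g : FrobGeom H L) : IsClassFunction L (kerInd H L) := by
  intro x k
  have h1 : ((k * x * k⁻¹ : L) : G) ∈ H ↔ (x : G) ∈ H := by
    constructor
    · intro h
      have := g.norm _ (L.inv_mem k.2) _ h
      simpa [mul_assoc] using this
    · intro h
      exact g.norm _ k.2 _ h
  have h2 : k * x * k⁻¹ ≠ 1 ↔ x ≠ 1 := by
    constructor
    · rintro h rfl
      exact h (by group)
    · intro h h3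
      apply h
      have : x = k⁻¹ * (k * x * k⁻¹) * k := by group
      rw [this, h3]
      group
  unfold kerInd
  by_cases hx : (x : G) ∈ H ∧ x ≠ 1
  · rw [if_pos hx, if_pos ⟨h1.mpr hx.1, h2.mpr hx.2⟩]
  · rw [if_neg hx, if_neg (fun h => hx ⟨h1.mp h.1, h2.mp h.2⟩)]

theorem sum_kerInd (g : FrobGeom H L) : ∑ x : L, kerInd H L x = ((Nat.card H : ℂ) - 1) := by
  classical
  have hle := g.lt.le
  have h1 : ∑ x : L, kerInd H L x = (((Finset.univ.filter (fun x : L => (x : G) ∈ H ∧ x ≠ 1)).card : ℕ) : ℂ) := by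
    simp only [kerInd]
    rw [Finset.sum_ite, Finset.sum_const_zero, add_zero, Finset.sum_const, nsmul_eq_mul, mul_one]
  have h2 : (Finset.univ.filter (fun x : L => (x : G) ∈ H ∧ x ≠ 1)) =
      (Finset.univ.filter (fun x : L => (x : G) ∈ H)).erase 1 := by
    ext x
    simp only [Finset.mem_filter, Finset.mem_univ, true_and, Finset.mem_erase]
    tauto
  have h3 : ((Finset.univ.filter (fun x : L => (x : G) ∈ H)).card) = Nat.card H := by
    have e1 : Nat.card H = Nat.card (H.subgroupOf L) :=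
      (Nat.card_congr (Subgroup.subgroupOfEquivOfLe hle).toEquiv).symm
    rw [e1, Nat.card_eq_fintype_card (α := H.subgroupOf L), Fintype.card_subtype]
    rfl
  have h4 : (1 : L) ∈ (Finset.univ.filter (fun x : L => (x : G) ∈ H)) := by
    simp [H.one_mem]
  rw [h1, h2, Finset.card_erase_of_mem h4, h3]
  have : 1 ≤ Nat.card H := Nat.card_pos
  push_cast [this]
  ring

/-- `⟨g, 1_{K^#}⟩` for `g` constant on the kernel minus the identity. -/
theorem inner_kerInd_of_const (g : FrobGeom H L) (f : L → ℂ) (v : ℂ)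
    (hf : ∀ x : L, (x : G) ∈ H → x ≠ 1 → f x = v) :
    classInner f (kerInd H L) = v * (((Nat.card H : ℂ) - 1) / (Nat.card L : ℂ)) := by
  have h1 : ∀ x : L, f x * conj (kerInd H L x) = v * kerInd H L x := by
    intro x
    by_cases hx : (x : G) ∈ H ∧ x ≠ 1
    · rw [kerInd_of_mem hx.1 hx.2, hf x hx.1 hx.2]
      simp
    · have h0 : kerInd H L x = 0 := by simp [kerInd, hx]
      rw [h0]
      simp
  simp only [classInner, h1]
  rw [← Finset.mul_sum, sum_kerInd g]
  ring

theorem indKer_of_mem (g : FrobGeom H L) {y : L} (hy : (y : G) ∈ H) (hy1 : y ≠ 1) :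
    indFun L (kerInd H L) y = 1 := by
  rw [indFun_eq_of_TI L (H : Set G) g.ti' (kerInd H L) (kerInd_isClass g) (fun x hx => kerInd_of_notMem hx) y hy hy1,
    kerInd_of_mem hy hy1]

theorem indKer_of_no_conj {y : G} (hy : ∀ g : G, g⁻¹ * y * g ∉ H) : indFun L (kerInd H L) y = 0 :=
  indFun_eq_zero_of_no_conj (H := H) _ (fun x hx => kerInd_of_notMem hx) hy

namespace Piece

variable (P : Piece H L) (P' : Piece H' L')

/-- The induced principal character of the kernel. -/
noncomputable def ρ (_P : Piece H L) : L → ℂ := indFun (H.subgroupOf L) (fun _ => 1)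

noncomputable def δ : L → ℂ := P.χ₀ - P.ρ

/-- The rational virtual character attached to a kernel. -/
noncomputable def R : G → ℂ := P.τ P.χ₀ - indFun L P.δ

/-- The index of the kernel. -/
noncomputable def e (_P : Piece H L) : ℕ := (H.subgroupOf L).index

theorem ρ_isCharacter : IsCharacter L P.ρ := isCharacter_indFun _ (IsIrrCharacter.isCharacter isIrrCharacter_one)

theorem ρ_of_mem {x : L} (hx : (x : G) ∈ H) : P.ρ x = P.e := by
  haveI hn := P.geom.normal
  show indFun (H.subgroupOf L) (fun _ => 1) x = ((H.subgroupOf L).index : ℂ)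
  rw [indFun_apply]
  have h1 : ∀ g : L, extendByZero (H.subgroupOf L) (fun _ => (1 : ℂ)) (g⁻¹ * x * g) = 1 := by
    intro g
    have hm : g⁻¹ * x * g ∈ H.subgroupOf L := by
      have := hn.conj_mem x (Subgroup.mem_subgroupOf.mpr hx) g⁻¹
      simpa using this
    rw [extendByZero_of_mem _ _ hm]
  simp only [h1, Finset.sum_const, Finset.card_univ, nsmul_eq_mul, mul_one]
  have h2 := (H.subgroupOf L).card_mul_index
  rw [← Nat.card_eq_fintype_card, ← h2]
  have h3 : (Nat.card (H.subgroupOf L) : ℂ) ≠ 0 := by exact_mod_cast Nat.card_pos.ne'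
  push_cast
  field_simp

theorem ρ_of_notMem {x : L} (hx : (x : G) ∉ H) : P.ρ x = 0 := by
  haveI hn := P.geom.normal
  exact indFun_eq_zero_of_notMem _ _ (fun h => hx (Subgroup.mem_subgroupOf.mp h))

theorem χ₀_of_notMem {x : L} (hx : (x : G) ∉ H) : P.χ₀ x = 0 := by
  haveI hn := P.geom.normal
  exact frob_vanish _ (P.memz P.mem) (fun h => hx (Subgroup.mem_subgroupOf.mp h))

theorem δ_of_notMem {x : L} (hx : (x : G) ∉ H) : P.δ x = 0 := by
  simp [δ, P.ρ_of_notMem hx, P.χ₀_of_notMem hx]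

theorem δ_one : P.δ 1 = 0 := by
  have h := P.ρ_of_mem (x := 1) (by simp [H.one_mem])
  simp only [δ, Pi.sub_apply, P.deg, h, e, sub_self]

theorem δ_of_mem {x : L} (hx : (x : G) ∈ H) : P.δ x = P.χ₀ x - P.e := by
  simp [δ, P.ρ_of_mem hx]

theorem δ_isGen : IsGeneralizedCharacter L P.δ :=
  ⟨_, _, IsIrrCharacter.isCharacter (P.irrL P.mem), P.ρ_isCharacter, rfl⟩

theorem δ_isClass : IsClassFunction L P.δ := IsGeneralizedCharacter.isClassFunction P.δ_isGen

theorem inner_ρ_one : classInner P.ρ (fun _ => 1) = 1 := by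
  classical
  haveI : Fintype (H.subgroupOf L) := Fintype.ofFinite _
  show classInner (indFun (H.subgroupOf L) (fun _ => 1)) (fun _ => 1) = 1
  rw [classInner_indFun_left _ _ _ (fun _ _ => rfl)]
  exact classInner_irr_self isIrrCharacter_one

theorem inner_δ_one : classInner P.δ (fun _ => 1) = -1 := by
  rw [δ, classInner_sub_left, above_inner_one _ P.mem, P.inner_ρ_one]
  simp

/-- Inner product against `δ` of a function constant on the kernel minus the identity. -/
theorem inner_δ_of_const (f : L → ℂ) (v : ℂ) (hf : ∀ x : L, (x : G) ∈ H → x ≠ 1 → f x = v) :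
    classInner f P.δ = -v := by
  have h1 : ∀ x : L, f x * conj (P.δ x) = v * conj (P.δ x) := by
    intro x
    by_cases hx : (x : G) ∈ H ∧ x ≠ 1
    · rw [hf x hx.1 hx.2]
    · have h0 : P.δ x = 0 := by
        by_cases hxH : (x : G) ∈ H
        · have hx1 : x = 1 := by
            by_contra h
            exact hx ⟨hxH, h⟩
          rw [hx1, P.δ_one]
        · exact P.δ_of_notMem hxH
      rw [h0]
      simp
  have h2 : classInner f P.δ = v * classInner (fun _ => 1) P.δ := by
    simp only [classInner, h1, one_mul]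
    rw [← Finset.mul_sum]
    ring
  rw [h2, classInner_conj_symm, P.inner_δ_one]
  simp

theorem tau_isGen : IsGeneralizedCharacter G (P.τ P.χ₀) := P.iso.2.2.2 _ (P.memz P.mem)

theorem tau_isClass : IsClassFunction G (P.τ P.χ₀) := IsGeneralizedCharacter.isClassFunction P.tau_isGen

theorem R_isGen : IsGeneralizedCharacter G P.R :=
  IsGeneralizedCharacter.sub P.tau_isGen (isGeneralizedCharacter_indFun L P.δ_isGen)

theorem R_inner_one : classInner P.R (fun _ => 1) = 1 := by
  rw [R, classInner_sub_left, P.inner_one P.mem, classInner_indFun_left L _ _ (fun _ _ => rfl), P.inner_δ_one]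
  simp

theorem R_one : P.R 1 = P.τ P.χ₀ 1 := by
  simp [R, indFun_one, P.δ_one]

theorem R_of_mem {x : L} (hx : (x : G) ∈ H) (hx1 : x ≠ 1) :
    P.R x = P.τ P.χ₀ x - P.χ₀ x + P.e := by
  have h := indFun_eq_of_TI L (H : Set G) P.geom.ti' P.δ P.δ_isClass (fun y hy => P.δ_of_notMem hy) x hx hx1
  simp only [R, Pi.sub_apply, h, P.δ_of_mem hx]
  ring

theorem R_of_no_conj {y : G} (hy : ∀ g : G, g⁻¹ * y * g ∉ H) : P.R y = P.τ P.χ₀ y := by
  have h : indFun L P.δ y = 0 := indFun_eq_zero_of_no_conj (H := H) _ (fun x hx => P.δ_of_notMem hx) hy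
  simp [R, h]

/-- The inner product of two `R`'s, for kernels of coprime orders. -/
theorem R_inner (hc : Nat.Coprime (Nat.card H) (Nat.card H'))
    (hcross : classInner (P.τ P.χ₀) (P'.τ P'.χ₀) = 0) (v v' : ℤ)
    (hv : ∀ x ∈ H', x ≠ 1 → P.τ P.χ₀ x = v) (hv' : ∀ x ∈ H, x ≠ 1 → P'.τ P'.χ₀ x = v') :
    classInner P.R P'.R = v + v' := by
  have hcl' : IsClassFunction G (P'.τ P'.χ₀) := P'.tau_isClass
  have hcl : IsClassFunction G (P.τ P.χ₀) := P.tau_isClass
  have h1 : classInner (P.τ P.χ₀) (indFun L' P'.δ) = -(v : ℂ) := by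
    rw [classInner_indFun_right L' _ _ hcl]
    refine P'.inner_δ_of_const _ _ (fun x hx hx1 => ?_)
    exact hv x hx (fun h => hx1 (Subtype.ext h))
  have h2 : classInner (indFun L P.δ) (P'.τ P'.χ₀) = -(v' : ℂ) := by
    rw [classInner_conj_symm, classInner_indFun_right L _ _ hcl']
    rw [P.inner_δ_of_const _ (v' : ℂ) (fun x hx hx1 => hv' x hx (fun h => hx1 (Subtype.ext h)))]
    simp
  have h3 : classInner (indFun L P.δ) (indFun L' P'.δ) = 0 := by
    rw [classInner_indFun_right L' _ _ (isClassFunction_indFun L _)]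
    rw [P'.inner_δ_of_const _ 0 (fun x hx hx1 => ?_)]
    · simp
    · apply indFun_eq_zero_of_no_conj (H := H) _ (fun y hy => P.δ_of_notMem hy)
      exact no_conj_of_coprime hc hx (fun h => hx1 (Subtype.ext h))
  rw [R, R, classInner_sub_left, classInner_sub_right, classInner_sub_right, hcross, h1, h2, h3]
  ring

/-- The constant value of `τ χ₀` on another kernel is an integer congruent to the degree. -/
theorem const_other (hH' : H' ≠ ⊥) (hinner : ∀ χ' ∈ Cfsg.inducedIrrAbove (H'.subgroupOf L') ⊥, classInner (P.τ P.χ₀) (P'.τ χ') = 0) :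
    ∃ v m : ℤ, (∀ x ∈ H', x ≠ 1 → P.τ P.χ₀ x = v) ∧ P.τ P.χ₀ 1 = v + m * (Nat.card H' : ℂ) := by
  classical
  obtain ⟨c, hc⟩ := P'.const_of_inner _ P.tau_isClass hinner
  haveI : Fintype H' := Fintype.ofFinite _
  have hnt : Nontrivial H' := (Subgroup.nontrivial_iff_ne_bot H').mpr hH'
  obtain ⟨n, m, hn, hm⟩ := const_int (fun x : H' => P.τ P.χ₀ x) (IsGeneralizedCharacter.comp' P.tau_isGen H'.subtype) c
    (fun x hx => hc x x.2 (fun h => hx (Subtype.ext h))) hnt
  refine ⟨n, m, fun x hx hx1 => by rw [hc x hx hx1, hn], ?_⟩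
  simpa using hm

/-- The constant value of `τ χ₀ - χ₀` on the kernel is an integer. -/
theorem const_self_int : ∃ w : ℤ, ∀ x : L, (x : G) ∈ H → x ≠ 1 → P.τ P.χ₀ x = P.χ₀ x + w := by
  classical
  obtain ⟨c, hc⟩ := P.const_self
  have hle := P.geom.lt.le
  haveI : Fintype H := Fintype.ofFinite _
  have hnt : Nontrivial H := (Subgroup.nontrivial_iff_ne_bot H).mpr P.geom.ne_bot
  have hgen : IsGeneralizedCharacter H (fun x : H => P.τ P.χ₀ x - P.χ₀ (Subgroup.inclusion hle x)) :=
    IsGeneralizedCharacter.sub (IsGeneralizedCharacter.comp' P.tau_isGen H.subtype)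
      (IsGeneralizedCharacter.comp' (IsIrrCharacter.isGeneralizedCharacter (P.irrL P.mem)) (Subgroup.inclusion hle))
  obtain ⟨n, m, hn, hm⟩ := const_int _ hgen c (fun x hx => by
    have := hc (Subgroup.inclusion hle x) x.2 (fun h => hx (Subtype.ext (by simpa using congrArg Subtype.val h)))
    simpa using this) hnt
  refine ⟨n, fun x hx hx1 => ?_⟩
  have := hc x hx hx1
  rw [hn] at this
  linear_combination this

/-- `τ χ` on elements not conjugate into the kernel is a multiple of `τ χ₀`. -/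
theorem tau_of_no_conj {χ : L → ℂ} (hχ : χ ∈ Cfsg.inducedIrrAbove (H.subgroupOf L) ⊥) {a : ℕ} (ha : χ 1 = a) {y : G}
    (hy : ∀ g : G, g⁻¹ * y * g ∉ H) : (P.e : ℂ) * P.τ χ y = a * P.τ P.χ₀ y := by
  haveI hn := P.geom.normal
  have hc := P.tau_comb hχ P.mem a P.e (by simpa using ha) (by simpa [e] using P.deg)
  have hz : ∀ {X : Type _} (n : ℤ) (f : X → ℂ) (x : X), (n • f) x = (n : ℂ) * f x := by
    intro X n f x
    simp
  have h1 := congrFun hc y
  rw [indFun_eq_zero_of_no_conj (H := H) _ (fun x hx => by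
    rw [Pi.add_apply, hz, hz, frob_vanish _ (P.memz hχ) (fun h => hx (Subgroup.mem_subgroupOf.mp h)), P.χ₀_of_notMem hx]
    simp) hy] at h1
  rw [Pi.add_apply, hz, hz] at h1
  push_cast at h1
  linear_combination h1

end Piece

end

end Cfsg.Agent.Lib.OddChar
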