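import Cfsg.Agent.Lib.OddChar.PartD
import Cfsg.Agent.Lib.OddChar.Above

/-! # Groups partitioned by Frobenius kernels: the partition formula, the row norm, Bessel's inequality. -/

set_option autoImplicit false

namespace Cfsg.Agent.Lib.OddChar

open Cfsg Cfsg.Agent.Lib.Char
open scoped ComplexConjugate

section Family

variable {G : Type*} [Group G] [Fintype G] {ι : Type*} [Fintype ι] (H L : ι → Subgroup G) [∀ i, Fintype (L i)]

theorem partition_inner (hg : ∀ i, FrobGeom (H i) (L i))
    (hcop : ∀ i j, i ≠ j → Nat.Coprime (Nat.card (H i)) (Nat.card (H j)))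
    (hcover : ∀ g : G, g ≠ 1 → ∃ i, ∃ x : G, x * g * x⁻¹ ∈ H i) (φ : G → ℂ) (hφ : IsClassFunction G φ) :
    classInner φ (fun _ => 1) = φ 1 / (Nat.card G : ℂ) +
      ∑ i, classInner (fun x : L i => φ x) (kerInd (H i) (L i)) := by
  classical
  have key : ∀ y : G, (if y = 1 then (1 : ℂ) else 0) + ∑ i, conj (indFun (L i) (kerInd (H i) (L i)) y) = 1 := by
    intro y
    by_cases hy : y = 1
    · subst hy
      have : ∀ i, indFun (L i) (kerInd (H i) (L i)) 1 = 0 := by
        intro i
        rw [indFun_one, kerInd_one, mul_zero]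
      simp [this]
    · rw [if_neg hy, zero_add]
      obtain ⟨i₀, x, hx⟩ := hcover y hy
      have hy' : x * y * x⁻¹ ≠ 1 := by
        intro h
        apply hy
        have : y = x⁻¹ * (x * y * x⁻¹) * x := by group
        rw [this, h]
        group
      have h1 : indFun (L i₀) (kerInd (H i₀) (L i₀)) y = 1 := by
        have h2 := isClassFunction_indFun (L i₀) (kerInd (H i₀) (L i₀)) y x
        rw [← h2]
        have hle := (hg i₀).lt.le
        exact indKer_of_mem (L := L i₀) (hg i₀) (y := ⟨x * y * x⁻¹, hle hx⟩) hx (fun h => hy' (congrArg Subtype.val h))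
      rw [Finset.sum_eq_single i₀]
      · rw [h1, map_one]
      · intro i _ hi
        have h3 : indFun (L i) (kerInd (H i) (L i)) y = 0 := by
          apply indKer_of_no_conj
          intro g hgm
          have := no_conj_of_coprime (hcop i i₀ hi) hx hy' (x * g)
          apply this
          have e : (x * g)⁻¹ * (x * y * x⁻¹) * (x * g) = g⁻¹ * y * g := by group
          rw [e]
          exact hgm
        rw [h3, map_zero]
      · intro h
        exact absurd (Finset.mem_univ _) h
  have hN : (Nat.card G : ℂ) ≠ 0 := by exact_mod_cast Nat.card_pos.ne'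
  have h1 : ∀ i, classInner (fun x : L i => φ x) (kerInd (H i) (L i)) = classInner φ (indFun (L i) (kerInd (H i) (L i))) :=
    fun i => (classInner_indFun_right (L i) _ φ hφ).symm
  simp only [h1]
  simp only [classInner, map_one, mul_one]
  have h2 : ∀ y : G, φ y = φ y * (if y = 1 then (1 : ℂ) else 0) + ∑ i, φ y * conj (indFun (L i) (kerInd (H i) (L i)) y) := by
    intro y
    rw [← Finset.mul_sum, ← mul_add, key y, mul_one]
  conv_lhs => rw [Finset.sum_congr rfl (fun y _ => h2 y)]
  rw [Finset.sum_add_distrib, Finset.sum_comm, mul_add]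
  congr 1
  · simp [div_eq_mul_inv, mul_comm]
  · rw [Finset.mul_sum]

end Family

section Row

variable {G : Type*} [Group G] [Fintype G] {H L : Subgroup G} [Fintype L]

namespace Piece

variable (P : Piece H L)

theorem card_L_eq : (Nat.card L : ℂ) = (Nat.card H : ℂ) * P.e := by
  have h1 := (H.subgroupOf L).card_mul_index
  have e1 : Nat.card (H.subgroupOf L) = Nat.card H :=
    Nat.card_congr (Subgroup.subgroupOfEquivOfLe P.geom.lt.le).toEquiv
  rw [e1] at h1
  rw [← h1]
  push_cast
  rfl

/-- The norm of `τ χ₀` over the elements of the kernel. -/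
theorem row_self (w : ℤ) (hw : ∀ x : L, (x : G) ∈ H → x ≠ 1 → P.τ P.χ₀ x = P.χ₀ x + w) :
    classInner (fun x : L => P.τ P.χ₀ x * conj (P.τ P.χ₀ x)) (kerInd H L) =
      1 + ((w : ℂ) ^ 2 * ((Nat.card H : ℂ) - 1) - (P.e : ℂ) ^ 2 - 2 * w * P.e) / (Nat.card L : ℂ) := by
  classical
  have hdeg : P.χ₀ 1 = (P.e : ℂ) := P.deg
  have hL : (Nat.card L : ℂ) ≠ 0 := by exact_mod_cast Nat.card_pos.ne'
  have hpt : ∀ x : L, (P.τ P.χ₀ x * conj (P.τ P.χ₀ x)) * conj (kerInd H L x) =
      P.χ₀ x * conj (P.χ₀ x) + w * P.χ₀ x * conj (1 : ℂ) + w * (1 * conj (P.χ₀ x)) + (w : ℂ) ^ 2 * kerInd H L x -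
        (if x = 1 then (P.e : ℂ) ^ 2 + 2 * w * P.e else 0) := by
    intro x
    by_cases hx1 : x = 1
    · subst hx1
      rw [kerInd_one, if_pos rfl, hdeg]
      simp only [map_zero, mul_zero, zero_mul, map_natCast, map_one, mul_one, one_mul]
      ring
    · rw [if_neg hx1]
      by_cases hxH : (x : G) ∈ H
      · rw [kerInd_of_mem hxH hx1, hw x hxH hx1]
        simp only [map_add, map_one, mul_one, one_mul, map_intCast]
        ring
      · rw [kerInd_of_notMem hxH, P.χ₀_of_notMem hxH]
        simp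
  simp only [classInner, hpt]
  rw [Finset.sum_sub_distrib, Finset.sum_add_distrib, Finset.sum_add_distrib, Finset.sum_add_distrib]
  have h1 : (Nat.card L : ℂ)⁻¹ * ∑ x : L, P.χ₀ x * conj (P.χ₀ x) = 1 := by
    have := classInner_irr_self (P.irrL P.mem)
    simpa [classInner] using this
  have h2 : ∑ x : L, (w : ℂ) * P.χ₀ x * conj (1 : ℂ) = 0 := by
    have h3 := above_inner_one _ P.mem
    simp only [classInner, map_one, mul_one] at h3
    have h4 : ∑ x : L, P.χ₀ x = 0 := by
      rcases mul_eq_zero.mp h3 with h | h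
      · exact absurd h (inv_ne_zero hL)
      · exact h
    simp only [map_one, mul_one]
    rw [← Finset.mul_sum, h4, mul_zero]
  have h3 : ∑ x : L, (w : ℂ) * (1 * conj (P.χ₀ x)) = 0 := by
    have h3 := above_inner_one _ P.mem
    rw [classInner_conj_symm] at h3
    have h5 : classInner (fun _ => (1 : ℂ)) P.χ₀ = 0 := by
      have := congrArg conj h3
      simpa using this
    simp only [classInner, one_mul] at h5
    have h4 : ∑ x : L, conj (P.χ₀ x) = 0 := by
      rcases mul_eq_zero.mp h5 with h | h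
      · exact absurd h (inv_ne_zero hL)
      · exact h
    simp only [one_mul]
    rw [← Finset.mul_sum, h4, mul_zero]
  have h4 : ∑ x : L, (w : ℂ) ^ 2 * kerInd H L x = (w : ℂ) ^ 2 * ((Nat.card H : ℂ) - 1) := by
    rw [← Finset.mul_sum, sum_kerInd P.geom]
  have h5 : ∑ x : L, (if x = 1 then (P.e : ℂ) ^ 2 + 2 * w * P.e else 0) = (P.e : ℂ) ^ 2 + 2 * w * P.e := by
    rw [Finset.sum_ite_eq' Finset.univ (1 : L)]
    simp
  rw [h2, h3, h4, h5]
  rw [mul_sub, mul_add, mul_add, mul_add, h1]
  field_simp
  ring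

end Piece

end Row

end Cfsg.Agent.Lib.OddChar
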