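import Cfsg.Agent.Lib.OddChar.PartE

/-! # Groups partitioned by Frobenius kernels: Bessel's inequality on a kernel. -/

set_option autoImplicit false

namespace Cfsg.Agent.Lib.OddChar

open Cfsg Cfsg.Agent.Lib.Char
open scoped ComplexConjugate

section Family

variable {G : Type*} [Group G] [Fintype G] {ι : Type*} [Fintype ι] (H L : ι → Subgroup G) [∀ i, Fintype (L i)]

theorem sum_above_deg_sq {H₀ L₀ : Subgroup G} [Fintype L₀] (P : Piece H₀ L₀) :
    ∃ T : Finset (L₀ → ℂ), (∀ φ, φ ∈ T ↔ φ ∈ Cfsg.inducedIrrAbove (H₀.subgroupOf L₀) ⊥) ∧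
      ∑ φ ∈ T, ((φ 1).re) ^ 2 = (P.e : ℝ) * ((Nat.card H₀ : ℝ) - 1) := by
  classical
  haveI := P.geom.normal
  let K := H₀.subgroupOf L₀
  have hfin := inducedIrrAbove_finite K (⊥ : Subgroup L₀)
  refine ⟨hfin.toFinset, fun φ => hfin.mem_toFinset, ?_⟩
  have hT : ∀ φ, φ ∈ hfin.toFinset ↔ φ ∈ Cfsg.inducedIrrAbove K ⊥ := fun φ => hfin.mem_toFinset
  have h1 := sum_induced_above K (⊥ : Subgroup L₀) hfin.toFinset hT
    (fun φ hφ φ' hφ' hne => classInner_irr_of_ne (P.irrL ((hT φ).mp hφ)) (P.irrL ((hT φ').mp hφ')) hne)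
    (fun φ hφ => by
      rw [classInner_irr_self (P.irrL ((hT φ).mp hφ))]
      exact one_ne_zero)
  rw [Subgroup.relIndex_bot_left] at h1
  have e1 : Nat.card K = Nat.card H₀ :=
    Nat.card_congr (Subgroup.subgroupOfEquivOfLe P.geom.lt.le).toEquiv
  rw [e1] at h1
  have h2 : ∀ φ ∈ hfin.toFinset, φ 1 ^ 2 / classInner φ φ = (((φ 1).re ^ 2 : ℝ) : ℂ) := by
    intro φ hφ
    rw [classInner_irr_self (P.irrL ((hT φ).mp hφ)), div_one]
    obtain ⟨a, -, ha⟩ := P.exists_degree ((hT φ).mp hφ)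
    rw [ha]
    simp
  rw [Finset.sum_congr rfl h2] at h1
  have h3 : (((∑ φ ∈ hfin.toFinset, (φ 1).re ^ 2 : ℝ)) : ℂ) = (((P.e : ℝ) * ((Nat.card H₀ : ℝ) - 1) : ℝ) : ℂ) := by
    push_cast at h1 ⊢
    rw [h1]
    rfl
  exact_mod_cast h3

theorem bessel_family [DecidableEq ι] (hcop : ∀ i j, i ≠ j → Nat.Coprime (Nat.card (H i)) (Nat.card (H j)))
    (P : ∀ i, Piece (H i) (L i))
    (hcross : ∀ k k', k ≠ k' → ∀ χ ∈ Cfsg.inducedIrrAbove ((H k).subgroupOf (L k)) ⊥,
      ∀ χ' ∈ Cfsg.inducedIrrAbove ((H k').subgroupOf (L k')) ⊥, classInner ((P k).τ χ) ((P k').τ χ') = 0)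
    (j : ι) (v : ι → ℤ) (hv : ∀ k, k ≠ j → ∀ x ∈ H j, x ≠ 1 → (P k).τ (P k).χ₀ x = v k) :
    ((Nat.card (H j) : ℝ) - 1) / (Nat.card (L j) : ℝ) *
      (1 + ∑ k ∈ Finset.univ.filter (· ≠ j), ((Nat.card (H k) : ℝ) - 1) / ((P k).e : ℝ) * (v k : ℝ) ^ 2) ≤ 1 := by
  classical
  have hgeom := (P j).geom
  have hle := hgeom.lt.le
  set g : ℝ := ((Nat.card (H j) : ℝ) - 1) / (Nat.card (L j) : ℝ) with hgdef
  have hgc : (g : ℂ) = ((Nat.card (H j) : ℂ) - 1) / (Nat.card (L j) : ℂ) := by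
    rw [hgdef]
    push_cast
    rfl
  have hh1 : 1 < Nat.card (H j) := by
    haveI := (Subgroup.nontrivial_iff_ne_bot (H j)).mpr hgeom.ne_bot
    exact Finite.one_lt_card
  have hgpos : 0 < g := by
    apply div_pos
    · have : (1 : ℝ) < Nat.card (H j) := by exact_mod_cast hh1
      linarith
    · exact_mod_cast Nat.card_pos
  let F : G → ℂ := indFun (L j) (kerInd (H j) (L j))
  have hFF : classInner F F = g := by
    show classInner (indFun (L j) _) (indFun (L j) _) = _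
    rw [classInner_indFun_of_TI (L j) (H j : Set G) hgeom.ti' _ _ (kerInd_isClass hgeom)
      (fun x hx => kerInd_of_notMem hx) (fun x hx => kerInd_of_notMem hx) kerInd_one,
      inner_kerInd_of_const hgeom _ 1 (fun x hx hx1 => kerInd_of_mem hx hx1), one_mul, hgc]
  have hF1 : classInner F (fun _ => 1) = g := by
    show classInner (indFun (L j) _) _ = _
    rw [classInner_indFun_left (L j) _ _ (fun _ _ => rfl), classInner_conj_symm,
      inner_kerInd_of_const hgeom _ 1 (fun x hx hx1 => rfl), one_mul, hgc]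
    simp
  have hFτ : ∀ k, k ≠ j → ∀ χ ∈ Cfsg.inducedIrrAbove ((H k).subgroupOf (L k)) ⊥,
      classInner F ((P k).τ χ) = ((((χ 1).re / ((P k).e : ℝ) * (v k : ℝ) * g : ℝ)) : ℂ) := by
    intro k hk χ hχ
    obtain ⟨a, -, ha⟩ := (P k).exists_degree hχ
    have hek : ((P k).e : ℂ) ≠ 0 := by
      have : (P k).e ≠ 0 := Subgroup.index_ne_zero_of_finite
      exact_mod_cast this
    have hclass : IsClassFunction G ((P k).τ χ) :=
      IsGeneralizedCharacter.isClassFunction ((P k).iso.2.2.2 _ ((P k).memz hχ))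
    have hval : ∀ x : L j, (x : G) ∈ H j → x ≠ 1 → (P k).τ χ x = (a : ℂ) * v k / (P k).e := by
      intro x hx hx1
      have hx1' : (x : G) ≠ 1 := fun h => hx1 (Subtype.ext h)
      have h1 := (P k).tau_of_no_conj hχ ha (y := (x : G)) (no_conj_of_coprime (hcop k j hk) hx hx1')
      rw [hv k hk x hx hx1'] at h1
      field_simp
      linear_combination h1
    show classInner (indFun (L j) _) _ = _
    rw [classInner_indFun_left (L j) _ _ hclass, classInner_conj_symm,
      inner_kerInd_of_const hgeom (fun x : L j => (P k).τ χ x) _ hval, ← hgc, ha]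
    simp only [map_mul, map_div₀, map_natCast, map_intCast, Complex.conj_ofReal]
    push_cast
    simp
    left
    ring
  -- the orthonormal family
  let Ω := Option (Σ k : ι, (L k → ℂ))
  let e : Ω → G → ℂ := fun a => match a with
    | none => fun _ => 1
    | some p => (P p.1).τ p.2
  have hTex := fun k => sum_above_deg_sq (P k)
  choose T hT hTsum using hTex
  let s : Finset Ω := Finset.insertNone ((Finset.univ.filter (· ≠ j)).sigma T)
  have hmem : ∀ k χ, (some ⟨k, χ⟩ : Ω) ∈ s → k ≠ j ∧ χ ∈ Cfsg.inducedIrrAbove ((H k).subgroupOf (L k)) ⊥ := by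
    intro k χ h
    have h1 : (⟨k, χ⟩ : Σ k : ι, (L k → ℂ)) ∈ (Finset.univ.filter (· ≠ j)).sigma T :=
      Finset.mem_insertNone.mp h _ rfl
    rw [Finset.mem_sigma] at h1
    exact ⟨(Finset.mem_filter.mp h1.1).2, (hT k χ).mp h1.2⟩
  have hbess := bessel s e (fun _ => 1) (fun _ _ => one_pos) (by
    intro a ha b hb
    rcases a with _ | ⟨k, χ⟩ <;> rcases b with _ | ⟨k', χ'⟩
    · simp only [e, if_true]
      simpa using classInner_irr_self (isIrrCharacter_one (G := G))
    · obtain ⟨-, h2⟩ := hmem _ _ hb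
      simp only [e, reduceCtorEq, if_false]
      rw [classInner_conj_symm, (P k').inner_one h2, map_zero]
    · obtain ⟨-, h2⟩ := hmem _ _ ha
      simp only [e, reduceCtorEq, if_false]
      exact (P k).inner_one h2
    · obtain ⟨-, h1⟩ := hmem _ _ ha
      obtain ⟨-, h2⟩ := hmem _ _ hb
      by_cases hkk : k = k'
      · subst hkk
        have hin := (P k).iso.2.2.1 χ ((P k).memz h1) χ' ((P k).memz h2)
        simp only [e]
        rw [hin]
        by_cases hχχ : χ = χ'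
        · subst hχχ
          rw [if_pos rfl, classInner_irr_self ((P k).irrL h1)]
          simp
        · rw [classInner_irr_of_ne ((P k).irrL h1) ((P k).irrL h2) hχχ, if_neg]
          intro hc
          exact hχχ (eq_of_heq (Sigma.mk.inj_iff.mp (Option.some.inj hc)).2)
      · simp only [e]
        rw [hcross k k' hkk χ h1 χ' h2, if_neg]
        intro hc
        exact hkk (Sigma.mk.inj_iff.mp (Option.some.inj hc)).1) F
  rw [Finset.sum_insertNone, Finset.sum_sigma, hFF] at hbess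
  simp only [Complex.ofReal_re, div_one] at hbess
  have h1 : ‖classInner F (e none)‖ ^ 2 = g ^ 2 := by
    show ‖classInner F (fun _ => 1)‖ ^ 2 = _
    rw [hF1, Complex.norm_real, Real.norm_eq_abs, sq_abs]
  have h2 : ∀ k ∈ Finset.univ.filter (· ≠ j), ∑ χ ∈ T k, ‖classInner F (e (some ⟨k, χ⟩))‖ ^ 2 =
      g ^ 2 * (((Nat.card (H k) : ℝ) - 1) / ((P k).e : ℝ) * (v k : ℝ) ^ 2) := by
    intro k hk
    have hk' : k ≠ j := (Finset.mem_filter.mp hk).2
    have hek : ((P k).e : ℝ) ≠ 0 := by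
      have : (P k).e ≠ 0 := Subgroup.index_ne_zero_of_finite
      exact_mod_cast this
    have h3 : ∀ χ ∈ T k, ‖classInner F (e (some ⟨k, χ⟩))‖ ^ 2 =
        (g * (v k : ℝ) / ((P k).e : ℝ)) ^ 2 * ((χ 1).re) ^ 2 := by
      intro χ hχ
      show ‖classInner F ((P k).τ χ)‖ ^ 2 = _
      rw [hFτ k hk' χ ((hT k χ).mp hχ), Complex.norm_real, Real.norm_eq_abs, sq_abs]
      ring
    rw [Finset.sum_congr rfl h3, ← Finset.mul_sum, hTsum k]
    field_simp
  rw [h1, Finset.sum_congr rfl h2, ← Finset.mul_sum] at hbess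
  have h4 : g * (g * (1 + ∑ k ∈ Finset.univ.filter (· ≠ j), ((Nat.card (H k) : ℝ) - 1) / ((P k).e : ℝ) * (v k : ℝ) ^ 2)) ≤ g * 1 := by
    nlinarith
  exact le_of_mul_le_mul_left h4 hgpos

end Family

end Cfsg.Agent.Lib.OddChar
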