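import Cfsg.Agent.Lib.OddChar.Above
import Cfsg.Agent.Lib.OddChar.NilpAux
import Cfsg.Agent.Lib.Char.Degree
import Cfsg.Agent.Lib.Char.Extraspecial

/-! # Degrees and masses of the characters of a normal subgroup that are nontrivial on a central subgroup. -/

set_option autoImplicit false

namespace Cfsg.Agent.Lib.OddChar

open Cfsg Cfsg.Agent.Lib.Char
open scoped ComplexConjugate

section Aux

variable {L : Type*} [Group L] [Fintype L] (K : Subgroup L) [hK : K.Normal] [Fintype K]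

theorem triv_of_ind_triv {θ : K → ℂ} (hθ : IsIrrCharacter K θ) (a : K)
    (h : indFun K θ (a : L) = indFun K θ 1) : θ a = θ 1 := by
  have hK0 : (Nat.card K : ℂ)⁻¹ ≠ 0 := inv_ne_zero (by exact_mod_cast Nat.card_pos.ne')
  have h1 := indFun_coe_normal K θ a
  have h2 := indFun_coe_normal K θ 1
  have hone : ((1 : K) : L) = 1 := rfl
  rw [hone] at h2
  rw [h1, h2] at h
  have h3 := mul_left_cancel₀ hK0 h
  have h4 : ∑ x : L, (Lib.Char.conjFun K x θ a).re = ∑ x : L, (Lib.Char.conjFun K x θ 1).re := by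
    have := congrArg Complex.re h3
    simpa [Complex.re_sum] using this
  have hval : ∀ x : L, Lib.Char.conjFun K x θ 1 = θ 1 := by
    intro x
    simp only [conjFun_apply]
    refine congrArg _ (Subtype.ext ?_)
    show x⁻¹ * 1 * x = 1
    group
  obtain ⟨n, -, hn⟩ := IsIrrCharacter.apply_one hθ
  have hle : ∀ x ∈ (Finset.univ : Finset L), (Lib.Char.conjFun K x θ a).re ≤ (Lib.Char.conjFun K x θ 1).re := by
    intro x _
    have hx := isIrrCharacter_conjFun K x hθ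
    calc _ ≤ ‖Lib.Char.conjFun K x θ a‖ := Complex.re_le_norm _
      _ ≤ ‖Lib.Char.conjFun K x θ 1‖ := IsCharacter.norm_le (IsIrrCharacter.isCharacter hx) a
      _ = (Lib.Char.conjFun K x θ 1).re := by rw [hval, hn]; simp
  have h5 := (Finset.sum_eq_sum_iff_of_le hle).mp h4 1 (Finset.mem_univ _)
  have h6 : Lib.Char.conjFun K 1 θ = θ := by
    funext k
    simp only [conjFun_apply]
    refine congrArg _ (Subtype.ext ?_)
    show (1 : L)⁻¹ * k * 1 = k
    group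
  rw [h6] at h5
  have hnorm := IsCharacter.norm_le (IsIrrCharacter.isCharacter hθ) a
  rw [hn] at h5 hnorm ⊢
  simp only [Complex.norm_natCast, Complex.natCast_re] at h5 hnorm
  apply Complex.ext
  · simpa using h5
  · have h7 : ‖θ a‖ ^ 2 = (θ a).re ^ 2 + (θ a).im ^ 2 := by
      rw [Complex.sq_norm, Complex.normSq_apply]; ring
    have h8 : ‖θ a‖ ^ 2 ≤ (n : ℝ) ^ 2 := by
      gcongr
    rw [h5] at h7
    have h9 : (θ a).im ^ 2 ≤ 0 := by linarith
    have h10 : (θ a).im = 0 := by nlinarith [sq_nonneg (θ a).im]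
    simpa using h10

theorem exists_constituent {χ : L → ℂ} (hχ : IsIrrCharacter L χ) (a : K) (h : χ a ≠ χ 1) :
    ∃ θ : IrrCharacter K, (θ : K → ℂ) a ≠ (θ : K → ℂ) 1 ∧
      Cfsg.classInner (resFun K χ) (θ : K → ℂ) ≠ 0 := by
  classical
  obtain ⟨m, hm, heq⟩ := IsCharacter.exists_eq_sum (isCharacter_resFun K (IsIrrCharacter.isCharacter hχ))
  by_contra hcon
  push Not at hcon
  apply h
  have h1 : ∀ b : K, χ b = ∑ ψ : IrrCharacter K, (m ψ : ℂ) * (ψ : K → ℂ) b := by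
    intro b
    have := congrFun heq b
    simpa [resFun, Finset.sum_apply] using this
  have hone : (1 : L) = ((1 : K) : L) := rfl
  rw [h1 a, hone, h1 1]
  refine Finset.sum_congr rfl fun ψ _ => ?_
  by_cases hψ : (m ψ : ℂ) = 0
  · rw [hψ]; ring
  · have : (ψ : K → ℂ) a = (ψ : K → ℂ) 1 := by
      by_contra hne
      apply hψ
      rw [← hm ψ]
      exact hcon ψ hne
    rw [this]

theorem deg_sq_mul_card_le {K₀ : Type*} [Group K₀] [Fintype K₀] {θ : K₀ → ℂ}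
    (hθ : IsIrrCharacter K₀ θ) (Z₀ : Subgroup K₀) (hZ : Z₀ ≤ Subgroup.center K₀) {d : ℕ}
    (hd : θ 1 = d) : d ^ 2 * Nat.card Z₀ ≤ Nat.card K₀ := by
  classical
  have h1 : Cfsg.classInner θ θ = 1 := classInner_irr_self hθ
  have h2 : (∑ g : K₀, θ g * conj (θ g)) = (Nat.card K₀ : ℂ) := by
    rw [Cfsg.classInner] at h1
    have hK0 : (Nat.card K₀ : ℂ) ≠ 0 := by exact_mod_cast Nat.card_pos.ne'
    field_simp at h1
    exact h1
  have h3 : ∀ g : K₀, θ g * conj (θ g) = ((‖θ g‖ ^ 2 : ℝ) : ℂ) := by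
    intro g
    rw [Complex.mul_conj, Complex.normSq_eq_norm_sq]
  have h4 : (∑ g : K₀, ‖θ g‖ ^ 2) = (Nat.card K₀ : ℝ) := by
    have : ((∑ g : K₀, ‖θ g‖ ^ 2 : ℝ) : ℂ) = ((Nat.card K₀ : ℝ) : ℂ) := by
      push_cast
      rw [← h2]
      refine Finset.sum_congr rfl fun g _ => ?_
      rw [h3]
      push_cast
      rfl
    exact_mod_cast this
  have h5 : ∑ g ∈ Finset.univ.filter (· ∈ Z₀), ‖θ g‖ ^ 2 ≤ ∑ g : K₀, ‖θ g‖ ^ 2 :=
    Finset.sum_le_sum_of_subset_of_nonneg (Finset.filter_subset _ _) (fun _ _ _ => by positivity)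
  have h6 : ∀ g ∈ Finset.univ.filter (· ∈ Z₀), ‖θ g‖ ^ 2 = (d : ℝ) ^ 2 := by
    intro g hg
    have h7 := mul_conj_center_eq hθ (hZ (Finset.mem_filter.mp hg).2)
    rw [h3, hd] at h7
    exact_mod_cast h7
  rw [Finset.sum_congr rfl h6, Finset.sum_const, h4, nsmul_eq_mul] at h5
  have h8 : (Finset.univ.filter (· ∈ Z₀)).card = Nat.card Z₀ := by
    rw [Nat.card_eq_fintype_card, Fintype.card_subtype]
  rw [h8] at h5
  have h9 : ((Nat.card Z₀ * d ^ 2 : ℕ) : ℝ) ≤ (Nat.card K₀ : ℝ) := by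
    push_cast
    exact h5
  have h10 := Nat.cast_le.mp h9
  rwa [mul_comm] at h10

variable (Z : Subgroup L) [Z.Normal]

open scoped Classical in
noncomputable def thetaZ : Finset (IrrCharacter K) := aboveFin K ⊥ \ aboveFin K Z

theorem mem_thetaZ {θ : IrrCharacter K} :
    θ ∈ thetaZ K Z ↔ ∃ a : K, (a : L) ∈ Z ∧ (θ : K → ℂ) a ≠ (θ : K → ℂ) 1 := by
  classical
  simp only [thetaZ, Finset.mem_sdiff, mem_aboveFin]
  constructor
  · rintro ⟨⟨h1, -⟩, h2⟩
    by_contra h3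
    push Not at h3
    exact h2 ⟨h1, h3⟩
  · rintro ⟨a, ha, hne⟩
    refine ⟨⟨?_, ?_⟩, ?_⟩
    · intro h
      apply hne
      rw [h]
    · intro b hb
      have hb1 : b = 1 := Subtype.ext (by simpa using hb)
      rw [hb1]
    · rintro ⟨-, h⟩
      exact hne (h a ha)

theorem ind_ne_zero (θ : IrrCharacter K) : indFun K (θ : K → ℂ) ≠ 0 := by
  intro h
  have h1 := congrFun h 1
  rw [indFun_one] at h1
  have h2 : (K.index : ℂ) ≠ 0 := by exact_mod_cast (Subgroup.index_ne_zero_of_finite (H := K))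
  exact mul_ne_zero h2 (IsIrrCharacter.apply_one_ne_zero θ.2) h1

theorem ind_mem {θ : IrrCharacter K} (h : θ ∈ thetaZ K Z) :
    indFun K (θ : K → ℂ) ∈ Cfsg.inducedIrrAbove K ⊥ \ Cfsg.inducedIrrAbove K Z := by
  classical
  obtain ⟨h1, h2⟩ := Finset.mem_sdiff.mp h
  refine ⟨indFun_mem_above K h1, ?_⟩
  rintro ⟨θ', h3, h4, h5, h6⟩
  have hmem : (⟨θ', h3⟩ : IrrCharacter K) ∈ aboveFin K Z := (mem_aboveFin K).mpr ⟨h4, h5⟩
  have h7 := inner_above_notMem K hmem h2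
  simp only at h7
  rw [← h6] at h7
  exact ind_ne_zero K θ (eq_zero_of_classInner_self h7)

theorem exists_rep {φ : L → ℂ}
    (h : φ ∈ Cfsg.inducedIrrAbove K ⊥ \ Cfsg.inducedIrrAbove K Z) :
    ∃ θ ∈ thetaZ K Z, φ = indFun K (θ : K → ℂ) := by
  classical
  obtain ⟨⟨θ, h1, h2, h3, rfl⟩, h4⟩ := h
  refine ⟨⟨θ, h1⟩, Finset.mem_sdiff.mpr ⟨(mem_aboveFin K).mpr ⟨h2, h3⟩, ?_⟩, rfl⟩
  intro h5
  exact h4 (indFun_mem_above K h5)

variable {K Z}

theorem fiber_sum
    (hirr : ∀ χ ∈ Cfsg.inducedIrrAbove K ⊥ \ Cfsg.inducedIrrAbove K Z, Cfsg.IsIrrCharacter L χ)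
    {θ₀ : IrrCharacter K} (h₀ : θ₀ ∈ thetaZ K Z) :
    open scoped Classical in
    ∑ θ ∈ (thetaZ K Z).filter (fun θ : IrrCharacter K => indFun K (θ : K → ℂ) = indFun K (θ₀ : K → ℂ)),
      (θ : K → ℂ) 1 = indFun K (θ₀ : K → ℂ) 1 := by
  classical
  obtain ⟨h01, h02⟩ := Finset.mem_sdiff.mp h₀
  have h := sum_above_inner K h01
  rw [← h]
  have hsub : thetaZ K Z ⊆ aboveFin K ⊥ := Finset.sdiff_subset
  rw [Finset.sum_filter, ← Finset.sum_subset hsub]
  · refine Finset.sum_congr rfl fun θ hθ => ?_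
    have hi1 := hirr _ (ind_mem K Z hθ)
    have hi2 := hirr _ (ind_mem K Z h₀)
    rw [classInner_irr hi1 hi2]
    split_ifs <;> simp
  · intro θ hθ hθ'
    have h3 : θ ∈ aboveFin K Z := by
      by_contra h4
      exact hθ' (Finset.mem_sdiff.mpr ⟨hθ, h4⟩)
    rw [inner_above_notMem K h3 h02, mul_zero]

theorem deg_ind (θ : K → ℂ) (hθ : IsCharacter K θ) :
    charDegree (indFun K θ) = K.index * charDegree θ := by
  apply charDegree_eq
  rw [indFun_one, apply_one_eq_charDegree hθ]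
  push_cast
  ring

theorem fiber_nat
    (hirr : ∀ χ ∈ Cfsg.inducedIrrAbove K ⊥ \ Cfsg.inducedIrrAbove K Z, Cfsg.IsIrrCharacter L χ)
    {θ₀ : IrrCharacter K} (h₀ : θ₀ ∈ thetaZ K Z) :
    open scoped Classical in
    K.index * ∑ θ ∈ (thetaZ K Z).filter (fun θ : IrrCharacter K => indFun K (θ : K → ℂ) = indFun K (θ₀ : K → ℂ)),
      charDegree (θ : K → ℂ) ^ 2 = charDegree (indFun K (θ₀ : K → ℂ)) ^ 2 := by
  classical
  have h1 := fiber_sum hirr h₀
  set φ := indFun K (θ₀ : K → ℂ) with hφ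
  have hc : IsCharacter L φ := isCharacter_indFun K (IsIrrCharacter.isCharacter θ₀.2)
  have h2 : ∑ θ ∈ (thetaZ K Z).filter (fun θ : IrrCharacter K => indFun K (θ : K → ℂ) = φ),
      charDegree (θ : K → ℂ) = charDegree φ := by
    have : ((∑ θ ∈ (thetaZ K Z).filter (fun θ : IrrCharacter K => indFun K (θ : K → ℂ) = φ),
      charDegree (θ : K → ℂ) : ℕ) : ℂ) = (charDegree φ : ℂ) := by
      rw [← apply_one_eq_charDegree hc, ← h1]
      push_cast
      refine Finset.sum_congr rfl fun θ _ => ?_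
      rw [apply_one_eq_charDegree (IsIrrCharacter.isCharacter θ.2)]
    exact_mod_cast this
  rw [Finset.mul_sum, sq (charDegree φ)]
  nth_rewrite 1 [← h2]
  rw [Finset.sum_mul]
  refine Finset.sum_congr rfl fun θ hθ => ?_
  have h3 : K.index * charDegree (θ : K → ℂ) = charDegree φ := by
    rw [← deg_ind _ (IsIrrCharacter.isCharacter θ.2), (Finset.mem_filter.mp hθ).2]
  rw [← h3]
  ring

open scoped Classical in
noncomputable def imgZ (K Z : Subgroup L) [K.Normal] [Z.Normal] [Fintype K] : Finset (L → ℂ) :=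
  (thetaZ K Z).image (fun θ : IrrCharacter K => indFun K (θ : K → ℂ))

theorem mem_imgZ {φ : L → ℂ} : φ ∈ imgZ K Z ↔
    φ ∈ Cfsg.inducedIrrAbove K ⊥ \ Cfsg.inducedIrrAbove K Z := by
  classical
  simp only [imgZ, Finset.mem_image]
  constructor
  · rintro ⟨θ, hθ, rfl⟩
    exact ind_mem K Z hθ
  · intro h
    obtain ⟨θ, hθ, rfl⟩ := exists_rep K Z h
    exact ⟨θ, hθ, rfl⟩

theorem sum_mass
    (hirr : ∀ χ ∈ Cfsg.inducedIrrAbove K ⊥ \ Cfsg.inducedIrrAbove K Z, Cfsg.IsIrrCharacter L χ) (B : ℕ) :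
    open scoped Classical in
    ∑ φ ∈ (imgZ K Z).filter (fun φ => charDegree φ < K.index * B), charDegree φ ^ 2 =
      K.index * ∑ θ ∈ (thetaZ K Z).filter (fun θ : IrrCharacter K => charDegree (θ : K → ℂ) < B),
        charDegree (θ : K → ℂ) ^ 2 := by
  classical
  have hpos : 0 < K.index := Nat.pos_of_ne_zero (Subgroup.index_ne_zero_of_finite (H := K))
  have hmaps : ∀ θ ∈ (thetaZ K Z).filter (fun θ : IrrCharacter K => charDegree (θ : K → ℂ) < B),
      indFun K (θ : K → ℂ) ∈ (imgZ K Z).filter (fun φ => charDegree φ < K.index * B) := by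
    intro θ hθ
    obtain ⟨h1, h2⟩ := Finset.mem_filter.mp hθ
    refine Finset.mem_filter.mpr ⟨mem_imgZ.mpr (ind_mem K Z h1), ?_⟩
    rw [deg_ind _ (IsIrrCharacter.isCharacter θ.2)]
    exact Nat.mul_lt_mul_of_pos_left h2 hpos
  rw [← Finset.sum_fiberwise_of_maps_to hmaps, Finset.mul_sum]
  refine Finset.sum_congr rfl fun φ hφ => ?_
  obtain ⟨hφ1, hφ2⟩ := Finset.mem_filter.mp hφ
  obtain ⟨θ₀, h₀, rfl⟩ := exists_rep K Z (mem_imgZ.mp hφ1)
  rw [← fiber_nat hirr h₀]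
  congr 1
  apply Finset.sum_congr _ fun _ _ => rfl
  ext θ
  simp only [Finset.mem_filter]
  constructor
  · rintro ⟨h1, h2⟩
    refine ⟨⟨h1, ?_⟩, h2⟩
    rw [← h2, deg_ind _ (IsIrrCharacter.isCharacter θ.2)] at hφ2
    exact Nat.lt_of_mul_lt_mul_left hφ2
  · rintro ⟨⟨h1, -⟩, h2⟩
    exact ⟨h1, h2⟩

theorem total_mass :
    ∑ θ ∈ thetaZ K Z, charDegree (θ : K → ℂ) ^ 2 + (Z.subgroupOf K).index = Nat.card K := by
  classical
  have h1 := sum_irr_trivial_on (Z.subgroupOf K)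
  have h2 := sum_irr_degree_sq (G := K)
  have h3 := Finset.sum_filter_add_sum_filter_not (Finset.univ : Finset (IrrCharacter K))
    (fun θ : IrrCharacter K => ∀ n : (Z.subgroupOf K), (θ : K → ℂ) n = (θ : K → ℂ) 1)
    (fun θ : IrrCharacter K => (θ : K → ℂ) 1 ^ 2)
  have h4 : (Finset.univ.filter (fun θ : IrrCharacter K =>
      ¬ ∀ n : (Z.subgroupOf K), (θ : K → ℂ) n = (θ : K → ℂ) 1)) = thetaZ K Z := by
    ext θ
    rw [mem_thetaZ]
    simp only [Finset.mem_filter, Finset.mem_univ, true_and]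
    constructor
    · intro h
      push Not at h
      obtain ⟨n, hn⟩ := h
      exact ⟨n, Subgroup.mem_subgroupOf.mp n.2, hn⟩
    · rintro ⟨a, ha, hne⟩ h
      exact hne (h ⟨a, Subgroup.mem_subgroupOf.mpr ha⟩)
  rw [h4, h2] at h3
  have h5 : ∑ θ ∈ Finset.univ.filter (fun θ : IrrCharacter K => ∀ n : (Z.subgroupOf K), (θ : K → ℂ) n = (θ : K → ℂ) 1),
      (θ : K → ℂ) 1 ^ 2 = ((Z.subgroupOf K).index : ℂ) := by
    rw [← h1]
  rw [h5] at h3
  have h6 : ((∑ θ ∈ thetaZ K Z, charDegree (θ : K → ℂ) ^ 2 + (Z.subgroupOf K).index : ℕ) : ℂ) =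
      (Nat.card K : ℂ) := by
    rw [← h3, add_comm]
    push_cast
    congr 1
    refine Finset.sum_congr rfl fun θ _ => ?_
    rw [apply_one_eq_charDegree (IsIrrCharacter.isCharacter θ.2)]
  exact_mod_cast h6

theorem key_bound
    (hirr : ∀ χ ∈ Cfsg.inducedIrrAbove K ⊥ \ Cfsg.inducedIrrAbove K Z, Cfsg.IsIrrCharacter L χ)
    (hZc : ∀ z ∈ Z, ∀ k ∈ K, z * k = k * z)
    {p m : ℕ} (hp : p.Prime) (hKp : Nat.card K = p ^ m) (hcop : Nat.Coprime p K.index)
    {θ₁ : IrrCharacter K} (hθ₁ : θ₁ ∈ thetaZ K Z)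
    (hne : ∃ φ, φ ∈ imgZ K Z ∧ charDegree φ < K.index * charDegree (θ₁ : K → ℂ)) :
    open scoped Classical in
    K.index ^ 2 * charDegree (θ₁ : K → ℂ) ^ 2 ≤
      ∑ φ ∈ (imgZ K Z).filter (fun φ => charDegree φ < K.index * charDegree (θ₁ : K → ℂ)), charDegree φ ^ 2 := by
  classical
  set t := charDegree (θ₁ : K → ℂ) with ht
  set e := K.index with he
  have hepos : 0 < e := Nat.pos_of_ne_zero (Subgroup.index_ne_zero_of_finite (H := K))
  -- prime powers
  have hpow : ∀ θ : IrrCharacter K, ∃ a, charDegree (θ : K → ℂ) = p ^ a := by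
    intro θ
    have h1 : charDegree (θ : K → ℂ) ∣ Nat.card K :=
      degree_dvd_card θ.2 (apply_one_eq_charDegree (IsIrrCharacter.isCharacter θ.2))
    rw [hKp] at h1
    obtain ⟨a, -, ha⟩ := (Nat.dvd_prime_pow hp).mp h1
    exact ⟨a, ha⟩
  obtain ⟨a, ha0⟩ := hpow θ₁
  have ha : t = p ^ a := ha0
  -- divisibility of the index
  have hidx : t ^ 2 ∣ (Z.subgroupOf K).index := by
    have h0 : Z.subgroupOf K ≤ Subgroup.center K := by
      intro z hz
      rw [Subgroup.mem_center_iff]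
      intro k
      exact Subtype.ext (hZc z (Subgroup.mem_subgroupOf.mp hz) k k.2).symm
    have h1 := deg_sq_mul_card_le θ₁.2 (Z.subgroupOf K) h0
      (apply_one_eq_charDegree (IsIrrCharacter.isCharacter θ₁.2))
    have h2 := Subgroup.card_mul_index (Z.subgroupOf K)
    rw [← h2, mul_comm] at h1
    have h3 : t ^ 2 ≤ (Z.subgroupOf K).index := Nat.le_of_mul_le_mul_left h1 Nat.card_pos
    have h4 : (Z.subgroupOf K).index ∣ p ^ m := by
      rw [← hKp]
      exact Subgroup.index_dvd_card _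
    obtain ⟨c, -, hc⟩ := (Nat.dvd_prime_pow hp).mp h4
    rw [hc] at h3 ⊢
    rw [ha, ← pow_mul] at h3 ⊢
    exact pow_dvd_pow _ ((Nat.pow_le_pow_iff_right hp.one_lt).mp h3)
  have hKdvd : t ^ 2 ∣ Nat.card K := by
    rw [← Subgroup.card_mul_index (Z.subgroupOf K)]
    exact Dvd.dvd.mul_left hidx _
  have htot : t ^ 2 ∣ ∑ θ ∈ thetaZ K Z, charDegree (θ : K → ℂ) ^ 2 := by
    have h := total_mass (K := K) (Z := Z)
    rw [← h] at hKdvd
    exact (Nat.dvd_add_left hidx).mp hKdvd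
  have hR : t ^ 2 ∣ ∑ θ ∈ (thetaZ K Z).filter (fun θ : IrrCharacter K => ¬ charDegree (θ : K → ℂ) < t),
      charDegree (θ : K → ℂ) ^ 2 := by
    refine Finset.dvd_sum fun θ hθ => ?_
    have h1 := (Finset.mem_filter.mp hθ).2
    obtain ⟨b, hb⟩ := hpow θ
    rw [hb, ha] at h1 ⊢
    have h2 : a ≤ b := by
      by_contra h3
      exact h1 (Nat.pow_lt_pow_right hp.one_lt (by omega))
    exact pow_dvd_pow_of_dvd (pow_dvd_pow _ h2) 2
  have hM : t ^ 2 ∣ ∑ θ ∈ (thetaZ K Z).filter (fun θ : IrrCharacter K => charDegree (θ : K → ℂ) < t),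
      charDegree (θ : K → ℂ) ^ 2 := by
    rw [← Finset.sum_filter_add_sum_filter_not (thetaZ K Z)
      (fun θ : IrrCharacter K => charDegree (θ : K → ℂ) < t)] at htot
    exact (Nat.dvd_add_left hR).mp htot
  have hmass := sum_mass hirr (K := K) (Z := Z) t
  -- degrees divisible by `e`
  have hdvd : ∀ φ ∈ imgZ K Z, e ∣ charDegree φ := by
    intro φ hφ
    obtain ⟨θ₀, -, rfl⟩ := exists_rep K Z (mem_imgZ.mp hφ)
    rw [deg_ind _ (IsIrrCharacter.isCharacter θ₀.2)]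
    exact dvd_mul_right _ _
  set U := (imgZ K Z).filter (fun φ => charDegree φ < e * t) with hU
  have hD : ∑ φ ∈ U, charDegree φ ^ 2 = e ^ 2 * ∑ φ ∈ U, (charDegree φ / e) ^ 2 := by
    rw [Finset.mul_sum]
    refine Finset.sum_congr rfl fun φ hφ => ?_
    obtain ⟨s, hs⟩ := hdvd φ (Finset.mem_filter.mp hφ).1
    rw [hs, Nat.mul_div_cancel_left _ hepos]
    ring
  set M' := ∑ φ ∈ U, (charDegree φ / e) ^ 2 with hM'
  have h5 : ∑ θ ∈ (thetaZ K Z).filter (fun θ : IrrCharacter K => charDegree (θ : K → ℂ) < t),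
      charDegree (θ : K → ℂ) ^ 2 = e * M' := by
    apply Nat.eq_of_mul_eq_mul_left hepos
    rw [← hmass, hD]
    ring
  rw [h5] at hM
  have hcop2 : Nat.Coprime (t ^ 2) e := by
    rw [ha]
    exact Nat.Coprime.pow_left _ (Nat.Coprime.pow_left _ hcop)
  have h6 : t ^ 2 ∣ M' := hcop2.dvd_of_dvd_mul_left hM
  have h7 : 0 < M' := by
    obtain ⟨φ, hφ1, hφ2⟩ := hne
    have hφU : φ ∈ U := Finset.mem_filter.mpr ⟨hφ1, hφ2⟩
    obtain ⟨θ₀, h₀, rfl⟩ := exists_rep K Z (mem_imgZ.mp hφ1)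
    have h8 : 0 < (charDegree (indFun K (θ₀ : K → ℂ)) / e) ^ 2 := by
      rw [deg_ind _ (IsIrrCharacter.isCharacter θ₀.2), Nat.mul_div_cancel_left _ hepos]
      have : 0 < charDegree (θ₀ : K → ℂ) := by
        obtain ⟨n, hn, h1⟩ := IsIrrCharacter.apply_one θ₀.2
        rw [charDegree_eq h1]
        exact hn
      positivity
    exact lt_of_lt_of_le h8 (Finset.single_le_sum (f := fun φ => (charDegree φ / e) ^ 2)
      (fun _ _ => Nat.zero_le _) hφU)
  have h8 := Nat.le_of_dvd h7 h6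
  rw [hD]
  exact Nat.mul_le_mul_left _ h8

end Aux

end Cfsg.Agent.Lib.OddChar
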